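import Cfsg.Agent.Lib.Phan.Cover

/-!
The amalgam of the stabiliser of a coordinate vector and a small block completes to the special unitary group.
-/

set_option autoImplicit false
set_option linter.unusedSectionVars false
set_option linter.unusedSimpArgs false
set_option linter.style.show false
set_option maxHeartbeats 1000000

namespace Cfsg.Agent.Phan

open Matrix
open Cfsg.Agent.AutPSU (Conj h act act_mul act_one act_inv_act act_pres ext_act isHerm add_left add_right smul_left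
  smul_right sub_left sub_right zero_left self_fixed eq_zero_comm)

variable {F : Type*} [Field F] [Fintype F] {q : ℕ}

local notation "SU[" n "]" => Cfsg.SU n F q
local notation "𝕙" => h (q := q)

theorem ext_bv {n : ℕ} {s t : SU[n]} (H : ∀ i, act s (bv i) = act t (bv i)) : s = t :=
  Subtype.ext (Subtype.ext (Matrix.ext_of_mulVec_single fun i => H i))

theorem h_act_left {n : ℕ} (s : SU[n]) (u v : Fin n → F) : 𝕙 (act s u) v = 𝕙 u (act s⁻¹ v) := by
  rw [← act_pres s u (act s⁻¹ v), AutPSU.act_act_inv]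

section blocks

variable {n k : ℕ} (o : ℕ) (ho : o + k ≤ n)

theorem blk_inl (a : Fin k) : blk o ho (.inl a) = ⟨o + a, by omega⟩ := rfl

theorem emb_in (s : SU[k]) (v : Fin n → F) (a : Fin k) (i : Fin n) (hi : (i : ℕ) = o + a) :
    act (emb o ho s : SU[n]) v i = act s (fun b : Fin k => v ⟨o + b, by omega⟩) a := by
  obtain rfl : i = blk o ho (.inl a) := Fin.ext hi
  rw [emb_act, Function.comp_apply, Equiv.symm_apply_apply, Sum.elim_inl]
  rfl

theorem emb_out (s : SU[k]) (v : Fin n → F) {i : Fin n} (hi : (i : ℕ) < o ∨ o + k ≤ i) :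
    act (emb o ho s : SU[n]) v i = v i := by
  obtain ⟨x, rfl⟩ := (blk o ho).surjective i
  rw [emb_act, Function.comp_apply, Equiv.symm_apply_apply]
  rcases x with a | b
  · exact absurd hi (by rw [blk_inl]; simp)
  · rfl

/-- The image of a coordinate vector of the block. -/
theorem emb_bv_eq (s : SU[k]) (a b : Fin k) (i j : Fin n) (hi : (i : ℕ) = o + a) (hj : (j : ℕ) = o + b)
    (hs : act s (bv a) = bv b) : act (emb o ho s : SU[n]) (bv i) = bv j := by
  funext x
  by_cases hx : (x : ℕ) < o ∨ o + k ≤ x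
  · rw [emb_out o ho s _ hx]
    have h1 : x ≠ i := fun e => by rw [e, hi] at hx; omega
    have h2 : x ≠ j := fun e => by rw [e, hj] at hx; omega
    simp [bv, h1, h2]
  · rw [emb_in o ho s _ (⟨(x : ℕ) - o, by omega⟩) x (by simp; omega),
      show (fun c : Fin k => (bv i : Fin n → F) ⟨o + c, by omega⟩) = bv a from funext fun c => by
        simp [bv, Pi.single_apply, Fin.ext_iff, hi], hs]
    simp only [bv, Pi.single_apply, Fin.ext_iff]
    refine if_congr ?_ rfl rfl
    omega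

theorem emb_comm {k' : ℕ} (o' : ℕ) (ho' : o' + k' ≤ n) (hd : o + k ≤ o') (s : SU[k]) (t : SU[k']) :
    Commute (emb o ho s : SU[n]) (emb o' ho' t) := by
  refine ext_act fun v => funext fun x => ?_
  rw [act_mul, act_mul]
  by_cases hx : (x : ℕ) < o ∨ o + k ≤ x
  · rw [emb_out o ho s _ hx]
    by_cases hx' : (x : ℕ) < o' ∨ o' + k' ≤ x
    · rw [emb_out o' ho' t _ hx', emb_out o' ho' t _ hx', emb_out o ho s _ hx]
    · rw [emb_in o' ho' t _ (⟨(x : ℕ) - o', by omega⟩) x (by simp; omega),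
        emb_in o' ho' t _ (⟨(x : ℕ) - o', by omega⟩) x (by simp; omega)]
      congr 2
      funext b
      rw [emb_out o ho s _ (Or.inr (show o + k ≤ o' + (b : ℕ) by omega))]
  · rw [emb_in o ho s _ (⟨(x : ℕ) - o, by omega⟩) x (by simp; omega),
      emb_out o' ho' t _ (Or.inl (show (x : ℕ) < o' by omega)),
      emb_in o ho s _ (⟨(x : ℕ) - o, by omega⟩) x (by simp; omega)]
    congr 2
    funext b
    rw [emb_out o' ho' t _ (Or.inl (show o + (b : ℕ) < o' by omega))]

theorem emb_emb {l : ℕ} (o' : ℕ) (ho' : o' + l ≤ k) (o'' : ℕ) (ho'' : o'' + l ≤ n) (he : o'' = o + o')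
    (s : SU[l]) : (emb o ho (emb o' ho' s) : SU[n]) = emb o'' ho'' s := by
  subst he
  refine ext_act fun v => funext fun x => ?_
  by_cases hx : (x : ℕ) < o ∨ o + k ≤ x
  · rw [emb_out o ho _ _ hx, emb_out _ ho'' s _ (by omega)]
  · rw [emb_in o ho _ _ (⟨(x : ℕ) - o, by omega⟩) x (by simp; omega)]
    by_cases hx' : (x : ℕ) - o < o' ∨ o' + l ≤ (x : ℕ) - o
    · rw [emb_out o' ho' s _ (i := (⟨(x : ℕ) - o, by omega⟩ : Fin k)) hx', emb_out _ ho'' s _ (by omega)]
      exact congrArg v (Fin.ext (show o + ((x : ℕ) - o) = x by omega))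
    · rw [emb_in o' ho' s _ (⟨(x : ℕ) - o - o', by omega⟩) _ (by simp; omega),
        emb_in (o + o') ho'' s _ (⟨(x : ℕ) - o - o', by omega⟩) x (by simp; omega)]
      congr 2
      funext b
      exact congrArg v (Fin.ext (show o + (o' + (b : ℕ)) = o + o' + b by omega))

end blocks

/-- The small block. -/
abbrev E0 (m : ℕ) : SU[m] →* SU[m + 1] := emb 0 (show 0 + m ≤ m + 1 by omega)

/-- The last block of three. -/
abbrev E1 (m : ℕ) (hm : 3 ≤ m) : SU[3] →* SU[m + 1] := emb (m - 2) (show m - 2 + 3 ≤ m + 1 by omega)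

/-- The generated group of pairs. -/
def Gam {G : Type*} [Group G] {m : ℕ} (hm : 3 ≤ m) (f0 : SU[m] →* G) (f1 : SU[3] →* G) (w : SU[3]) :
    Subgroup (SU[m + 1] × G) :=
  Subgroup.closure (Set.range ((E0 (F := F) (q := q) m).prod f0) ∪ {((E1 m hm).prod f1) w})

variable (C : Conj F q) (hF : Fintype.card F = q ^ 2)
include C hF

theorem exists_map_one {n : ℕ} (hn : 2 ≤ n) {x y : Fin n → F} (hx : 𝕙 x x = 1) (hy : 𝕙 y y = 1) :
    ∃ s : SU[n], act s x = y := by
  obtain ⟨s, hs⟩ := exists_su C (m := 1) (by omega) (x := fun _ => x) (y := fun _ => y)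
    (fun i j => by fin_cases i; fin_cases j; simpa using hx) (fun i j => by fin_cases i; fin_cases j; simpa using hy)
  exact ⟨s, hs 0⟩

theorem exists_map_two {n : ℕ} (hn : 3 ≤ n) {x x' y y' : Fin n → F} (hx : 𝕙 x x = 1) (hx' : 𝕙 x' x' = 1)
    (hxx : 𝕙 x x' = 0) (hy : 𝕙 y y = 1) (hy' : 𝕙 y' y' = 1) (hyy : 𝕙 y y' = 0) :
    ∃ s : SU[n], act s x = y ∧ act s x' = y' := by
  obtain ⟨s, hs⟩ := exists_su C (m := 2) (by omega) (gram_pair C hF hx hx' hxx) (gram_pair C hF hy hy' hyy)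
  exact ⟨s, hs 0, hs 1⟩

omit hF in
theorem bv_unit {n : ℕ} (i : Fin n) : 𝕙 (bv i : Fin n → F) (bv i) = 1 := by rw [h_bv C, if_pos rfl]

omit hF in
theorem bv_orth {n : ℕ} {i j : Fin n} (hij : i ≠ j) : 𝕙 (bv i : Fin n → F) (bv j) = 0 := by
  rw [h_bv C, if_neg hij]

/-- An element exchanging the ends of the last pair. -/
theorem exists_w2 : ∃ s : SU[2], act s (bv 1) = bv 0 :=
  exists_map_one C hF le_rfl (bv_unit C 1) (bv_unit C 0)

/-- A block and one more element generate. -/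
theorem gen_step (hq : 3 ≤ q) {k : ℕ} (hk : 2 ≤ k) (H : Subgroup SU[k + 1])
    (hH : ∀ s : SU[k], emb 0 (show 0 + k ≤ k + 1 by omega) s ∈ H) (w : SU[k + 1]) (hw : w ∈ H)
    (hwe : act w (bv (Fin.last k)) = bv ⟨k - 1, by omega⟩) : H = ⊤ := by
  set e : Fin (k + 1) → F := bv (Fin.last k) with he
  have eu : 𝕙 e e = 1 := bv_unit C _
  have hk0 : (0 : ℕ) + k ≤ k + 1 := by omega
  have low : ∀ v, 𝕙 v v = 1 → 𝕙 v e = 0 → ∃ γ ∈ H, act γ e = v := by
    intro v hv hve
    set u : Fin k → F := fun a => v ⟨0 + a, by omega⟩ with hu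
    have hu1 : 𝕙 u u = 1 := by
      rw [← hv]
      show ∑ i, _ = ∑ i, _
      rw [Fin.sum_univ_castSucc (n := k)]
      have : v (Fin.last k) = 0 := by rw [← h_bv_right C v (Fin.last k)]; exact hve
      rw [this, zero_mul, add_zero]
      refine Finset.sum_congr rfl fun a _ => ?_
      simp [u]
      rfl
    obtain ⟨s, hs⟩ := exists_map_one C hF hk (bv_unit C ⟨k - 1, by omega⟩) hu1
    refine ⟨emb 0 hk0 s * w, mul_mem (hH s) hw, ?_⟩
    rw [act_mul, hwe]
    funext x
    by_cases hx : (x : ℕ) < k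
    · rw [emb_in 0 hk0 s _ ⟨x, hx⟩ x (by simp),
        show (fun c : Fin k => (bv (⟨k - 1, by omega⟩ : Fin (k + 1)) : Fin (k + 1) → F) ⟨0 + c, by omega⟩) =
          bv ⟨k - 1, by omega⟩ from funext fun c => by simp [bv, Pi.single_apply, Fin.ext_iff], hs]
      simp [u]
    · rw [emb_out 0 hk0 s _ (Or.inr (by omega)), show x = Fin.last k from Fin.ext (by simp; omega)]
      rw [show v (Fin.last k) = 𝕙 v (bv (Fin.last k)) from (h_bv_right C v (Fin.last k)).symm,
        show 𝕙 v (bv (Fin.last k)) = 0 from hve]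
      exact Pi.single_eq_of_ne (fun e' => by simp [Fin.ext_iff] at e'; omega) _
  have step : ∀ v, 𝕙 v v = 1 → ∀ γ ∈ H, 𝕙 v (act γ e) = 0 → ∃ δ ∈ H, act δ e = v := by
    intro v hv γ hγ hvg
    obtain ⟨δ, hδ, hδe⟩ := low (act γ⁻¹ v) (by rw [act_pres]; exact hv) (by rw [h_act_left, inv_inv]; exact hvg)
    exact ⟨γ * δ, mul_mem hγ hδ, by rw [act_mul, hδe, AutPSU.act_act_inv]⟩
  have nd : ∀ v, 𝕙 v v = 1 → N C (𝕙 v e) ≠ 1 → ∀ γ ∈ H, ∃ δ ∈ H, act δ e = act γ v := by
    intro v hv hne γ hγ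
    set w' := v - 𝕙 v e • e with hw'
    have we : 𝕙 w' e = 0 := by rw [hw', sub_left C, smul_left C, eu, mul_one, sub_self]
    have ww : 𝕙 w' w' ≠ 0 := by
      rw [hw', sub_left C, sub_right C, sub_right C, smul_left C, smul_left C, smul_right C, smul_right C, hv, eu,
        AutPSU.symm C v e]
      intro e0; apply hne; rw [N]; linear_combination -e0
    obtain ⟨g, g1, go⟩ := exists_perp_unit C ![e, w'] (by
      intro c hc
      have e0 := hc 0
      have e1 := hc 1
      simp [Fin.sum_univ_two, eu, we, (eq_zero_comm C).1 we, ww] at e0 e1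
      funext i; fin_cases i
      exacts [e0, e1]) (by omega)
    obtain ⟨γ', hγ', hg'⟩ := low g g1 (go 0)
    have hgv : 𝕙 g v = 0 := by
      rw [show v = w' + 𝕙 v e • e by rw [hw']; abel, add_right C, smul_right C]
      have a0 : 𝕙 g e = 0 := go 0
      have a1 : 𝕙 g w' = 0 := go 1
      rw [a0, a1]; ring
    obtain ⟨δ, hδ, hδe⟩ := step v hv γ' hγ' (by rw [hg']; exact (eq_zero_comm C).1 hgv)
    exact ⟨γ * δ, mul_mem hγ hδ, by rw [act_mul, hδe]⟩
  have all : ∀ v, 𝕙 v v = 1 → ∃ γ ∈ H, act γ e = v := by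
    intro v hv
    by_cases hne : N C (𝕙 v e) = 1
    swap
    · obtain ⟨δ, hδ, hd⟩ := nd v hv hne 1 (one_mem H)
      exact ⟨δ, hδ, by rw [hd, act_one]⟩
    set r := v - 𝕙 v e • e with hr
    have re : 𝕙 r e = 0 := by rw [hr, sub_left C, smul_left C, eu, mul_one, sub_self]
    have rr : 𝕙 r r = 0 := by
      rw [hr, sub_left C, sub_right C, sub_right C, smul_left C, smul_left C, smul_right C, smul_right C, hv, eu,
        AutPSU.symm C v e]
      rw [N] at hne; linear_combination -hne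
    obtain ⟨y0, y1, ye⟩ := exists_perp_unit C ![e]
      (ON.gram C (q := q) (fun i j => by fin_cases i; fin_cases j; simp [eu])) (by omega)
    have y0e : 𝕙 y0 e = 0 := ye 0
    obtain ⟨v1, v1u, v1e, v1v⟩ : ∃ v1, 𝕙 v1 v1 = 1 ∧ 𝕙 v1 e = 0 ∧ N C (𝕙 v v1) ≠ 1 := by
      have hv1 : ∀ u, 𝕙 u e = 0 → 𝕙 v u = C.σ (𝕙 u r) := fun u hu => by
        rw [AutPSU.symm C u v, show v = r + 𝕙 v e • e by rw [hr]; abel, add_right C, smul_right C, hu, mul_zero,
          add_zero]
      by_cases hg : N C (𝕙 y0 r) = 1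
      swap
      · exact ⟨y0, y1, y0e, by rwa [hv1 y0 y0e, show N C (C.σ (𝕙 y0 r)) = N C (𝕙 y0 r) by
          simp [N, C.invol, mul_comm]]⟩
      set g := 𝕙 y0 r with hgdef
      have hgs : C.σ g ≠ 0 := fun e' => by rw [(map_eq_zero C.σ).1 e', N_zero C] at hg; exact zero_ne_one hg
      obtain ⟨t, ht1, ht2⟩ := exists_avoid C hF hq (C.σ g) (C.σ g) 0 0 (-1) 0 (Or.inl (by simp))
        (Or.inr (Or.inr hgs))
      simp only [mul_zero, add_zero] at ht1 ht2
      set u0 := y0 + t • r with hu0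
      have uu0 : 𝕙 u0 u0 = 1 + (t * C.σ g + C.σ (t * C.σ g)) := by
        simp [u0, add_left C, add_right C, smul_left C, smul_right C, y1, rr, map_mul, C.invol,
          show 𝕙 r y0 = C.σ g from AutPSU.symm C y0 r, ← hgdef]
        ring
      obtain ⟨γ, hγ, hγ1⟩ := exists_scale C (self_fixed C u0)
        (by rw [uu0]; exact fun e' => ht1 (by linear_combination e'))
      have ue : 𝕙 (γ • u0) e = 0 := by simp [u0, smul_left C, add_left C, y0e, re]
      refine ⟨γ • u0, by rw [h_smul_self C, hγ1], ue, ?_⟩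
      rw [hv1 _ ue, show 𝕙 (γ • u0) r = γ * g by simp [u0, smul_left C, add_left C, rr, ← hgdef],
        show N C (C.σ (γ * g)) = N C γ * N C g by simp [N, C.invol]; ring, hg, mul_one]
      intro e'
      rw [e', one_mul, uu0] at hγ1
      exact ht2 (by linear_combination hγ1)
    obtain ⟨γ, hγ, hγe⟩ := low v1 v1u v1e
    obtain ⟨δ, hδ, hδe⟩ := nd (act γ⁻¹ v) (by rw [act_pres]; exact hv)
      (by rw [h_act_left, inv_inv, hγe]; exact v1v) γ hγ
    exact ⟨δ, hδ, by rw [hδe, AutPSU.act_act_inv]⟩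
  refine eq_top_iff.2 fun s _ => ?_
  obtain ⟨γ, hγ, hγe⟩ := all (act s e) (by rw [act_pres]; exact eu)
  obtain ⟨t, ht⟩ := emb_range (F := F) (q := q) 0 hk0 C (γ⁻¹ * s) fun i hi => by
    obtain rfl : i = Fin.last k := Fin.ext (by simp; omega)
    rw [← he, act_mul, ← hγe, act_inv_act]
  have hs : s = γ * emb 0 hk0 t := by rw [ht, mul_inv_cancel_left]
  rw [hs]
  exact mul_mem hγ (hH t)

/-- Adjacent pairs generate. -/
theorem gen_two (hq : 3 ≤ q) : ∀ {k : ℕ}, 2 ≤ k → ∀ (H : Subgroup SU[k]),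
    (∀ (i : ℕ) (hi : i + 2 ≤ k) (s : SU[2]), emb i hi s ∈ H) → H = ⊤ := by
  intro k hk
  induction k, hk using Nat.le_induction with
  | base =>
    intro H hH
    refine eq_top_iff.2 fun s _ => ?_
    have e : (emb 0 (show 0 + 2 ≤ 2 by omega) s : SU[2]) = s := ext_act fun v => funext fun x => by
      rw [emb_in 0 (show 0 + 2 ≤ 2 by omega) s v x x (by simp)]
      simp
    exact e ▸ hH 0 (by omega) s
  | succ k hk ih =>
    intro H hH
    obtain ⟨w2, hw2⟩ := exists_w2 C hF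
    have hall := ih (H.comap (emb 0 (show 0 + k ≤ k + 1 by omega))) fun i hi s => by
      rw [Subgroup.mem_comap, emb_emb 0 _ i hi i (by omega) (by omega) s]
      exact hH i (by omega) s
    exact gen_step C hF hq hk H (fun s => Subgroup.mem_comap.1 (hall ▸ Subgroup.mem_top s))
      (emb (k - 1) (show k - 1 + 2 ≤ k + 1 by omega) w2) (hH _ _ w2)
      (emb_bv_eq (k - 1) _ w2 1 0 _ _ (by simp; omega) (by simp) hw2)

/-- An element moving the last coordinate of three to the middle one. -/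
noncomputable def w3 : SU[3] := emb 1 (show 1 + 2 ≤ 3 by omega) (exists_w2 C hF).choose

section stage

theorem w3_bv : act (w3 C hF) (bv 2) = (bv 1 : Fin 3 → F) ∧ act (w3 C hF) (bv 0) = (bv 0 : Fin 3 → F) := by
  refine ⟨emb_bv_eq 1 _ _ 1 0 2 1 (by simp) (by simp) (exists_w2 C hF).choose_spec, ?_⟩
  exact emb_fix 1 _ _ (Or.inl (by simp))

/-- The amalgam completes. -/
theorem stage {G : Type*} [Group G] {m : ℕ} (hm : 3 ≤ m) (f0 : SU[m] →* G) (f1 : SU[3] →* G) (hq : 3 ≤ q) (hc45 : 4 ≤ q ∨ 5 ≤ m + 1) (hcompat : ∀ s : SU[2], f0 (emb (m - 2) (show m - 2 + 2 ≤ m by omega) s) =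
      f1 (emb 0 (show 0 + 2 ≤ 3 by omega) s))
    (hcomm : ∀ (s : SU[2]) (t : SU[m - 1]),
      Commute (S := G) (f1 (emb 1 (show 1 + 2 ≤ 3 by omega) s)) (f0 (emb 0 (show 0 + (m - 1) ≤ m by omega) t))) :
    ∃ f : SU[m + 1] →* G, (∀ s, f (E0 m s) = f0 s) ∧ ∀ s, f (E1 m hm s) = f1 s := by
  set Γ := Gam hm f0 f1 (w3 C hF) with hΓ
  have h12 : (1 : ℕ) + 2 ≤ 3 := by omega
  have h02 : (0 : ℕ) + 2 ≤ 3 := by omega
  have hm2 : m - 2 + 2 ≤ m := by omega
  have hm1 : 0 + (m - 1) ≤ m := by omega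
  let eM : Fin (m + 1) → F := bv (Fin.last m)
  let i1 : Fin (m + 1) := ⟨m - 1, by omega⟩
  let i2 : Fin (m + 1) := ⟨m - 2, by omega⟩
  -- the pairs
  have mem0 : ∀ t, ((E0 m).prod f0) t ∈ Γ := fun t => Subgroup.subset_closure (Or.inl ⟨t, rfl⟩)
  have key0 : ∀ s : SU[2], ((E1 m hm).prod f1) (emb 0 h02 s) = ((E0 m).prod f0) (emb (m - 2) hm2 s) := fun s =>
    Prod.ext (by
      show E1 m hm (emb 0 h02 s) = E0 m (emb (m - 2) hm2 s)
      rw [E1, E0, emb_emb (m - 2) _ 0 h02 (m - 2) (by omega) (by omega),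
        emb_emb 0 _ (m - 2) hm2 (m - 2) (by omega) (by omega)]) (hcompat s).symm
  have mem1 : ∀ k, ((E1 m hm).prod f1) k ∈ Γ := by
    have := gen_step C hF hq (k := 2) le_rfl (Γ.comap ((E1 m hm).prod f1))
      (fun s => by rw [Subgroup.mem_comap, key0]; exact mem0 _) (w3 C hF)
      (Subgroup.subset_closure (Or.inr rfl)) (w3_bv C hF).1
    exact fun k => Subgroup.mem_comap.1 (this ▸ Subgroup.mem_top k)
  let g0 : SU[m] → Γ := fun t => ⟨_, mem0 t⟩
  let g1 : SU[3] →* Γ := ((E1 m hm).prod f1).codRestrict Γ mem1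
  let S : Subgroup Γ := ((E0 m).prod f0).range.subgroupOf Γ
  let x0 : Γ ⧸ S := QuotientGroup.mk 1
  have hx0 : ∀ γ : Γ, γ • x0 = QuotientGroup.mk γ := fun γ => by
    show QuotientGroup.mk (γ * 1) = _; rw [mul_one]
  have hfix : ∀ t, g0 t • x0 = x0 := fun t => by
    rw [hx0]; exact QuotientGroup.eq.2 (by rw [mul_one]; exact inv_mem ⟨t, rfl⟩)
  have hE0 : ∀ t : SU[m], act (E0 m t) eM = eM := fun t => emb_fix 0 _ t (Or.inr (by simp))
  -- the projection
  let p : Γ ⧸ S → Fin (m + 1) → F := fun x => Quotient.liftOn' x (fun γ => act γ.1.1 eM) fun γ δ e => by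
    obtain ⟨t, ht⟩ := QuotientGroup.leftRel_apply.1 e
    have h1 : (γ⁻¹ * δ : Γ).1.1 = E0 m t := by
      have := congrArg Prod.fst ht
      exact this.symm
    show act γ.1.1 eM = act δ.1.1 eM
    rw [show δ.1.1 = γ.1.1 * E0 m t by rw [← h1]; simp, act_mul, hE0]
  have pmk : ∀ γ : Γ, p (γ • x0) = act γ.1.1 eM := fun γ => by rw [hx0]; rfl
  have pact : ∀ (γ : Γ) x, p (γ • x) = act γ.1.1 (p x) := fun γ x => by
    obtain ⟨δ, rfl⟩ := QuotientGroup.mk_surjective x
    show act (γ * δ).1.1 eM = act γ.1.1 (act δ.1.1 eM)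
    rw [← act_mul]; rfl
  -- the small block
  have h1bv : ∀ (k : SU[3]) (a b : Fin 3) (i j : Fin (m + 1)), act k (bv a) = bv b → (i : ℕ) = m - 2 + a →
      (j : ℕ) = m - 2 + b → act (g1 k).1.1 (bv i) = bv j := fun k a b i j hk hi hj =>
    emb_bv_eq (m - 2) (show m - 2 + 3 ≤ m + 1 by omega) k a b i j hi hj hk
  have l1 : ∀ k k' : SU[3], act k (bv 2) = act k' (bv 2) → g1 k • x0 = g1 k' • x0 := by
    intro k k' e
    rw [hx0, hx0]
    refine QuotientGroup.eq.2 ?_
    obtain ⟨s, hs⟩ := emb_range (F := F) (q := q) 0 (show 0 + 2 ≤ 3 by omega) C (k⁻¹ * k') fun i hi => by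
      obtain rfl : i = 2 := Fin.ext (show (i : ℕ) = 2 by omega)
      rw [act_mul, ← e, act_inv_act]
    rw [← map_inv, ← map_mul, ← hs]
    exact ⟨emb (m - 2) hm2 s, (key0 s).symm⟩
  let y0 : Γ ⧸ S := g1 (w3 C hF) • x0
  have py0 : p y0 = bv i1 := by
    rw [pmk]
    exact h1bv _ 2 1 _ _ (w3_bv C hF).1 (by simp; omega) (by simp [i1]; omega)
  let Adj : Γ ⧸ S → Γ ⧸ S → Prop := fun x y => ∃ γ : Γ, x = γ • x0 ∧ y = γ • y0
  have aact : ∀ (δ : Γ) {x y}, Adj x y → Adj (δ • x) (δ • y) := fun δ x y ⟨γ, hx, hy⟩ =>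
    ⟨δ * γ, by rw [mul_smul, ← hx], by rw [mul_smul, ← hy]⟩
  have b21 : 𝕙 (bv 2 : Fin 3 → F) (bv 1) = 0 := bv_orth C (by decide)
  have asymm : ∀ {x y}, Adj x y → Adj y x := by
    rintro x y ⟨γ, rfl, rfl⟩
    refine aact γ ?_
    obtain ⟨k, k2, k1⟩ := exists_map_two C hF le_rfl (bv_unit C (2 : Fin 3)) (bv_unit C 1) b21 (bv_unit C 1)
      (bv_unit C 2) ((eq_zero_comm C).1 b21)
    refine ⟨g1 k, l1 _ _ (by rw [k2, (w3_bv C hF).1]), ?_⟩
    show x0 = g1 k • g1 (w3 C hF) • x0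
    rw [← mul_smul, ← map_mul, ← l1 1 (k * w3 C hF) (by rw [act_one, act_mul, (w3_bv C hF).1, k1]), map_one,
      one_smul]
  have stab : ∀ γ : Γ, γ • x0 = x0 → ∃ t, γ = g0 t := by
    intro γ e
    rw [hx0] at e
    have := QuotientGroup.eq.1 e
    rw [mul_one] at this
    obtain ⟨t, ht⟩ := inv_mem this
    refine ⟨t, ?_⟩
    rw [inv_inv] at ht
    exact Subtype.ext ht.symm
  let up : SU[m - 1] → Γ := fun t => g0 (emb 0 hm1 t)
  have upc : ∀ (t : SU[m - 1]) (s : SU[2]), up t * g1 (emb 1 h12 s) = g1 (emb 1 h12 s) * up t := fun t s =>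
    Subtype.ext (Prod.ext (by
      show E0 m (emb 0 hm1 t) * E1 m hm (emb 1 h12 s) = E1 m hm (emb 1 h12 s) * E0 m (emb 0 hm1 t)
      rw [E1, E0, emb_emb 0 _ 0 hm1 0 (by omega) rfl, emb_emb (m - 2) _ 1 h12 (m - 1) (by omega) (by omega)]
      exact (emb_comm 0 _ (m - 1) _ (by omega) t s).eq) (hcomm s t).symm.eq)
  have upfix : ∀ t, up t • y0 = y0 := fun t => by
    show up t • g1 (w3 C hF) • x0 = _
    rw [← mul_smul, show up t * g1 (w3 C hF) = g1 (w3 C hF) * up t from upc t _, mul_smul, hfix]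
  have low : ∀ (v : Fin (m + 1) → F) (l : ℕ) (hl : l ≤ m + 1), (∀ i : Fin (m + 1), l ≤ (i : ℕ) → v i = 0) →
      𝕙 v v = 1 → 𝕙 (fun a : Fin l => v ⟨0 + a, by omega⟩) (fun a : Fin l => v ⟨0 + a, by omega⟩) = 1 := by
    intro v l hl hz hv
    rw [← hv]
    show ∑ i, _ = ∑ i, _
    rw [← (blk 0 (show 0 + l ≤ m + 1 by omega)).sum_comp (fun i => v i * v i ^ q), Fintype.sum_sum_type,
      Finset.sum_eq_zero (s := (Finset.univ : Finset (Fin (m + 1 - l)))) (fun b _ => by
        rw [hz _ (by simp [blk]), zero_mul]), add_zero]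
    rfl
  have moveTo : ∀ (l : ℕ) (hl : 0 + l ≤ m + 1), 2 ≤ l → ∀ (v : Fin (m + 1) → F),
      (∀ i : Fin (m + 1), l ≤ (i : ℕ) → v i = 0) → 𝕙 v v = 1 →
      ∃ t : SU[l], act (emb 0 hl t : SU[m + 1]) (bv ⟨l - 1, by omega⟩) = v := by
    intro l hl h2 v hz hv
    obtain ⟨t, ht⟩ := exists_map_one C hF h2 (bv_unit C ⟨l - 1, by omega⟩) (low v l (by omega) hz hv)
    refine ⟨t, funext fun x => ?_⟩
    by_cases hx : (x : ℕ) < l
    · rw [emb_in 0 hl t _ ⟨x, hx⟩ x (by simp),
        show (fun c : Fin l => (bv (⟨l - 1, by omega⟩ : Fin (m + 1)) : Fin (m + 1) → F) ⟨0 + c, by omega⟩) =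
          bv ⟨l - 1, by omega⟩ from funext fun c => by simp [bv, Pi.single_apply, Fin.ext_iff], ht]
      simp
    · rw [emb_out 0 hl t _ (Or.inr (by omega)), hz x (by omega)]
      simp [bv, Pi.single_apply, Fin.ext_iff]; omega
  have alift : ∀ x v, 𝕙 v v = 1 → 𝕙 (p x) v = 0 → ∃ y, Adj x y ∧ p y = v := by
    intro x v hv hxv
    obtain ⟨γ, rfl⟩ : ∃ γ : Γ, γ • x0 = x :=
      ⟨_, (hx0 _).trans (Function.surjInv_eq QuotientGroup.mk_surjective x)⟩
    obtain ⟨t, ht⟩ := moveTo m (by omega) (by omega) (act γ.1.1⁻¹ v) (fun i hi => by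
      rw [show i = Fin.last m from Fin.ext (by simp; omega), ← h_bv_right C (act γ.1.1⁻¹ v) (Fin.last m), h_act_left, inv_inv, ← pmk]
      exact (eq_zero_comm C).1 hxv) (by rw [act_pres]; exact hv)
    refine ⟨(γ * g0 t) • y0, ⟨γ * g0 t, by rw [mul_smul, hfix], rfl⟩, ?_⟩
    rw [pact, py0]
    show act (γ.1.1 * E0 m t) (bv i1) = v
    rw [act_mul]
    exact (congrArg (act γ.1.1) ht).trans (AutPSU.act_act_inv _ _)
  have auniq0 : ∀ {y}, Adj x0 y → p y = bv i1 → y = y0 := by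
    rintro y ⟨γ, e1, rfl⟩ e2
    obtain ⟨t, rfl⟩ := stab γ e1.symm
    rw [pact, py0] at e2
    obtain ⟨t', ht'⟩ := emb_range (F := F) (q := q) 0 hm1 C t fun i hi => by
      funext a
      have h1 := congrFun e2 ⟨a, by omega⟩
      change act (E0 m t) (bv i1) _ = _ at h1
      rw [E0, emb_in 0 _ t _ a _ (by simp),
        show (fun c : Fin m => (bv i1 : Fin (m + 1) → F) ⟨0 + c, by omega⟩) = bv i from funext fun c => by
          simp only [bv, Pi.single_apply, Fin.ext_iff, i1]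
          refine if_congr ?_ rfl rfl
          omega] at h1
      rw [h1]
      simp only [bv, Pi.single_apply, Fin.ext_iff, i1]
      refine if_congr ?_ rfl rfl
      omega
    rw [← ht']
    exact upfix t'
  have auniq : ∀ {x y y'}, Adj x y → Adj x y' → p y = p y' → y = y' := by
    rintro x y y' ⟨γ, rfl, rfl⟩ a2 e
    have := aact γ⁻¹ a2
    rw [inv_smul_smul] at this
    rw [← auniq0 this (by rw [pact, ← e, ← pact, inv_smul_smul, py0]), smul_inv_smul]
  -- the third vertex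
  obtain ⟨u3, hu3⟩ := exists_map_one C hF (show 2 ≤ 3 by omega) (bv_unit C (2 : Fin 3)) (bv_unit C 0)
  let z1 : Γ ⧸ S := g1 u3 • x0
  have pz1 : p z1 = bv i2 := by
    rw [pmk]
    exact h1bv _ 2 0 _ _ hu3 (by simp; omega) (by simp [i2])
  have x0z1 : Adj x0 z1 := by
    obtain ⟨k, k2, k1⟩ := exists_map_two C hF le_rfl (bv_unit C (2 : Fin 3)) (bv_unit C 1) b21 (bv_unit C 2)
      (bv_unit C 0) (bv_orth C (by decide))
    refine ⟨g1 k, ?_, ?_⟩
    · rw [← l1 1 k (by rw [act_one, k2]), map_one, one_smul]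
    · show g1 u3 • x0 = g1 k • g1 (w3 C hF) • x0
      rw [← mul_smul, ← map_mul]
      exact l1 _ _ (by rw [act_mul, (w3_bv C hF).1, k1, hu3])
  have y0z1 : Adj y0 z1 := by
    obtain ⟨k, k2, k1⟩ := exists_map_two C hF le_rfl (bv_unit C (2 : Fin 3)) (bv_unit C 1) b21 (bv_unit C 1)
      (bv_unit C 0) (bv_orth C (by decide))
    refine ⟨g1 k, l1 _ _ (by rw [k2, (w3_bv C hF).1]), ?_⟩
    show g1 u3 • x0 = g1 k • g1 (w3 C hF) • x0
    rw [← mul_smul, ← map_mul]
    exact l1 _ _ (by rw [act_mul, (w3_bv C hF).1, k1, hu3])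
  have atri0 : ∀ {z}, Adj y0 z → 𝕙 eM (p z) = 0 → Adj x0 z := by
    intro z yz he
    obtain ⟨δ, d1, d2⟩ := yz
    have hzy : 𝕙 (p y0) (p z) = 0 := by
      rw [d1, d2, pact, pact, act_pres, py0]
      show 𝕙 (act (1 : SU[m + 1]) eM) _ = 0
      rw [act_one]; exact bv_orth C (fun e => by simp [Fin.ext_iff, i1] at e; omega)
    have hzu : 𝕙 (p z) (p z) = 1 := by rw [d2, pact, act_pres, py0]; exact bv_unit C _
    obtain ⟨t, ht⟩ := moveTo (m - 1) (by omega) (by omega) (p z) (fun i hi => by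
      rcases (show (i : ℕ) = m - 1 ∨ (i : ℕ) = m by omega) with e | e
      · rw [show i = i1 from Fin.ext e, ← h_bv_right C (p z) i1]
        exact (eq_zero_comm C).1 (py0 ▸ hzy)
      · rw [show i = Fin.last m from Fin.ext e, ← h_bv_right C (p z) (Fin.last m)]
        exact (eq_zero_comm C).1 he) hzu
    have hz : z = up t • z1 := auniq (y' := up t • z1) ⟨δ, d1, d2⟩
      (by have := aact (up t) y0z1; rwa [upfix] at this) (by
        rw [pact, pz1]
        show p z = act (E0 m (emb 0 hm1 t)) (bv i2)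
        rw [E0, emb_emb 0 _ 0 hm1 0 (by omega) rfl, ← ht]
        exact congrArg _ (congrArg bv (Fin.ext (by simp [i2]; omega))))
    rw [hz]
    have := aact (up t) x0z1
    rwa [show up t • x0 = x0 from hfix _] at this
  have atri : ∀ {x y z}, Adj x y → Adj y z → 𝕙 (p x) (p z) = 0 → Adj x z := by
    rintro x y z ⟨γ, rfl, rfl⟩ yz he
    have h2 := aact γ⁻¹ yz
    rw [inv_smul_smul] at h2
    have h3 := atri0 h2 (by rw [pact, show 𝕙 eM (act (γ⁻¹ : Γ).1.1 (p z)) = 𝕙 (act γ.1.1 eM) (p z) from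
      (h_act_left (γ : Γ).1.1 eM (p z)).symm, ← pmk]; exact he)
    have h4 := aact γ h3
    rwa [smul_inv_smul] at h4
  have aorth : ∀ {x y}, Adj x y → 𝕙 (p x) (p y) = 0 := by
    rintro x y ⟨γ, rfl, rfl⟩
    rw [pmk, pact, act_pres, py0]
    exact bv_orth C (fun e => by simp [Fin.ext_iff, i1] at e; omega)
  have aunit : ∀ x, 𝕙 (p x) (p x) = 1 := fun x => by
    obtain ⟨δ, rfl⟩ := QuotientGroup.mk_surjective x
    show 𝕙 (act δ.1.1 eM) (act δ.1.1 eM) = 1
    rw [act_pres]; exact bv_unit C _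
  -- squares with non-degenerate diagonal
  have asq0 : ∀ {y z}, Adj x0 y → Adj y z → ∀ s : SU[2],
      p z = act (g1 (emb 1 h12 s)).1.1 eM → act s (bv 1) 0 ≠ 0 → z = g1 (emb 1 h12 s) • x0 := by
    intro y z xy yz s hz hs0
    set gs := g1 (emb 1 h12 s) with hgs
    have gs_eq : gs.1.1 = emb (m - 1) (show m - 1 + 2 ≤ m + 1 by omega) s :=
      emb_emb (m - 2) _ 1 h12 (m - 1) (by omega) (by omega) s
    have hye : 𝕙 (p y) eM = 0 := by
      have := (eq_zero_comm C).1 (aorth xy)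
      rwa [show p x0 = eM from act_one _] at this
    have hylast : p y (Fin.last m) = 0 := by rw [← h_bv_right C (p y) (Fin.last m)]; exact hye
    have hy1 : p y i1 = 0 := by
      have h1 := aorth yz
      rw [hz] at h1
      change ∑ i, p y i * (act gs.1.1 eM i) ^ q = 0 at h1
      rw [Finset.sum_eq_single i1] at h1
      · have e : act gs.1.1 eM i1 = act s (bv 1) 0 := by
          rw [gs_eq, emb_in (m - 1) _ s _ 0 i1 (by simp [i1])]
          congr 2
          funext c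
          simp only [eM, bv, Pi.single_apply, Fin.ext_iff, Fin.val_last, Fin.val_one]
          refine if_congr ?_ rfl rfl
          omega
        rw [e] at h1
        exact (mul_eq_zero.1 h1).resolve_right (pow_ne_zero _ hs0)
      · intro i _ hi
        by_cases hiM : i = Fin.last m
        · rw [hiM, hylast, zero_mul]
        · rw [gs_eq, emb_out (m - 1) _ s _ (by
            have h1 : (i : ℕ) ≠ m := fun e => hiM (Fin.ext e)
            have h2 : (i : ℕ) ≠ m - 1 := fun e => hi (Fin.ext e)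
            omega)]
          simp [eM, bv, hiM, zero_pow (show q ≠ 0 by omega)]
      · simp
    obtain ⟨t, ht⟩ := moveTo (m - 1) (by omega) (by omega) (p y) (fun i hi => by
      rcases (show (i : ℕ) = m - 1 ∨ (i : ℕ) = m by omega) with e | e
      · rw [show i = i1 from Fin.ext e]; exact hy1
      · rw [show i = Fin.last m from Fin.ext e]; exact hylast) (aunit y)
    have hy : y = up t • z1 := auniq xy (by
      have := aact (up t) x0z1; rwa [show up t • x0 = x0 from hfix _] at this) (by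
        rw [pact, pz1]
        show p y = act (E0 m (emb 0 hm1 t)) (bv i2)
        rw [E0, emb_emb 0 _ 0 hm1 0 (by omega) rfl, ← ht]
        exact congrArg _ (congrArg bv (Fin.ext (by simp [i2]; omega))))
    have hz1 : gs • z1 = z1 := by
      show gs • g1 u3 • x0 = g1 u3 • x0
      rw [hgs, ← mul_smul, ← map_mul]
      exact l1 _ _ (by rw [act_mul, hu3]; exact emb_fix 1 h12 s (Or.inl (by simp)))
    have h2 : Adj z1 (gs • x0) := by
      have := aact gs (asymm x0z1); rwa [hz1] at this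
    have h3 := aact (up t) h2
    rw [← hy, ← mul_smul, hgs, upc, mul_smul, show up t • x0 = x0 from hfix _, ← hgs] at h3
    exact auniq yz h3 (hz.trans (pmk gs).symm)
  have asq : ∀ {x y z y' z'}, Adj x y → Adj y z → Adj x y' → Adj y' z' → p z = p z' →
      N C (𝕙 (p x) (p z)) ≠ 1 → z = z' := by
    rintro x y z y' z' ⟨γ, rfl, rfl⟩ a2 a3 a4 e hne
    have b2 := aact γ⁻¹ a2
    have b3 := aact γ⁻¹ a3
    have b4 := aact γ⁻¹ a4
    rw [inv_smul_smul] at b2 b3
    have b1 : Adj x0 y0 := ⟨1, (one_smul _ _).symm, (one_smul _ _).symm⟩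
    set c := p (γ⁻¹ • z) with hc
    have cu : 𝕙 c c = 1 := aunit _
    set g := c (Fin.last m) with hg
    have hgc : 𝕙 c eM = g := h_bv_right C c _
    have hgne : N C g ≠ 1 := by
      rw [← hgc, N_symm C, hc, pact, show 𝕙 eM (act (γ⁻¹ : Γ).1.1 (p z)) = 𝕙 (act γ.1.1 eM) (p z) from
        (h_act_left (γ : Γ).1.1 eM (p z)).symm, ← pmk]
      exact hne
    set c' := c - g • eM with hc'
    have c'u : 𝕙 c' c' = 1 - N C g := by
      simp [c', sub_left C, sub_right C, smul_left C, smul_right C, cu, show 𝕙 eM eM = 1 from bv_unit C _, hgc,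
        AutPSU.symm C c eM, N]
      ring
    obtain ⟨δ, hδ, hδ1⟩ := exists_unit C (v := c') (by rw [c'u]; exact sub_ne_zero.2 (Ne.symm hgne))
    obtain ⟨t, ht⟩ := moveTo m (by omega) (by omega) (δ • c') (fun i hi => by
      obtain rfl : i = Fin.last m := Fin.ext (by simp; omega)
      simp [c', eM, bv, hg]) hδ1
    obtain ⟨s, hs⟩ := exists_map_one C hF le_rfl (bv_unit C (1 : Fin 2)) (y := ![δ⁻¹, g]) (by
      show ∑ i, _ = 1
      rw [Fin.sum_univ_two]
      simp [← C.apply_eq]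
      have h1 : N C δ * (1 - N C g) = 1 := by rw [← c'u, ← h_smul_self C]; exact hδ1
      have hδs : C.σ δ ≠ 0 := fun e0 => hδ ((map_eq_zero C.σ).1 e0)
      field_simp
      rw [N, N] at h1
      linear_combination -h1)
    have pc : ∀ w, p w = c → p ((g0 t)⁻¹ • w) = act (g1 (emb 1 h12 s)).1.1 eM := by
      intro w hw
      rw [pact, hw]
      show act (E0 m t)⁻¹ c = _
      refine AutPSU.act_inj (E0 m t) ?_
      rw [AutPSU.act_act_inv, show (g1 (emb 1 h12 s)).1.1 = emb (m - 1) (show m - 1 + 2 ≤ m + 1 by omega) s from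
        emb_emb (m - 2) _ 1 h12 (m - 1) (by omega) (by omega) s]
      have hsv : act (emb (m - 1) (show m - 1 + 2 ≤ m + 1 by omega) s : SU[m + 1]) eM =
          δ⁻¹ • bv i1 + g • eM := by
        funext x
        by_cases hx : (x : ℕ) < m - 1
        · rw [emb_out _ _ s _ (Or.inl hx)]
          simp [eM, i1, bv, Fin.ext_iff, show (x : ℕ) ≠ m by omega, show (x : ℕ) ≠ m - 1 by omega]
        · rw [emb_in (m - 1) _ s _ ⟨(x : ℕ) - (m - 1), by omega⟩ x (by simp; omega),
            show (fun b : Fin 2 => eM ⟨m - 1 + b, by omega⟩) = bv 1 from funext fun b => by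
              simp only [eM, bv, Pi.single_apply, Fin.ext_iff, Fin.val_last, Fin.val_one]
              refine if_congr ?_ rfl rfl
              omega, hs]
          rcases (show (x : ℕ) = m - 1 ∨ (x : ℕ) = m by omega) with e | e
          · obtain rfl : x = i1 := Fin.ext e
            simp [eM, i1, bv, Fin.ext_iff, show m - 1 ≠ m by omega]
          · obtain rfl : x = Fin.last m := Fin.ext e
            simp [show m - (m - 1) = 1 by omega, eM, i1, bv, Fin.ext_iff, show m ≠ m - 1 by omega]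
      rw [hsv, AutPSU.act_add, AutPSU.act_smul, AutPSU.act_smul, hE0,
        show act (E0 m t) (bv i1) = δ • c' from ht, smul_smul, inv_mul_cancel₀ hδ, one_smul, hc']
      abel
    have k1 := aact (g0 t)⁻¹ b1
    have k2 := aact (g0 t)⁻¹ b2
    have k3 := aact (g0 t)⁻¹ b3
    have k4 := aact (g0 t)⁻¹ b4
    have hfix' : (g0 t)⁻¹ • x0 = x0 := by rw [inv_smul_eq_iff, hfix]
    rw [hfix'] at k1 k3
    have hs0 : act s (bv 1) 0 ≠ 0 := by rw [hs]; simpa using inv_ne_zero hδ
    have e1 := asq0 k1 k2 s (pc _ rfl) hs0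
    have e2 := asq0 k3 k4 s (pc _ (by rw [hc, pact, pact, e])) hs0
    exact MulAction.injective γ⁻¹ (MulAction.injective (g0 t)⁻¹ (e1.trans e2.symm))
  let K : Cov C (m + 1) (Γ ⧸ S) :=
    { p := p, Adj := Adj, orth := aorth, unit := aunit, symm := asymm, lift := alift, uniq := auniq, tri := atri,
      sqN := asq }
  obtain ⟨R, hR0, hRc, hRi, hRs⟩ := K.exists_section hF hq (show 4 ≤ m + 1 by omega) hc45 x0
  have hall : ∀ γ : Γ, γ • x0 ∈ R := by
    intro γ
    have key : ∀ g (hg : g ∈ Γ), (⟨g, hg⟩ : Γ) • x0 ∈ R := by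
      intro g hg
      have step : ∀ (a b : SU[m + 1] × G) (ha : a ∈ Γ) (hb : b ∈ Γ),
          ((⟨b, hb⟩ : Γ) • x0 = x0 ∨ Adj x0 ((⟨b, hb⟩ : Γ) • x0)) →
          (⟨a, ha⟩ : Γ) • x0 ∈ R → (⟨a * b, mul_mem ha hb⟩ : Γ) • x0 ∈ R := by
        intro a b ha hb h h'
        rw [show (⟨a * b, mul_mem ha hb⟩ : Γ) = ⟨a, ha⟩ * ⟨b, hb⟩ from rfl, mul_smul]
        rcases h with h | h
        · rwa [h]
        · exact hRc _ _ h' (aact _ h)
      induction hg using Subgroup.closure_induction_right with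
      | one => rwa [show (⟨1, _⟩ : Γ) = 1 from rfl, one_smul]
      | mul_right a ha b hb ih =>
        refine step a b ha (Subgroup.subset_closure hb) ?_ ih
        rcases hb with ⟨t, rfl⟩ | rfl
        · exact Or.inl (hfix t)
        · exact Or.inr ⟨1, (one_smul _ _).symm, (one_smul _ _).symm⟩
      | mul_inv_cancel a ha b hb ih =>
        refine step a b⁻¹ ha (inv_mem (Subgroup.subset_closure hb)) ?_ ih
        rcases hb with ⟨t, rfl⟩ | rfl
        · left
          show (g0 t)⁻¹ • x0 = x0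
          rw [inv_smul_eq_iff, hfix]
        · right
          show Adj x0 ((g1 (w3 C hF))⁻¹ • x0)
          refine asymm ⟨(g1 (w3 C hF))⁻¹, rfl, ?_⟩
          rw [inv_smul_smul]
    exact key γ.1 γ.2
  let π : Γ →* SU[m + 1] := (MonoidHom.fst _ _).comp Γ.subtype
  have hinj : Function.Injective π := (injective_iff_map_eq_one π).2 fun γ hγ => by
    have e : γ • x0 = x0 := hRi _ _ (hall γ) hR0 (by
      show p (γ • x0) = p x0
      rw [pmk, show γ.1.1 = 1 from hγ]
      rfl)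
    obtain ⟨t, rfl⟩ := stab γ e
    have ht : t = 1 := emb_injective 0 _ (show E0 m t = E0 m 1 by rw [map_one]; exact hγ)
    subst ht
    exact Subtype.ext ((E0 m).prod f0).map_one
  have hsurj : Function.Surjective π := fun s => by
    obtain ⟨x, -, hxv⟩ := hRs (act s eM) (by rw [act_pres]; exact bv_unit C _)
    obtain ⟨γ, rfl⟩ := QuotientGroup.mk_surjective x
    obtain ⟨t, ht⟩ := emb_range (F := F) (q := q) 0 (show 0 + m ≤ m + 1 by omega) C (γ.1.1⁻¹ * s) fun i hi => by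
      obtain rfl : i = Fin.last m := Fin.ext (by simp; omega)
      rw [act_mul, show act s (bv (Fin.last m)) = act γ.1.1 eM from hxv.symm, act_inv_act]
    refine ⟨γ * g0 t, ?_⟩
    show γ.1.1 * E0 m t = s
    rw [E0, ht, mul_inv_cancel_left]
  let e := MulEquiv.ofBijective π ⟨hinj, hsurj⟩
  refine ⟨((MonoidHom.snd _ _).comp Γ.subtype).comp e.symm.toMonoidHom, fun t => ?_, fun k => ?_⟩
  · show (e.symm (E0 m t)).1.2 = f0 t
    rw [show e.symm (E0 m t) = g0 t from e.symm_apply_eq.2 rfl]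
    rfl
  · show (e.symm (E1 m hm k)).1.2 = f1 k
    rw [show e.symm (E1 m hm k) = g1 k from e.symm_apply_eq.2 rfl]
    rfl

end stage

/-- A chain of blocks of three completes to the special unitary group. -/
theorem phan_hom (hq : 4 ≤ q) {G : Type*} [Group G] {n : ℕ} (hn : 3 ≤ n) (π : ℕ → SU[3] →* G)
    (u : ℕ → SU[2] →* G)
    (h0 : ∀ i, i + 3 ≤ n → ∀ s, π i (emb 0 (show 0 + 2 ≤ 3 by omega) s) = u i s)
    (h1 : ∀ i, i + 3 ≤ n → ∀ s, π i (emb 1 (show 1 + 2 ≤ 3 by omega) s) = u (i + 1) s)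
    (hc : ∀ i j, i + 2 ≤ j → j + 2 ≤ n → ∀ s t, Commute (u i s) (u j t)) :
    ∃ f : SU[n] →* G, ∀ i (hi : i + 3 ≤ n) (s : SU[3]), f (emb i hi s) = π i s := by
  suffices H : ∀ m, 3 ≤ m → m ≤ n →
      ∃ f : SU[m] →* G, ∀ i (hi : i + 3 ≤ m) (s : SU[3]), f (emb i hi s) = π i s from H n hn le_rfl
  intro m hm
  induction m, hm using Nat.le_induction with
  | base =>
    intro _
    refine ⟨π 0, fun i hi s => ?_⟩
    obtain rfl : i = 0 := by omega
    congr 1
    refine ext_act fun v => funext fun x => ?_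
    rw [emb_in 0 hi s v x x (by simp)]
    simp
  | succ m hm ih =>
    intro hmn
    obtain ⟨f0, hf0⟩ := ih (by omega)
    have hcompat : ∀ s : SU[2], f0 (emb (m - 2) (show m - 2 + 2 ≤ m by omega) s) =
        π (m - 2) (emb 0 (show 0 + 2 ≤ 3 by omega) s) := fun s => by
      rw [← emb_emb (m - 3) (show m - 3 + 3 ≤ m by omega) 1 (show 1 + 2 ≤ 3 by omega) (m - 2) _ (by omega) s,
        hf0, h1 _ (by omega), h0 _ (by omega), show m - 3 + 1 = m - 2 by omega]
    have hcomm : ∀ (s : SU[2]) (t : SU[m - 1]), Commute (π (m - 2) (emb 1 (show 1 + 2 ≤ 3 by omega) s))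
        (f0 (emb 0 (show 0 + (m - 1) ≤ m by omega) t)) := by
      intro s t
      set a := π (m - 2) (emb 1 (show 1 + 2 ≤ 3 by omega) s) with ha
      have htop := gen_two C hF (show 3 ≤ q by omega) (show 2 ≤ m - 1 by omega)
        ((Subgroup.centralizer {a}).comap (f0.comp (emb 0 (show 0 + (m - 1) ≤ m by omega)))) fun i hi r => by
        rw [Subgroup.mem_comap, MonoidHom.comp_apply, Subgroup.mem_centralizer_singleton_iff,
          emb_emb 0 _ i hi i (by omega) (by omega) r,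
          ← emb_emb i (show i + 3 ≤ m by omega) 0 (show 0 + 2 ≤ 3 by omega) i _ (by omega) r, hf0, h0 i (by omega),
          ha, h1 _ (by omega), show m - 2 + 1 = m - 1 by omega]
        exact (hc i (m - 1) (by omega) (by omega) r s).eq
      have := Subgroup.mem_comap.1 (htop ▸ Subgroup.mem_top t)
      rw [Subgroup.mem_centralizer_singleton_iff] at this
      exact this.symm
    obtain ⟨f, hfE0, hfE1⟩ := stage C hF (by omega : 3 ≤ m) f0 (π (m - 2)) (by omega) (Or.inl hq) hcompat hcomm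
    refine ⟨f, fun i hi s => ?_⟩
    by_cases hlast : i + 3 ≤ m
    · rw [← emb_emb 0 (show 0 + m ≤ m + 1 by omega) i hlast i hi (by omega) s]
      exact (hfE0 _).trans (hf0 i hlast s)
    · obtain rfl : i = m - 2 := by omega
      exact hfE1 s

end Cfsg.Agent.Phan
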