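import Cfsg.Agent.Lib.Phan.Basic
import Cfsg.Agent.Lib.AutPSL.Main
import Cfsg.Agent.Lib.Classical.SU2
import Cfsg.Agent.Lib.Classical.SL
import Cfsg.Agent.Lib.ChevAut.AutOut

/-!
The automorphisms of a two-dimensional special unitary group fixing a diagonal torus.
-/

set_option autoImplicit false
set_option linter.unusedSectionVars false
set_option linter.unusedSimpArgs false
set_option linter.style.show false
set_option linter.style.haveILetI false
set_option maxHeartbeats 1000000

namespace Cfsg.Agent.Phan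

open Matrix
open Cfsg.Agent.AutPSU (Conj h act act_mul act_one act_inv_act act_pres ext_act suConj sm)

/-- The special linear group of rank two over a large field is perfect. -/
theorem commutator_sl2 {K : Type*} [Field K] [Finite K] (hK : 4 ≤ Nat.card K) :
    commutator (SpecialLinearGroup (Fin 2) K) = ⊤ := by
  classical
  haveI := Fintype.ofFinite K
  obtain ⟨a, ha, ha2⟩ : ∃ a : K, a ≠ 0 ∧ a ^ 2 ≠ 1 := by
    by_contra hno
    push Not at hno
    have : Finset.univ ⊆ ({0, 1, -1} : Finset K) := fun a _ => by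
      rcases eq_or_ne a 0 with rfl | ha
      · simp
      · rcases sq_eq_one_iff.1 (hno a ha) with rfl | rfl <;> simp
    have hle := (Finset.card_le_card this).trans Finset.card_le_three
    rw [Finset.card_univ, ← Nat.card_eq_fintype_card] at hle
    omega
  rw [eq_top_iff, ← ClassicalSL.closure_elemTransvections, Subgroup.closure_le]
  rintro g ⟨i, j, h, c, rfl⟩
  rw [SetLike.mem_coe, commutator_eq_closure]
  exact Subgroup.subset_closure (ClassicalSL.transvection_mem_commutatorSet_of_sq h ha ha2 c)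

theorem aut_eq_one_of_central {G : Type*} [Group G] (hp : commutator G = ⊤) (γ : MulAut G)
    (hz : ∀ s, s⁻¹ * γ s ∈ Subgroup.center G) : γ = 1 := by
  let χ : G →* Subgroup.center G :=
    { toFun := fun s => ⟨s⁻¹ * γ s, hz s⟩
      map_one' := Subtype.ext (by simp)
      map_mul' := fun s t => Subtype.ext (by
        show (s * t)⁻¹ * γ (s * t) = s⁻¹ * γ s * (t⁻¹ * γ t)
        calc (s * t)⁻¹ * γ (s * t) = t⁻¹ * (s⁻¹ * γ s) * γ t := by rw [map_mul]; group
          _ = s⁻¹ * γ s * t⁻¹ * γ t := by rw [Subgroup.mem_center_iff.1 (hz s) t⁻¹]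
          _ = _ := by rw [mul_assoc]) }
  have hχ : χ.ker = ⊤ := by
    haveI : IsMulCommutative (Subgroup.center G) := inferInstance
    rw [eq_top_iff, ← hp, _root_.commutator_def, Subgroup.commutator_le]
    intro a _ b _
    rw [MonoidHom.mem_ker, map_commutatorElement, commutatorElement_eq_one_iff_mul_comm]
    exact Subtype.ext (Subgroup.mem_center_iff.1 (χ b).2 (χ a).1)
  refine MulEquiv.ext fun s => ?_
  have h2 : s ∈ χ.ker := by rw [hχ]; exact Subgroup.mem_top s
  have h3 : χ s = 1 := h2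
  have h4 : s⁻¹ * γ s = 1 := congrArg Subtype.val h3
  exact (inv_mul_eq_one.1 h4).symm

/-- The automorphisms of `SL₂` are semilinear. -/
theorem aut_sl2_eq {K : Type*} [Field K] [Fintype K] (hK : 4 ≤ Nat.card K)
    (β : MulAut (SpecialLinearGroup (Fin 2) K)) : ∃ g σ, β = AutPSL.slSemi g σ := by
  obtain ⟨g, σ, h | ⟨h3, -⟩⟩ := AutPSL.aut_eq le_rfl (AutPSL.descend β)
  swap
  · omega
  refine ⟨g, σ, ?_⟩
  set γ := (AutPSL.slSemi g σ)⁻¹ * β with hγ
  have hd : AutPSL.descend γ = 1 := by
    rw [hγ, map_mul, map_inv, h]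
    exact inv_mul_cancel _
  have hg1 : γ = 1 := aut_eq_one_of_central (commutator_sl2 hK) γ fun s => by
    have h1 := DFunLike.congr_fun hd (QuotientGroup.mk s)
    rw [AutPSL.descend_mk, MulAut.one_apply] at h1
    exact QuotientGroup.eq.1 h1.symm
  rwa [hγ, inv_mul_eq_one, eq_comm] at hg1

/-- The number of automorphisms of `SL₂`. -/
theorem card_aut_sl2 {K : Type*} [Field K] [Fintype K] (hK : 4 ≤ Nat.card K) :
    Nat.card (MulAut (SpecialLinearGroup (Fin 2) K)) * (Nat.card K - 1) ≤
      Nat.card (GL (Fin 2) K) * Nat.card (K ≃+* K) := by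
  classical
  haveI : Finite (K ≃+* K) := Finite.of_injective (fun g => (g : K → K)) DFunLike.coe_injective
  let Z : Subgroup (GL (Fin 2) K) := (Units.map (Matrix.scalar (Fin 2) : K →+* Matrix (Fin 2) (Fin 2) K).toMonoidHom).range
  have hZ : Nat.card Z = Nat.card K - 1 := by
    rw [← Nat.card_congr (MonoidHom.ofInjective (f := Units.map (Matrix.scalar (Fin 2) : K →+* Matrix (Fin 2) (Fin 2) K).toMonoidHom) (Units.map_injective (fun a b e => Matrix.scalar_inj.1 e))).toEquiv,
      Nat.card_units]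
  have hdep : ∀ g σ, ∀ z ∈ Z, AutPSL.slSemi (g * z) σ = AutPSL.slSemi g σ := by
    rintro g σ _ ⟨c, rfl⟩
    refine MulEquiv.ext fun s => Subtype.ext ?_
    rw [AutPSL.slSemi_coe, AutPSL.slSemi_coe]
    set M := s.1.map σ with hM
    set z : GL (Fin 2) K := Units.map (Matrix.scalar (Fin 2) : K →+* Matrix (Fin 2) (Fin 2) K).toMonoidHom c
    have hc : Commute (z : Matrix (Fin 2) (Fin 2) K) M := Matrix.scalar_commute _ (fun _ => Commute.all _ _) _
    rw [_root_.mul_inv_rev, Units.val_mul, Units.val_mul, mul_assoc (g : Matrix (Fin 2) (Fin 2) K), hc.eq]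
    simp only [mul_assoc]
    rw [← mul_assoc (z : Matrix (Fin 2) (Fin 2) K), Units.mul_inv, one_mul]
  have h1 := Nat.card_le_card_of_surjective
    (fun p : (GL (Fin 2) K ⧸ Z) × (K ≃+* K) => AutPSL.slSemi p.1.out p.2) fun β => by
      obtain ⟨g, σ, rfl⟩ := aut_sl2_eq hK β
      obtain ⟨z, hz⟩ := QuotientGroup.mk_out_eq_mul Z g
      exact ⟨(QuotientGroup.mk g, σ), by show AutPSL.slSemi _ _ = _; rw [hz, hdep _ _ _ z.2]⟩
  rw [Nat.card_prod] at h1
  calc _ ≤ Nat.card (GL (Fin 2) K ⧸ Z) * Nat.card (K ≃+* K) * (Nat.card K - 1) := Nat.mul_le_mul_right _ h1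
    _ = _ := by rw [Subgroup.card_eq_card_quotient_mul_card_subgroup Z, hZ]; ring

variable {F : Type*} [Field F] [Fintype F] {q : ℕ}

local notation "SU[" n "]" => Cfsg.SU n F q
local notation "𝕙" => h (q := q)

/-- The entries of an element of the special unitary group. -/
abbrev en {n : ℕ} (s : SU[n]) (i j : Fin n) : F := (s : Matrix.SpecialLinearGroup (Fin n) F).1 i j

theorem act_bv {n : ℕ} (s : SU[n]) (i j : Fin n) : act s (bv j) i = en s i j := by
  rw [act, bv, Matrix.mulVec_single_one]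
  rfl

theorem en_mul2 (s t : SU[2]) (i j : Fin 2) : en (s * t) i j = en s i 0 * en t 0 j + en s i 1 * en t 1 j := by
  show ((s.1 * t.1 : Matrix.SpecialLinearGroup (Fin 2) F) : Matrix (Fin 2) (Fin 2) F) i j = _
  rw [Matrix.SpecialLinearGroup.coe_mul, Matrix.mul_apply, Fin.sum_univ_two]

theorem en_inv (s : SU[2]) : en s⁻¹ 0 0 = en s 1 1 ∧ en s⁻¹ 0 1 = -en s 0 1 ∧ en s⁻¹ 1 0 = -en s 1 0 ∧
    en s⁻¹ 1 1 = en s 0 0 := by
  simp [en, Matrix.SpecialLinearGroup.coe_inv, Matrix.adjugate_fin_two]

section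

variable (C : Conj F q)
include C

theorem en_rel (s : SU[2]) : en s 1 0 = -C.σ (en s 0 1) ∧ en s 1 1 = C.σ (en s 0 0) := by
  have k : ∀ i j : Fin 2, en s i j = C.σ (en s⁻¹ j i) := fun i j => by
    rw [← act_bv, ← h_bv_right C (act s (bv j)) i]
    conv_lhs => rw [← AutPSU.act_act_inv s (bv i), act_pres, h_bv_left C]
    rw [act_bv]
  exact ⟨by rw [k 1 0, (en_inv s).2.1, map_neg], by rw [k 1 1, (en_inv s).2.2.2]⟩

theorem en_det (s : SU[2]) : N C (en s 0 0) + N C (en s 0 1) = 1 := by
  have := (s : Matrix.SpecialLinearGroup (Fin 2) F).2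
  rw [Matrix.det_fin_two] at this
  change en s 0 0 * en s 1 1 - en s 0 1 * en s 1 0 = 1 at this
  rw [(en_rel C s).1, (en_rel C s).2] at this
  rw [N, N]
  linear_combination this

theorem ext_two {s t : SU[2]} (ha : en s 0 0 = en t 0 0) (hb : en s 0 1 = en t 0 1) : s = t := by
  refine Subtype.ext (Subtype.ext (Matrix.ext fun i j => ?_))
  show en s i j = en t i j
  fin_cases i <;> fin_cases j
  · exact ha
  · exact hb
  · show en s 1 0 = en t 1 0; rw [(en_rel C s).1, (en_rel C t).1, hb]
  · show en s 1 1 = en t 1 1; rw [(en_rel C s).2, (en_rel C t).2, ha]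

theorem exists_two {a b : F} (hab : N C a + N C b = 1) : ∃ s : SU[2], en s 0 0 = a ∧ en s 0 1 = b := by
  obtain ⟨s, hs⟩ := AutPSU.exists_SU (n := 2) (q := q) !![a, b; -C.σ b, C.σ a]
    (by rw [Matrix.det_fin_two]; simp; rw [N, N] at hab; linear_combination hab)
    (fun u v => by
      show ∑ i, _ = ∑ i, _
      simp [Fin.sum_univ_two, Matrix.mulVec, dotProduct, ← C.apply_eq, C.invol]
      rw [N, N] at hab
      linear_combination (u 0 * C.σ (v 0) + u 1 * C.σ (v 1)) * hab)
  refine ⟨s, ?_, ?_⟩ <;>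
  · rw [← act_bv, hs, bv, Matrix.mulVec_single_one]
    simp

end

/-- The diagonal torus. -/
def dTor (F : Type*) [Field F] [Fintype F] (q : ℕ) : Subgroup (Cfsg.SU 2 F q) where
  carrier := {s | en s 0 1 = 0 ∧ en s 1 0 = 0}
  one_mem' := by simp [en]
  mul_mem' {s t} hs ht := by
    simp only [Set.mem_ofPred_eq] at hs ht ⊢
    simp [en_mul2, hs.1, hs.2, ht.1, ht.2]
  inv_mem' {s} hs := by
    simp only [Set.mem_ofPred_eq] at hs ⊢
    simp [(en_inv s).2.1, (en_inv s).2.2.1, hs.1, hs.2]

variable (C : Conj F q)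

include C in
theorem mem_dTor {s : SU[2]} : s ∈ dTor F q ↔ en s 0 1 = 0 :=
  ⟨And.left, fun e => ⟨e, by rw [(en_rel C s).1, e, map_zero, neg_zero]⟩⟩

/-- A diagonal unitary matrix. -/
noncomputable def dgU {n : ℕ} (C : Conj F q) (d : Fin n → {a : F // N C a = 1}) : Cfsg.GU n F q :=
  ⟨Matrix.GeneralLinearGroup.mkOfDetNeZero (Matrix.diagonal fun i => (d i).1) (by
    rw [Matrix.det_diagonal]
    exact Finset.prod_ne_zero_iff.2 fun i _ e => by simpa [e, N] using (d i).2), fun u v => by
    show 𝕙 (Matrix.diagonal (fun i => (d i).1) *ᵥ u) (Matrix.diagonal (fun i => (d i).1) *ᵥ v) = 𝕙 u v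
    refine Finset.sum_congr rfl fun i _ => ?_
    rw [Matrix.mulVec_diagonal, Matrix.mulVec_diagonal, mul_pow, ← C.apply_eq (d i).1]
    have := (d i).2
    rw [N] at this
    linear_combination (u i * v i ^ q) * this⟩

theorem sm_dgU {n : ℕ} (d : Fin n → {a : F // N C a = 1}) (τ : F ≃+* F) (x : Fin n → F) (i : Fin n) :
    sm (dgU C d : GL (Fin n) F) τ x i = (d i).1 * τ (x i) :=
  Matrix.mulVec_diagonal _ _ i

theorem en_suConj {n : ℕ} (d : Fin n → {a : F // N C a = 1}) (τ : F ≃+* F) (s : SU[n]) (i j : Fin n) :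
    en (suConj (dgU C d) τ s) i j * (d j).1 = (d i).1 * τ (en s i j) := by
  have h1 := congrFun (AutPSU.act_suConj (dgU C d) τ s (bv j)) i
  rw [sm_dgU, act_bv, show sm (dgU C d : GL (Fin n) F) τ (bv j) = (d j).1 • bv j from funext fun k => by
    rw [sm_dgU]
    by_cases hk : k = j
    · subst hk; simp [bv]
    · simp [bv, hk], AutPSU.act_smul, Pi.smul_apply, act_bv, smul_eq_mul, mul_comm] at h1
  exact h1

/-- Semilinear maps with diagonal part respect blocks. -/
theorem suConj_emb {n k : ℕ} (o : ℕ) (ho : o + k ≤ n) (d : Fin n → {a : F // N C a = 1}) (τ : F ≃+* F)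
    (s : SU[k]) : suConj (dgU C d) τ (emb o ho s : SU[n]) =
      emb o ho (suConj (dgU C fun a => d (blk o ho (.inl a))) τ s) := by
  refine ext_act fun y => ?_
  obtain ⟨x, rfl⟩ : ∃ x, y = sm (dgU C d : GL (Fin n) F) τ x :=
    ⟨fun i => τ.symm ((d i).1⁻¹ * y i), funext fun i => by
      rw [sm_dgU, τ.apply_symm_apply, ← mul_assoc, mul_inv_cancel₀ (fun e => by simpa [e, N] using (d i).2), one_mul]⟩
  rw [AutPSU.act_suConj]
  funext i
  obtain ⟨z, rfl⟩ := (blk o ho).surjective i
  rw [sm_dgU, emb_act, emb_act, Function.comp_apply, Function.comp_apply, Equiv.symm_apply_apply]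
  rcases z with a | b
  · rw [Sum.elim_inl, Sum.elim_inl,
      show (fun c => sm (dgU C d : GL (Fin n) F) τ x (blk o ho (.inl c))) =
        sm (dgU C (fun a => d (blk o ho (.inl a))) : GL (Fin k) F) τ (fun c => x (blk o ho (.inl c))) from
        funext fun c => by rw [sm_dgU, sm_dgU],
      AutPSU.act_suConj, sm_dgU]
  · rw [Sum.elim_inr, Sum.elim_inr, sm_dgU]

/-- The automorphisms fixing the torus. -/
theorem exists_realise (hF : Fintype.card F = q ^ 2) (hq : 4 ≤ q) (α : SU[2] ≃* SU[2])
    (hα : (dTor F q).map α.toMonoidHom = dTor F q) :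
    ∃ (d : Fin 2 → {a : F // N C a = 1}) (τ : F ≃+* F), ∀ s, α s = suConj (dgU C d) τ s := by
  classical
  open scoped Pointwise in
  haveI : Finite (MulAut SU[2]) := Finite.of_injective (fun f => (f : SU[2] → SU[2])) DFunLike.coe_injective
  set σ := C.σ.toRingHom with hσ
  have hne : σ ≠ RingHom.id F := fun e => C.ne_one.elim fun μ hμ => hμ (RingHom.congr_fun e μ)
  have hfix := card_fixed C hF
  haveI := Fintype.ofFinite (Hermitian.fixed σ)
  obtain ⟨e⟩ := SU2.exists_equiv_SU2 (K := Hermitian.fixed σ) hne C.invol C.apply_eq hfix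
    (by rw [← Nat.card_eq_fintype_card]; exact hfix)
  -- degrees
  obtain ⟨p, f, hp, hch, hK⟩ := ChevAut.exists_charP_pow (F := Hermitian.fixed σ)
  have hqf : q = p ^ f := by rw [← hfix, Nat.card_eq_fintype_card, hK]
  haveI : CharP F p := charP_of_injective_ringHom (Hermitian.fixed σ).subtype.injective p
  have gK := (ChevAut.ringAut_facts (F := Hermitian.fixed σ) p f hK).2
  have gF := (ChevAut.ringAut_facts (F := F) p (f * 2) (by rw [hF, hqf, ← pow_mul])).2
  -- the norm one group
  have hN1 : Nat.card {a : F // N C a = 1} = q + 1 := by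
    have := Hermitian.card_norm_fibre (σ := σ) hne C.invol (map_one σ) one_ne_zero
    rwa [hfix] at this
  -- the automorphism group
  have hA : Nat.card (MulAut SU[2]) ≤ q * (q - 1) * (q + 1) * f := by
    have h1 := card_aut_sl2 (K := Hermitian.fixed σ) (by rw [hfix]; exact hq)
    have hfix' : Nat.card (Hermitian.fixed σ) = q := hfix
    rw [hfix, gK, Matrix.card_GL_field, Fin.prod_univ_two] at h1
    simp only [Fin.val_zero, Fin.val_one, pow_zero, pow_one, ← Nat.card_eq_fintype_card, hfix'] at h1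
    rw [Nat.card_congr (MulAut.congr e).toEquiv]
    have h2 : (q ^ 2 - 1) * (q ^ 2 - q) * f = (q * (q - 1) * (q + 1) * f) * (q - 1) := by
      have a : q ^ 2 - 1 = (q - 1) * (q + 1) := by
        zify [show 1 ≤ q by omega, show 1 ≤ q ^ 2 from Nat.one_le_pow _ _ (by omega)]; ring
      have b : q ^ 2 - q = q * (q - 1) := by
        zify [show 1 ≤ q by omega, show q ≤ q ^ 2 from Nat.le_self_pow (by norm_num) q]; ring
      rw [a, b]; ring
    rw [h2] at h1
    exact Nat.le_of_mul_le_mul_right h1 (by omega)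
  -- the realised automorphisms
  set St := MulAction.stabilizer (MulAut SU[2]) (dTor F q) with hSt
  have memSt : ∀ {β : MulAut SU[2]}, β ∈ St ↔ (dTor F q).map β.toMonoidHom = dTor F q := Iff.rfl
  let one : {a : F // N C a = 1} := ⟨1, by simp [N]⟩
  have hmem : ∀ (p : {a : F // N C a = 1} × (F ≃+* F)), AutPSU.suAut (dgU C ![one, p.1]) p.2 ∈ St := by
    intro p
    rw [memSt]
    refine Subgroup.eq_of_le_of_card_ge ?_ (le_of_eq (Subgroup.card_map_of_injective (MulEquiv.injective _)).symm)
    rintro _ ⟨s, hs, rfl⟩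
    rw [mem_dTor C]
    have h1 := en_suConj C ![one, p.1] p.2 s 0 1
    rw [(mem_dTor C).1 hs, map_zero, mul_zero, mul_eq_zero] at h1
    exact h1.resolve_right fun e => by
      have := p.1.2
      simp at e
      simp [N, e] at this
  let R : {a : F // N C a = 1} × (F ≃+* F) → St := fun p => ⟨_, hmem p⟩
  have hR : Function.Injective R := by
    intro p p' hpp
    have key : ∀ s, suConj (dgU C ![one, p.1]) p.2 s = suConj (dgU C ![one, p'.1]) p'.2 s := fun s =>
      DFunLike.congr_fun (congrArg Subtype.val hpp) s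
    have hτ : p.2 = p'.2 := RingEquiv.ext fun a => by
      obtain ⟨b, hb⟩ := AutPSU.exists_norm C (x := 1 - N C a) (by rw [map_sub, map_one, N_fixed])
      obtain ⟨s, hs, -⟩ := exists_two C (a := a) (b := b) (by rw [show N C b = b * C.σ b from rfl, hb]; ring)
      have h1 := en_suConj C ![one, p.1] p.2 s 0 0
      have h1' := en_suConj C ![one, p'.1] p'.2 s 0 0
      simp [one, hs] at h1 h1'
      rw [← h1, ← h1']
      exact congrArg (fun u => en u 0 0) (key s)
    obtain ⟨s, -, hs⟩ := exists_two C (a := 0) (b := 1) (by simp [N])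
    have h1 := en_suConj C ![one, p.1] p.2 s 0 1
    have h1' := en_suConj C ![one, p'.1] p'.2 s 0 1
    rw [key] at h1
    rw [hs, map_one] at h1 h1'
    refine Prod.ext (Subtype.ext ?_) hτ
    have hne0 : en (suConj (dgU C ![one, p'.1]) p'.2 s) 0 1 ≠ 0 := fun e => by simp [e, one] at h1'
    exact mul_left_cancel₀ hne0 (by simpa [one] using h1.trans h1'.symm)
  -- the normaliser
  have hNbd : Nat.card (St.comap (MulAut.conj : SU[2] →* MulAut SU[2])) ≤ (q + 1) * 2 := by
    have hmem' : ∀ g ∈ St.comap (MulAut.conj : SU[2] →* MulAut SU[2]), en g 0 1 = 0 ∨ en g 0 0 = 0 := by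
      intro g hg
      obtain ⟨a, ha, hane⟩ : ∃ a : F, N C a = 1 ∧ C.σ a ≠ a := by
        by_contra! hc
        have h2 : Nat.card {a : F // N C a = 1} ≤ Nat.card {a : F // a ∈ ({1, -1} : Finset F)} :=
          Nat.card_le_card_of_injective (fun a => ⟨a.1, by
            have := a.2
            rw [N, hc a.1 a.2, ← pow_two, sq_eq_one_iff] at this
            simpa using this⟩) fun a b e => Subtype.ext (congrArg (fun z => z.1) e :)
        rw [hN1, Nat.card_eq_fintype_card, Fintype.card_coe] at h2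
        have := Finset.card_le_two (a := (1 : F)) (b := -1)
        omega
      obtain ⟨d, hd, hd'⟩ := exists_two C (a := a) (b := 0) (by rw [ha]; simp [N])
      have h1 : g * d * g⁻¹ ∈ dTor F q := by
        rw [← memSt.1 hg]; exact ⟨d, (mem_dTor C).2 hd', rfl⟩
      rw [mem_dTor C, en_mul2, en_mul2, en_mul2, (en_inv g).2.1, (en_inv g).2.2.2, (en_rel C d).1, (en_rel C d).2,
        hd, hd'] at h1
      have : (C.σ a - a) * (en g 0 1 * en g 0 0) = 0 := by
        rw [map_zero, neg_zero] at h1; linear_combination h1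
      exact mul_eq_zero.1 ((mul_eq_zero.1 this).resolve_left (sub_ne_zero.2 hane))
    have := Nat.card_le_card_of_injective
      (fun g : St.comap (MulAut.conj : SU[2] →* MulAut SU[2]) =>
        if h0 : en g.1 0 1 = 0 then ((⟨en g.1 0 0, by
            have := en_det C g.1; rwa [h0, N, N, zero_mul, add_zero] at this⟩ : {a : F // N C a = 1}), true)
        else ((⟨en g.1 0 1, by
            have := en_det C g.1
            rwa [(hmem' g.1 g.2).resolve_left h0, N, N, zero_mul, zero_add] at this⟩ : {a : F // N C a = 1}), false))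
      (fun g g' e' => Subtype.ext (by
        dsimp only at e'
        split_ifs at e' with h0 h0' h0'
        · exact ext_two C (congrArg (fun z => z.1.1) e' :) (h0.trans h0'.symm)
        · exact absurd (congrArg Prod.snd e') (by simp)
        · exact absurd (congrArg Prod.snd e') (by simp)
        · exact ext_two C (((hmem' g.1 g.2).resolve_left h0).trans ((hmem' g'.1 g'.2).resolve_left h0').symm)
            (congrArg (fun z => z.1.1) e' :)))
    rwa [Nat.card_prod, hN1, Nat.card_eq_fintype_card (α := Bool), Fintype.card_bool] at this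
  -- counting
  have hidx : (St.comap (MulAut.conj : SU[2] →* MulAut SU[2])).index ≤ St.index := by
    rw [Subgroup.index_comap, ← Subgroup.relIndex_top_right]
    exact Subgroup.relIndex_le_of_le_right le_top (by rw [Subgroup.relIndex_top_right]; exact Subgroup.FiniteIndex.index_ne_zero)
  have hS : Nat.card St ≤ (q + 1) * (f * 2) := by
    have h1 := Subgroup.card_mul_index (St.comap (MulAut.conj : SU[2] →* MulAut SU[2]))
    rw [SU2.card_SU2 hne C.invol C.apply_eq hfix] at h1
    have h2 := Subgroup.card_mul_index St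
    have hpos : 0 < q * (q - 1) * (q + 1) := Nat.mul_pos (Nat.mul_pos (by omega) (by omega)) (by omega)
    refine Nat.le_of_mul_le_mul_left ?_ hpos
    calc q * (q - 1) * (q + 1) * Nat.card St
        ≤ ((q + 1) * 2 * St.index) * Nat.card St := Nat.mul_le_mul_right _ (h1 ▸ Nat.mul_le_mul hNbd hidx)
      _ = (q + 1) * 2 * Nat.card (MulAut SU[2]) := by rw [← h2]; ring
      _ ≤ (q + 1) * 2 * (q * (q - 1) * (q + 1) * f) := Nat.mul_le_mul_left _ hA
      _ = _ := by ring
  have hsurj : Function.Surjective R :=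
    (hR.bijective_of_nat_card_le (by rw [Nat.card_prod, hN1, gF]; exact hS)).2
  obtain ⟨p, hpα⟩ := hsurj ⟨α, memSt.2 hα⟩
  exact ⟨![one, p.1], p.2, fun s => (DFunLike.congr_fun (congrArg Subtype.val hpα) s).symm⟩

end Cfsg.Agent.Phan
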