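import Cfsg.Agent.Lib.AutPSU.Basic

/-!
Elementary facts on the standard hermitian space: orthonormal families, block embeddings, avoiding values.
-/

set_option autoImplicit false
set_option linter.unusedSectionVars false
set_option linter.unusedSimpArgs false
set_option linter.style.haveILetI false
set_option linter.style.show false

namespace Cfsg.Agent.Phan

open Matrix
open Cfsg.Agent.AutPSU (Conj h act act_mul act_one act_inv_act act_pres act_inj ext_act exists_SU isHerm add_left
  add_right smul_left smul_right sub_left sub_right zero_left zero_right self_fixed)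

variable {F : Type*} [Field F] [Fintype F] {q n : ℕ}

local notation "Vn" => Fin n → F
local notation "SUn" => Cfsg.SU n F q
local notation "𝕙" => h (q := q)

/-- A coordinate vector. -/
def bv (i : Fin n) : Vn := Pi.single i 1

theorem h_bv (C : Conj F q) (i j : Fin n) : 𝕙 (bv i : Vn) (bv j) = if i = j then 1 else 0 :=
  HermStd.hermForm_single (σ := C.σ.toRingHom) C.apply_eq i j

theorem h_bv_right (C : Conj F q) (v : Vn) (i : Fin n) : 𝕙 v (bv i) = v i := by
  show ∑ k, v k * (Pi.single i (1 : F) : Vn) k ^ q = _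
  simp only [← C.apply_eq]
  rw [Finset.sum_eq_single i]
  · simp
  · intro k _ hk; simp [hk]
  · simp

theorem h_bv_left (C : Conj F q) (v : Vn) (i : Fin n) : 𝕙 (bv i) v = C.σ (v i) := by
  rw [AutPSU.symm C v, h_bv_right C]

/-- The norm. -/
def N (C : Conj F q) (x : F) : F := x * C.σ x

theorem N_fixed (C : Conj F q) (x : F) : C.σ (N C x) = N C x := by
  simp [N, C.invol, mul_comm]

theorem N_mul (C : Conj F q) (x y : F) : N C (x * y) = N C x * N C y := by
  simp [N]; ring

theorem N_eq_zero (C : Conj F q) {x : F} : N C x = 0 ↔ x = 0 := by simp [N]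

theorem N_symm (C : Conj F q) (u v : Vn) : N C (𝕙 v u) = N C (𝕙 u v) := by
  rw [AutPSU.symm C u v, N, N, C.invol, mul_comm]

theorem card_fixed (C : Conj F q) (hF : Fintype.card F = q ^ 2) :
    Nat.card (Hermitian.fixed C.σ.toRingHom) = q := by
  have h1 := Hermitian.card_eq_sq (σ := C.σ.toRingHom)
    (fun e => C.ne_one.elim fun μ hμ => hμ (RingHom.congr_fun e μ)) C.invol
  rw [Nat.card_eq_fintype_card, hF] at h1
  exact (Nat.pow_left_injective (by norm_num) h1).symm

/-- A fixed value outside a short list. -/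
theorem exists_fixed_avoid (C : Conj F q) (hF : Fintype.card F = q ^ 2) (l : List F) (hl : l.length < q) :
    ∃ x, C.σ x = x ∧ x ∉ l := by
  classical
  by_contra! hc
  have hsub : Nat.card (Hermitian.fixed C.σ.toRingHom) ≤ Nat.card {x // x ∈ l.toFinset} :=
    Nat.card_le_card_of_injective (fun x => ⟨x.1, List.mem_toFinset.2 (hc x.1 x.2)⟩) fun a b e =>
      Subtype.ext (congrArg (fun z => z.1) e :)
  rw [card_fixed C hF, Nat.card_eq_fintype_card, Fintype.card_coe] at hsub
  have := l.toFinset_card_le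
  omega

theorem exists_trace (C : Conj F q) {x : F} (hx : C.σ x = x) : ∃ b, b + C.σ b = x := AutPSU.conj_fixed C hx

theorem exists_scale (C : Conj F q) {k : F} (hk : C.σ k = k) (h0 : k ≠ 0) : ∃ γ : F, γ ≠ 0 ∧ N C γ * k = 1 := by
  obtain ⟨γ, hγ⟩ := AutPSU.exists_norm C (x := k⁻¹) (by rw [map_inv₀, hk])
  refine ⟨γ, fun e => ?_, by rw [N, hγ, inv_mul_cancel₀ h0]⟩
  rw [e, zero_mul] at hγ
  exact inv_ne_zero h0 hγ.symm

theorem h_smul_smul (C : Conj F q) (a b : F) (u v : Vn) : 𝕙 (a • u) (b • v) = a * C.σ b * 𝕙 u v := by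
  rw [smul_left C, smul_right C, mul_assoc]

theorem h_smul_self (C : Conj F q) (a : F) (u : Vn) : 𝕙 (a • u) (a • u) = N C a * 𝕙 u u := h_smul_smul C a a u u

/-- An anisotropic vector can be scaled to a unit vector. -/
theorem exists_unit (C : Conj F q) {v : Vn} (hv : 𝕙 v v ≠ 0) : ∃ γ : F, γ ≠ 0 ∧ 𝕙 (γ • v) (γ • v) = 1 := by
  obtain ⟨γ, h0, hγ⟩ := exists_scale C (self_fixed C v) hv
  exact ⟨γ, h0, by rw [h_smul_self C, hγ]⟩

/-- Two exceptional sets do not fill the field. -/
theorem exists_avoid (C : Conj F q) (hF : Fintype.card F = q ^ 2) (hq : 3 ≤ q) (c c' e e' k k' : F)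
    (h1 : k ≠ 0 ∨ e ≠ 0 ∨ c ≠ 0) (h2 : k' ≠ 0 ∨ e' ≠ 0 ∨ c' ≠ 0) :
    ∃ t : F, t * c + C.σ (t * c) + N C t * e ≠ k ∧ t * c' + C.σ (t * c') + N C t * e' ≠ k' := by
  classical
  have bad : ∀ c e k : F, (k ≠ 0 ∨ e ≠ 0 ∨ c ≠ 0) →
      (Finset.univ.filter fun t : F => t * c + C.σ (t * c) + N C t * e = k).card ≤ q + 1 := by
    intro c e k hne
    let P : Polynomial F := Polynomial.C e * Polynomial.X ^ (q + 1) + Polynomial.C (C.σ c) * Polynomial.X ^ q +
      Polynomial.C c * Polynomial.X - Polynomial.C k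
    have hP : P ≠ 0 := by
      intro h0
      have c1 := congrArg (fun p => Polynomial.coeff p (q + 1)) h0
      have c2 := congrArg (fun p => Polynomial.coeff p 1) h0
      have c3 := congrArg (fun p => Polynomial.coeff p 0) h0
      simp only [P, Polynomial.coeff_sub, Polynomial.coeff_add, Polynomial.coeff_C_mul, Polynomial.coeff_X_pow,
        Polynomial.coeff_X, Polynomial.coeff_C, Polynomial.coeff_zero] at c1 c2 c3
      simp [show q + 1 ≠ q by omega, show (q + 1) ≠ 1 by omega, show ¬ (1 = q + 1) by omega, show ¬ (1 = q) by omega,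
        show ¬ (0 = q) by omega, show q ≠ 0 by omega] at c1 c2 c3
      rcases hne with h | h | h
      · exact h c3
      · exact h c1
      · exact h c2
    have hsub : (Finset.univ.filter fun t : F => t * c + C.σ (t * c) + N C t * e = k) ⊆ P.roots.toFinset := by
      intro t ht
      rw [Finset.mem_filter] at ht
      rw [Multiset.mem_toFinset, Polynomial.mem_roots hP]
      show P.eval t = 0
      simp only [P, Polynomial.eval_sub, Polynomial.eval_add, Polynomial.eval_mul, Polynomial.eval_pow,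
        Polynomial.eval_C, Polynomial.eval_X]
      have e2 := ht.2
      rw [map_mul, N, C.apply_eq t] at e2
      linear_combination e2
    refine (Finset.card_le_card hsub).trans ((Multiset.toFinset_card_le _).trans
      ((Polynomial.card_roots' _).trans ?_))
    simp only [P]
    compute_degree!
  by_contra! hc
  have hsub : (Finset.univ : Finset F) ⊆ (Finset.univ.filter fun t : F => t * c + C.σ (t * c) + N C t * e = k) ∪
      (Finset.univ.filter fun t : F => t * c' + C.σ (t * c') + N C t * e' = k') := by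
    intro t _
    simp only [Finset.mem_union, Finset.mem_filter, Finset.mem_univ, true_and]
    exact or_iff_not_imp_left.2 (hc t)
  have hb := (Finset.card_le_card hsub).trans
    ((Finset.card_union_le _ _).trans (Nat.add_le_add (bad c e k h1) (bad c' e' k' h2)))
  rw [Finset.card_univ, hF] at hb
  have : 3 * q ≤ q * q := Nat.mul_le_mul_right q hq
  rw [pow_two] at hb
  omega

/-! ### orthogonal complements -/

/-- An orthonormal family. -/
def ON {m : ℕ} (x : Fin m → Vn) : Prop := ∀ i j, 𝕙 (x i) (x j) = if i = j then 1 else 0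

/-- A vector orthogonal to few vectors. -/
theorem exists_perp_ne_zero (C : Conj F q) {m : ℕ} (x : Fin m → Vn) (hm : m < n) :
    ∃ v : Vn, v ≠ 0 ∧ ∀ i, 𝕙 v (x i) = 0 := by
  let φ : Vn →ₗ[F] (Fin m → F) := LinearMap.pi fun i => AutPSU.form C (x i)
  have h1 := LinearMap.finrank_range_add_finrank_ker φ
  have h2 := Submodule.finrank_le (LinearMap.range φ)
  rw [Module.finrank_fintype_fun_eq_card, Fintype.card_fin] at h1 h2
  have hne : LinearMap.ker φ ≠ ⊥ := fun e => by rw [e, finrank_bot] at h1; omega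
  obtain ⟨v, hv, hv0⟩ := Submodule.exists_mem_ne_zero_of_ne_bot hne
  exact ⟨v, hv0, fun i => congrFun (LinearMap.mem_ker.1 hv) i⟩

/-- A unit vector orthogonal to a family with non-degenerate Gram matrix. -/
theorem exists_perp_unit (C : Conj F q) {m : ℕ} (x : Fin m → Vn)
    (hg : ∀ c : Fin m → F, (∀ j, ∑ i, c i * 𝕙 (x i) (x j) = 0) → c = 0) (hm : m < n) :
    ∃ v : Vn, 𝕙 v v = 1 ∧ ∀ i, 𝕙 v (x i) = 0 := by
  obtain ⟨hd, hW, -⟩ := (isHerm (n := n) C).orth_spec hg
  rw [Fintype.card_fin, Module.finrank_fintype_fun_eq_card, Fintype.card_fin] at hd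
  haveI : Nontrivial ((isHerm (n := n) C).orth x) := Module.nontrivial_of_finrank_pos (R := F) (by omega)
  obtain ⟨v, hv⟩ := hW.exists_norm_one
  exact ⟨v.1, hv, (isHerm (n := n) C).mem_orth.1 v.2⟩

theorem ON.gram (C : Conj F q) {m : ℕ} {x : Fin m → Vn} (hx : ON (q := q) x) :
    ∀ c : Fin m → F, (∀ j, ∑ i, c i * 𝕙 (x i) (x j) = 0) → c = 0 :=
  (isHerm (n := n) C).orthonormal_gram hx

theorem ON.snoc (C : Conj F q) {m : ℕ} {x : Fin m → Vn} (hx : ON (q := q) x) {v : Vn} (hv : 𝕙 v v = 1)
    (hvx : ∀ i, 𝕙 v (x i) = 0) : ON (q := q) (Fin.snoc x v) := by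
  intro i j
  induction i using Fin.lastCases <;> induction j using Fin.lastCases
  · simp [hv]
  · rename_i j; simp [hvx j, (Fin.castSucc_ne_last j).symm]
  · rename_i i; simp [(AutPSU.eq_zero_comm C).1 (hvx i), Fin.castSucc_ne_last i]
  · rename_i i j; simpa using hx i j

/-- Transitivity on orthonormal families. -/
theorem exists_su (C : Conj F q) {m : ℕ} (hm : m < n) {x y : Fin m → Vn} (hx : ON (q := q) x) (hy : ON (q := q) y) :
    ∃ s : SUn, ∀ i, act s (x i) = y i := by
  classical
  have hh := isHerm (n := n) C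
  obtain ⟨g, hg, hgx⟩ := hh.exists_iso_of_gram (hh.linearIndependent_of_gram (hx.gram C))
    (hh.linearIndependent_of_gram (hy.gram C)) fun i j => by
      show 𝕙 (x i) (x j) = 𝕙 (y i) (y j); rw [hx i j, hy i j]
  have hb : ON (q := q) (fun i : Fin m => (bv (Fin.castLE hm.le i) : Vn)) := fun i j => by
    rw [h_bv C]; simp [Fin.ext_iff]
  obtain ⟨k, hk, hkx⟩ := hh.exists_iso_of_gram (hh.linearIndependent_of_gram (hb.gram C))
    (hh.linearIndependent_of_gram (hx.gram C)) fun i j => by
      show 𝕙 (bv (Fin.castLE hm.le i)) (bv (Fin.castLE hm.le j)) = 𝕙 (x i) (x j); rw [hb i j, hx i j]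
  set Mg := LinearMap.toMatrix' g.toLinearMap with hMg
  set Mk := LinearMap.toMatrix' k.toLinearMap with hMk
  set Mk' := LinearMap.toMatrix' k.symm.toLinearMap with hMk'
  have vg : ∀ u, Mg *ᵥ u = g u := fun u => LinearMap.toMatrix'_mulVec g.toLinearMap u
  have vk : ∀ u, Mk *ᵥ u = k u := fun u => LinearMap.toMatrix'_mulVec k.toLinearMap u
  have vk' : ∀ u, Mk' *ᵥ u = k.symm u := fun u => LinearMap.toMatrix'_mulVec k.symm.toLinearMap u
  have hkk : Mk * Mk' = 1 := Matrix.ext_of_mulVec_single fun i => by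
    rw [← Matrix.mulVec_mulVec, vk, vk', k.apply_symm_apply, Matrix.one_mulVec]
  have hdk : Mk.det * Mk'.det = 1 := by rw [← Matrix.det_mul, hkk, Matrix.det_one]
  have hgd : Mg.det ≠ 0 := by
    intro e
    obtain ⟨u, hu, hu0⟩ := Matrix.exists_mulVec_eq_zero_iff.2 e
    rw [vg] at hu0
    exact hu (g.injective (hu0.trans (map_zero g).symm))
  have hN : Mg.det * C.σ Mg.det = 1 :=
    HermSU.det_mem_normOne (σ := C.σ.toRingHom) C.apply_eq
      (g := Matrix.GeneralLinearGroup.mkOfDetNeZero Mg hgd) (show _ ∈ Cfsg.GU n F q from fun u v => by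
        show 𝕙 (Mg *ᵥ u) (Mg *ᵥ v) = 𝕙 u v
        rw [vg, vg]; exact hg u v)
  let l : Fin n := ⟨n - 1, by omega⟩
  let d : Fin n → F := fun i => if i = l then Mg.det⁻¹ else 1
  have hdd : ∀ i, d i * C.σ (d i) = 1 := fun i => by
    simp only [d]
    split_ifs
    · rw [map_inv₀, ← _root_.mul_inv_rev, mul_comm, hN, inv_one]
    · simp
  have hdp : ∀ u v : Vn, 𝕙 (Matrix.diagonal d *ᵥ u) (Matrix.diagonal d *ᵥ v) = 𝕙 u v := fun u v => by
    show ∑ i, _ * _ ^ q = ∑ i, _ * _ ^ q
    refine Finset.sum_congr rfl fun i _ => ?_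
    rw [Matrix.mulVec_diagonal, Matrix.mulVec_diagonal, mul_pow, ← C.apply_eq (d i)]
    linear_combination (u i * v i ^ q) * hdd i
  obtain ⟨s, hs⟩ := exists_SU (n := n) (q := q) (Mg * Mk * Matrix.diagonal d * Mk')
    (by
      rw [Matrix.det_mul, Matrix.det_mul, Matrix.det_mul, Matrix.det_diagonal,
        show ∏ i, d i = Mg.det⁻¹ by simp [d, Finset.prod_ite_eq'],
        show Mg.det * Mk.det * Mg.det⁻¹ * Mk'.det = (Mg.det * Mg.det⁻¹) * (Mk.det * Mk'.det) by ring,
        hdk, mul_inv_cancel₀ hgd, one_mul])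
    (fun u v => by
      simp only [← Matrix.mulVec_mulVec, vg, vk, vk']
      show 𝕙 (g _) (g _) = _
      refine (hg _ _).trans ((hk _ _).trans ((hdp _ _).trans ?_))
      refine (hk _ _).symm.trans ?_
      rw [k.apply_symm_apply, k.apply_symm_apply])
  refine ⟨s, fun i => ?_⟩
  rw [hs]
  simp only [← Matrix.mulVec_mulVec, vg, vk, vk']
  rw [← hkx i, k.symm_apply_apply, show Matrix.diagonal d *ᵥ (bv (Fin.castLE hm.le i) : Vn) = bv (Fin.castLE hm.le i) by
    funext j
    rw [Matrix.mulVec_diagonal]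
    by_cases hj : j = Fin.castLE hm.le i
    · subst hj
      have : Fin.castLE hm.le i ≠ l := fun e => by
        have h1 := congrArg Fin.val e
        simp [l] at h1
        omega
      simp [d, this]
    · simp [bv, hj], hkx i, hgx i]

/-! ### block embeddings -/

variable {k : ℕ} (o : ℕ) (ho : o + k ≤ n)

/-- The coordinates split at a block. -/
def blk : Fin k ⊕ Fin (n - k) ≃ Fin n where
  toFun := Sum.elim (fun a => ⟨o + a, by omega⟩) fun b => if h : (b : ℕ) < o then ⟨b, by omega⟩ else ⟨b + k, by omega⟩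
  invFun i := if h1 : (i : ℕ) < o then .inr ⟨i, by omega⟩
    else if h2 : (i : ℕ) < o + k then .inl ⟨i - o, by omega⟩ else .inr ⟨i - k, by omega⟩
  left_inv := by
    rintro (a | b)
    · simp
    · by_cases h : (b : ℕ) < o
      · simp [h]
      · simp [h, show ¬ ((b : ℕ) + k < o) by omega]

  right_inv i := by
    by_cases h1 : (i : ℕ) < o
    · simp [h1]
    · by_cases h2 : (i : ℕ) < o + k
      · simp [h1, h2]; ext; simp; omega
      · simp [h1, h2, show ¬ ((i : ℕ) - k < o) by omega]; ext; simp; omega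

/-- A block matrix. -/
def bmat (M : Matrix (Fin k) (Fin k) F) : Matrix (Fin n) (Fin n) F :=
  (Matrix.fromBlocks M 0 0 1).submatrix (blk o ho).symm (blk o ho).symm

theorem bmat_mul (M M' : Matrix (Fin k) (Fin k) F) : bmat o ho (M * M') = bmat o ho M * bmat o ho M' := by
  rw [bmat, bmat, bmat, Matrix.submatrix_mul_equiv, Matrix.fromBlocks_multiply]
  simp

theorem bmat_act (M : Matrix (Fin k) (Fin k) F) (v : Vn) :
    bmat o ho M *ᵥ v = Sum.elim (M *ᵥ fun a => v (blk o ho (.inl a))) (fun b => v (blk o ho (.inr b))) ∘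
      (blk o ho).symm := by
  rw [bmat, Matrix.submatrix_mulVec_equiv, Matrix.fromBlocks_mulVec]
  simp [Function.comp_def]

/-- The block embedding. -/
def emb : Cfsg.SU k F q →* SUn where
  toFun s := ⟨⟨bmat o ho s.1.1, by
      rw [bmat, Matrix.det_submatrix_equiv_self, Matrix.det_fromBlocks_zero₁₂, Matrix.det_one, mul_one, s.1.2]⟩, by
    intro u v
    show 𝕙 (bmat o ho s.1.1 *ᵥ u) (bmat o ho s.1.1 *ᵥ v) = 𝕙 u v
    simp only [bmat_act, h, Cfsg.hermForm]
    rw [← (blk o ho).sum_comp, ← (blk o ho).sum_comp (fun i => u i * v i ^ q), Fintype.sum_sum_type,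
      Fintype.sum_sum_type]
    simp only [Function.comp_apply, Equiv.symm_apply_apply, Sum.elim_inl, Sum.elim_inr]
    exact congrArg (· + _) (s.2 (fun a => u (blk o ho (.inl a))) fun a => v (blk o ho (.inl a)))⟩
  map_one' := Subtype.ext (Subtype.ext (by
    show bmat o ho (1 : Matrix (Fin k) (Fin k) F) = 1
    rw [bmat, Matrix.fromBlocks_one, Matrix.submatrix_one_equiv]))
  map_mul' s t := Subtype.ext (Subtype.ext (bmat_mul o ho s.1.1 t.1.1))

theorem emb_act (s : Cfsg.SU k F q) (v : Vn) :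
    act (emb o ho s : SUn) v = Sum.elim (act s fun a => v (blk o ho (.inl a))) (fun b => v (blk o ho (.inr b))) ∘
      (blk o ho).symm := bmat_act o ho s.1.1 v

theorem emb_fix (s : Cfsg.SU k F q) {i : Fin n} (hi : (i : ℕ) < o ∨ o + k ≤ i) :
    act (emb o ho s : SUn) (bv i) = bv i := by
  rw [emb_act]
  have hl : ∀ a : Fin k, blk o ho (.inl a) ≠ i := fun a e => by
    have h1 : o + (a : ℕ) = (i : ℕ) := congrArg Fin.val e
    omega
  funext j
  obtain ⟨x, rfl⟩ := (blk o ho).surjective j
  rw [Function.comp_apply, Equiv.symm_apply_apply]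
  rcases x with a | b
  · rw [Sum.elim_inl, show (fun a => (bv i : Vn) (blk o ho (.inl a))) = 0 from funext fun a => by simp [bv, hl a],
      AutPSU.act_zero]
    simp [bv, hl a]
  · rfl

theorem emb_bv (s : Cfsg.SU k F q) (a : Fin k) (j : Fin k) :
    act (emb o ho s : SUn) (bv (blk o ho (.inl a))) (blk o ho (.inl j)) = act s (bv a) j := by
  rw [emb_act, Function.comp_apply, Equiv.symm_apply_apply, Sum.elim_inl]
  congr 2
  funext b
  simp [bv, Pi.single_apply, (blk o ho).injective.eq_iff]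

theorem emb_injective : Function.Injective (emb (F := F) (q := q) o ho) := by
  intro s t e
  refine ext_act fun x => funext fun j => ?_
  have h1 := congrArg (fun u : SUn => act u (Sum.elim x (0 : Fin (n - k) → F) ∘ (blk o ho).symm) (blk o ho (.inl j))) e
  simpa [emb_act, Function.comp_def] using h1

/-- The image is the pointwise stabiliser of the other coordinates. -/
theorem emb_range (C : Conj F q) (s : SUn) (hs : ∀ i : Fin n, (i : ℕ) < o ∨ o + k ≤ i → act s (bv i) = bv i) :
    ∃ t : Cfsg.SU k F q, emb o ho t = s := by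
  set Q := s.1.1.submatrix (blk o ho) (blk o ho) with hQ
  have hout : ∀ b : Fin (n - k), ((blk o ho (.inr b) : Fin n) : ℕ) < o ∨ o + k ≤ (blk o ho (.inr b) : Fin n) := by
    intro b
    show ((if h : (b : ℕ) < o then (⟨b, by omega⟩ : Fin n) else ⟨b + k, by omega⟩ : Fin n) : ℕ) < o ∨ o + k ≤
      ((if h : (b : ℕ) < o then (⟨b, by omega⟩ : Fin n) else ⟨b + k, by omega⟩ : Fin n) : ℕ)
    split_ifs with h <;> simp <;> omega
  have hcol : ∀ (x : Fin n) (b : Fin (n - k)), s.1.1 x (blk o ho (.inr b)) = (bv (blk o ho (.inr b)) : Vn) x :=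
    fun x b => by
      have := congrFun (hs _ (hout b)) x
      rwa [act, bv, Matrix.mulVec_single_one] at this
  have hrow : ∀ (x : Fin n) (b : Fin (n - k)), s.1.1 (blk o ho (.inr b)) x = (bv x : Vn) (blk o ho (.inr b)) :=
    fun x b => by
      have h1 := act_pres s (bv x) (bv (blk o ho (.inr b)))
      rw [hs _ (hout b), h_bv_right C, h_bv_right C, act, bv, Matrix.mulVec_single_one] at h1
      exact h1
  have hQe : Q = Matrix.fromBlocks Q.toBlocks₁₁ 0 0 1 := by
    conv_lhs => rw [← Matrix.fromBlocks_toBlocks Q]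
    have hi := (blk o ho).injective
    congr 1
    · ext a b; simp [Q, Matrix.toBlocks₁₂, hcol, bv, hi.eq_iff]
    · ext a b; simp [Q, Matrix.toBlocks₂₁, hrow, bv, hi.eq_iff]
    · ext a b; simp [Q, Matrix.toBlocks₂₂, hcol, bv, hi.eq_iff, Pi.single_apply, Matrix.one_apply]
  have hM : bmat o ho Q.toBlocks₁₁ = s.1.1 := by
    rw [bmat, ← hQe, hQ, Matrix.submatrix_submatrix]
    simp
  have hd : Q.toBlocks₁₁.det = 1 := by
    have := s.1.2
    rwa [← hM, bmat, Matrix.det_submatrix_equiv_self, Matrix.det_fromBlocks_zero₁₂, Matrix.det_one, mul_one] at this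
  obtain ⟨t, ht⟩ := exists_SU (n := k) (q := q) Q.toBlocks₁₁ hd fun u v => by
    have h1 := act_pres s (Sum.elim u (0 : Fin (n - k) → F) ∘ (blk o ho).symm)
      (Sum.elim v (0 : Fin (n - k) → F) ∘ (blk o ho).symm)
    simp only [act, ← hM, bmat_act, h, Cfsg.hermForm] at h1
    simp only [h, Cfsg.hermForm]
    rw [← (blk o ho).sum_comp, ← (blk o ho).sum_comp, Fintype.sum_sum_type, Fintype.sum_sum_type] at h1
    simpa [Function.comp_def] using h1
  refine ⟨t, Subtype.ext (Subtype.ext ?_)⟩
  show bmat o ho t.1.1 = _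
  rw [show t.1.1 = Q.toBlocks₁₁ from Matrix.ext_of_mulVec_single fun i => ht _, hM]

end Cfsg.Agent.Phan
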