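import Cfsg.Agent.Lib.Phan.Basic

/-!
A covering of the orthogonality graph of unit vectors of a hermitian space in which triangles lift, and squares
with non-degenerate diagonal lift, is trivial.
-/

set_option autoImplicit false
set_option linter.unusedSectionVars false
set_option linter.unusedSimpArgs false
set_option linter.style.show false
set_option maxHeartbeats 1000000

namespace Cfsg.Agent.Phan

open Cfsg.Agent.AutPSU (Conj h isHerm add_left add_right smul_left smul_right sub_left sub_right zero_left zero_right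
  self_fixed eq_zero_comm)

variable {F : Type*} [Field F] [Fintype F] {q n : ℕ}

local notation "Vn" => Fin n → F
local notation "𝕙" => h (q := q)

theorem hneg_left (C : Conj F q) (x y : Vn) : 𝕙 (-x) y = -𝕙 x y := by
  rw [← neg_one_smul F x, smul_left C, neg_one_mul]

theorem hneg_right (C : Conj F q) (x y : Vn) : 𝕙 x (-y) = -𝕙 x y := by
  rw [← neg_one_smul F y, smul_right C, map_neg, map_one, neg_one_mul]

theorem N_one (C : Conj F q) : N C 1 = 1 := by simp [N]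

theorem N_zero (C : Conj F q) : N C 0 = 0 := by simp [N]

section lemmas

variable (C : Conj F q) (hF : Fintype.card F = q ^ 2)
include C hF

theorem gram_pair {a p : Vn} (ha : 𝕙 a a = 1) (hp : 𝕙 p p = 1) (hap : 𝕙 a p = 0) :
    ON (q := q) ![a, p] := by
  intro i j
  fin_cases i <;> fin_cases j <;> simp [ha, hp, hap, (eq_zero_comm C).1 hap]

/-- A partner of a vector orthogonal to a pair. -/
theorem exists_partner {a p r : Vn} (ha : 𝕙 a a = 1) (hp : 𝕙 p p = 1) (hap : 𝕙 a p = 0)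
    (hra : 𝕙 r a = 0) (hrp : 𝕙 r p = 0) (hr : r ≠ 0) :
    ∃ s : Vn, 𝕙 s a = 0 ∧ 𝕙 s p = 0 ∧ 𝕙 r s = 1 := by
  have hh := isHerm (n := n) C
  obtain ⟨-, hW, -⟩ := hh.orth_spec ((gram_pair C hF ha hp hap).gram C)
  have hr' : r ∈ hh.orth ![a, p] := hh.mem_orth.2 fun i => by fin_cases i <;> assumption
  obtain ⟨y, hy⟩ : ∃ y : hh.orth ![a, p], 𝕙 r y.1 ≠ 0 := by
    by_contra! hc
    exact hr (congrArg Subtype.val (hW.nondeg ⟨r, hr'⟩ hc) :)
  have h1 := hh.mem_orth.1 y.2 0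
  have h2 := hh.mem_orth.1 y.2 1
  refine ⟨C.σ (𝕙 r y.1)⁻¹ • y.1, ?_, ?_, ?_⟩
  · rw [smul_left C]; exact mul_eq_zero_of_right _ h1
  · rw [smul_left C]; exact mul_eq_zero_of_right _ h2
  · rw [smul_right C, C.invol, inv_mul_cancel₀ hy]

/-- An isotropic partner. -/
theorem exists_iso_partner {a p r : Vn} (ha : 𝕙 a a = 1) (hp : 𝕙 p p = 1) (hap : 𝕙 a p = 0)
    (hra : 𝕙 r a = 0) (hrp : 𝕙 r p = 0) (hr : r ≠ 0) (hrr : 𝕙 r r = 0) :
    ∃ s : Vn, 𝕙 s a = 0 ∧ 𝕙 s p = 0 ∧ 𝕙 r s = 1 ∧ 𝕙 s r = 1 ∧ 𝕙 s s = 0 := by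
  obtain ⟨s, sa, sp, rs⟩ := exists_partner C hF ha hp hap hra hrp hr
  have sr : 𝕙 s r = 1 := by rw [AutPSU.symm C r, rs, map_one]
  obtain ⟨b, hb⟩ := exists_trace C (x := -𝕙 s s) (by rw [map_neg, self_fixed C])
  refine ⟨s + b • r, ?_, ?_, ?_, ?_, ?_⟩
  · simp [add_left C, smul_left C, sa, hra]
  · simp [add_left C, smul_left C, sp, hrp]
  · simp [add_right C, smul_right C, rs, hrr]
  · simp [add_left C, smul_left C, sr, hrr]
  · simp only [add_left C, add_right C, smul_left C, smul_right C, hneg_left C, hneg_right C, sr, rs, hrr]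
    linear_combination hb

/-- A unit vector orthogonal to two orthogonal vectors, the first of norm one. -/
theorem perp2 (hn : 4 ≤ n) {e w : Vn} (he : 𝕙 e e = 1) (hwe : 𝕙 w e = 0) :
    ∃ y : Vn, 𝕙 y y = 1 ∧ 𝕙 y e = 0 ∧ 𝕙 y w = 0 := by
  by_cases hw : w = 0
  · obtain ⟨y, hy, hye⟩ := exists_perp_unit C ![e]
      (ON.gram C (q := q) (fun i j => by fin_cases i; fin_cases j; simp [he])) (by omega)
    exact ⟨y, hy, hye 0, by rw [hw, zero_right C]⟩
  by_cases hw0 : 𝕙 w w = 0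
  · -- an isotropic vector
    obtain ⟨p, hp, hpe⟩ : ∃ p : Vn, 𝕙 w p ≠ 0 ∧ 𝕙 p e = 0 := by
      by_contra! hc
      refine hw (AutPSU.nondeg C fun v => ?_)
      have := hc (v - 𝕙 v e • e)
      rw [sub_left C, smul_left C, he, mul_one, sub_self] at this
      by_contra hv
      refine this ?_ rfl
      rw [sub_right C, smul_right C, hwe, mul_zero, sub_zero]
      exact hv
    obtain ⟨y, hy, hyo⟩ := exists_perp_unit C ![e, w, p] (by
      intro c hc
      have e0 := hc 0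
      have e1 := hc 1
      have e2 := hc 2
      have hew := (eq_zero_comm C).1 hwe
      have hep := (eq_zero_comm C).1 hpe
      simp [Fin.sum_univ_three, he, hwe, hpe, hw0, hew, hep] at e0 e1 e2
      have hpw : 𝕙 p w ≠ 0 := fun e => hp ((eq_zero_comm C).1 e)
      have c2 : c 2 = 0 := by simpa [hpw] using e1
      have c1 : c 1 = 0 := by simpa [c2, hp] using e2
      funext i; fin_cases i
      exacts [e0, c1, c2]) (by omega)
    exact ⟨y, hy, hyo 0, hyo 1⟩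
  · obtain ⟨y, hy, hyo⟩ := exists_perp_unit C ![e, w] (by
      intro c hc
      have e0 := hc 0
      have e1 := hc 1
      simp [Fin.sum_univ_two, he, hwe, (eq_zero_comm C).1 hwe, hw0] at e0 e1
      funext i; fin_cases i
      exacts [e0, e1]) (by omega)
    exact ⟨y, hy, hyo 0, hyo 1⟩

/-- A unit vector orthogonal to three orthogonal vectors, the first two of norm one. -/
theorem perp3 (hn : 4 ≤ n) {a p w : Vn} (ha : 𝕙 a a = 1) (hp : 𝕙 p p = 1) (hap : 𝕙 a p = 0)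
    (hwa : 𝕙 w a = 0) (hwp : 𝕙 w p = 0) (hc : 5 ≤ n ∨ w = 0 ∨ 𝕙 w w ≠ 0) :
    ∃ y : Vn, 𝕙 y y = 1 ∧ 𝕙 y a = 0 ∧ 𝕙 y p = 0 ∧ 𝕙 y w = 0 := by
  have hpa := (eq_zero_comm C).1 hap
  have haw := (eq_zero_comm C).1 hwa
  have hpw := (eq_zero_comm C).1 hwp
  by_cases hw : w = 0
  · obtain ⟨y, hy, hyo⟩ := exists_perp_unit C ![a, p] ((gram_pair C hF ha hp hap).gram C) (by omega)
    exact ⟨y, hy, hyo 0, hyo 1, by rw [hw, zero_right C]⟩
  by_cases hw0 : 𝕙 w w = 0
  · have h5 : 5 ≤ n := by tauto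
    obtain ⟨s, sa, sp, rs⟩ := exists_partner C hF ha hp hap hwa hwp hw
    have has := (eq_zero_comm C).1 sa
    have hps := (eq_zero_comm C).1 sp
    have sr : 𝕙 s w = 1 := by rw [AutPSU.symm C w, rs, map_one]
    obtain ⟨y, hy, hyo⟩ := exists_perp_unit C ![a, p, w, s] (by
      intro c hc
      have e0 := hc 0
      have e1 := hc 1
      have e2 := hc 2
      have e3 := hc 3
      simp [Fin.sum_univ_four, ha, hp, hap, hpa, hwa, hwp, haw, hpw, sa, sp, has, hps, rs, sr, hw0] at e0 e1 e2 e3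
      funext i; fin_cases i
      · exact e0
      · exact e1
      · show c 2 = 0
        simpa [e2] using e3
      · exact e2) (by omega)
    exact ⟨y, hy, hyo 0, hyo 1, hyo 2⟩
  · obtain ⟨y, hy, hyo⟩ := exists_perp_unit C ![a, p, w] (by
      intro c hc
      have e0 := hc 0
      have e1 := hc 1
      have e2 := hc 2
      simp [Fin.sum_univ_three, ha, hp, hap, hpa, hwa, hwp, haw, hpw, hw0] at e0 e1 e2
      funext i; fin_cases i
      exacts [e0, e1, e2]) (by omega)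
    exact ⟨y, hy, hyo 0, hyo 1, hyo 2⟩

/-- In four dimensions the perpendicular of a pair and an isotropic vector is a line. -/
theorem perp_line (hn : n = 4) {a p r x : Vn} (ha : 𝕙 a a = 1) (hp : 𝕙 p p = 1) (hap : 𝕙 a p = 0)
    (hra : 𝕙 r a = 0) (hrp : 𝕙 r p = 0) (hr : r ≠ 0) (hrr : 𝕙 r r = 0)
    (hxa : 𝕙 x a = 0) (hxp : 𝕙 x p = 0) (hxr : 𝕙 x r = 0) : ∃ γ : F, x = γ • r := by
  obtain ⟨s, sa, sp, rs, sr, ss⟩ := exists_iso_partner C hF ha hp hap hra hrp hr hrr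
  have hpa := (eq_zero_comm C).1 hap
  have har := (eq_zero_comm C).1 hra
  have hpr := (eq_zero_comm C).1 hrp
  have has := (eq_zero_comm C).1 sa
  have hps := (eq_zero_comm C).1 sp
  refine ⟨𝕙 x s, sub_eq_zero.1 ?_⟩
  set x' := x - 𝕙 x s • r with hx'
  have hh := isHerm (n := n) C
  obtain ⟨hd, -, -⟩ := hh.orth_spec (x := ![a, p, r, s]) (by
    intro c hc
    have e0 := hc 0
    have e1 := hc 1
    have e2 := hc 2
    have e3 := hc 3
    simp [Fin.sum_univ_four, ha, hp, hap, hpa, hra, hrp, har, hpr, sa, sp, has, hps, rs, sr, hrr, ss] at e0 e1 e2 e3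
    funext i; fin_cases i
    exacts [e0, e1, e3, e2])
  rw [Fintype.card_fin, Module.finrank_fintype_fun_eq_card, Fintype.card_fin] at hd
  have hbot : hh.orth ![a, p, r, s] = ⊥ := Submodule.finrank_eq_zero.1 (by omega)
  have hm : x' ∈ hh.orth ![a, p, r, s] := hh.mem_orth.2 fun i => by
    fin_cases i <;> simp [x', sub_left C, smul_left C, hxa, hxp, hxr, hra, hrp, hrr, rs]
  rw [hbot] at hm
  exact (Submodule.mem_bot F).1 hm

end lemmas

/-- A covering of the orthogonality graph. -/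
structure Cov (C : Conj F q) (n : ℕ) (X : Type*) where
  p : X → Fin n → F
  Adj : X → X → Prop
  orth : ∀ {x y}, Adj x y → 𝕙 (p x) (p y) = 0
  unit : ∀ x, 𝕙 (p x) (p x) = 1
  symm : ∀ {x y}, Adj x y → Adj y x
  lift : ∀ x v, 𝕙 v v = 1 → 𝕙 (p x) v = 0 → ∃ y, Adj x y ∧ p y = v
  uniq : ∀ {x y y'}, Adj x y → Adj x y' → p y = p y' → y = y'
  tri : ∀ {x y z}, Adj x y → Adj y z → 𝕙 (p x) (p z) = 0 → Adj x z
  sqN : ∀ {x y z y' z'}, Adj x y → Adj y z → Adj x y' → Adj y' z' → p z = p z' →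
    N C (𝕙 (p x) (p z)) ≠ 1 → z = z'

namespace Cov

variable {C : Conj F q} {X : Type*} (K : Cov C n X)

/-- A square lifts to a square. -/
def Sq (a c b d : Vn) : Prop :=
  ∀ x y z y' z', K.p x = a → K.p y = b → K.p y' = d → K.p z = c → K.p z' = c →
    K.Adj x y → K.Adj y z → K.Adj x y' → K.Adj y' z' → z = z'

variable {a b c d : Fin n → F}

theorem sq_orth (hbd : 𝕙 b d = 0) : K.Sq a c b d := by
  intro x y z y' z' hx hy hy' hz hz' xy yz xy' yz'
  have h1 : K.Adj y y' := K.tri (K.symm xy) xy' (by rw [hy, hy', hbd])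
  have h2 : K.Adj y z' := K.tri h1 yz' (by rw [hz', ← hz]; exact K.orth yz)
  exact K.uniq yz h2 (hz.trans hz'.symm)

theorem sq_nd (hac : N C (𝕙 a c) ≠ 1) : K.Sq a c b d :=
  fun _ _ _ _ _ hx _ _ hz hz' xy yz xy' yz' => K.sqN xy yz xy' yz' (hz.trans hz'.symm) (by rw [hx, hz]; exact hac)

theorem sq_rot (hdc : 𝕙 d c = 0) (hc : 𝕙 c c = 1) (S : K.Sq a c b d) :
    K.Sq b d a c := by
  intro x y z y' z' hx hy hy' hz hz' xy yz xy' yz'
  obtain ⟨w, zw, hw⟩ := K.lift z c hc (by rw [hz]; exact hdc)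
  have e : y' = w := S y x y' z w hy hx hz hy' hw (K.symm xy) xy' yz zw
  exact K.uniq (K.symm (e ▸ zw)) yz' (hz.trans hz'.symm)

theorem sq_trans {u : Fin n → F} (hu : 𝕙 u u = 1) (hua : 𝕙 a u = 0) (huc : 𝕙 u c = 0) (hc : 𝕙 c c = 1)
    (S1 : K.Sq a c b u) (S2 : K.Sq a c u d) : K.Sq a c b d := by
  intro x y z y' z' hx hy hy' hz hz' xy yz xy' yz'
  obtain ⟨m, xm, hm⟩ := K.lift x u hu (by rw [hx]; exact hua)
  obtain ⟨w, mw, hw⟩ := K.lift m c hc (by rw [hm]; exact huc)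
  exact (S1 x y z m w hx hy hm hz hw xy yz xm mw).trans (S2 x m w y' z' hx hm hy' hw hz' xm mw xy' yz')

variable (hF : Fintype.card F = q ^ 2) (hq : 3 ≤ q) (hn : 4 ≤ n) (hc45 : 4 ≤ q ∨ 5 ≤ n)
include hF hq hn

/-- The square in four dimensions. -/
theorem sq_core {r : Fin n → F} {α β μ : F} (ha : 𝕙 a a = 1) (hb : 𝕙 b b = 1) (hab : 𝕙 a b = 0)
    (hra : 𝕙 r a = 0) (hrb : 𝕙 r b = 0) (hr : r ≠ 0) (hrr : 𝕙 r r = 0) (hα : N C α = 1) (hβ : N C β = 1)
    (hc : c = α • a + r) (hd : d = β • b + μ • r)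
    (hT : ∃ τ, C.σ τ = τ ∧ τ ≠ 0 ∧ τ ≠ -1 ∧ τ ≠ N C μ ∧ τ ≠ N C μ - 1) : K.Sq a c b d := by
  obtain ⟨τ, hτ, t0, t1, t2, t3⟩ := hT
  obtain ⟨s, sa, sb, rs, sr, ss⟩ := exists_iso_partner C hF ha hb hab hra hrb hr hrr
  obtain ⟨y, hy⟩ := exists_trace C hτ
  have hba := (eq_zero_comm C).1 hab
  have har := (eq_zero_comm C).1 hra
  have hbr := (eq_zero_comm C).1 hrb
  have has := (eq_zero_comm C).1 sa
  have hbs := (eq_zero_comm C).1 sb
  rw [N] at hα hβ
  set z0 := (-α) • a + y • r + s with hz0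
  set m0 := (-C.σ y) • r + s + (-(C.σ μ * β)) • b with hm0
  have zz : 𝕙 z0 z0 = 1 + τ := by
    simp [z0, add_left C, add_right C, smul_left C, smul_right C, hneg_left C, hneg_right C, ha, hra, har, sa, has, rs, sr, hrr, ss]
    linear_combination hα + hy
  have mm : 𝕙 m0 m0 = N C μ - τ := by
    simp [m0, add_left C, add_right C, smul_left C, smul_right C, hneg_left C, hneg_right C, hb, hrb, hbr, sb, hbs, rs, sr, hrr, ss, C.invol, N]
    linear_combination (C.σ μ * μ) * hβ - hy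
  have zb : 𝕙 z0 b = 0 := by simp [z0, add_left C, smul_left C, hneg_left C, hab, hrb, sb]
  have zc : 𝕙 z0 c = 0 := by
    simp [z0, hc, add_left C, add_right C, smul_left C, smul_right C, hneg_left C, hneg_right C, ha, hra, har, sa, sr, hrr]
    linear_combination -hα
  have za : 𝕙 z0 a = -α := by simp [z0, add_left C, smul_left C, hneg_left C, ha, hra, sa]
  have zd : 𝕙 z0 d = C.σ μ := by
    simp [z0, hd, add_left C, add_right C, smul_left C, smul_right C, hneg_left C, hneg_right C, hab, hrb, sb, har, sr, hrr]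
  have ma : 𝕙 m0 a = 0 := by simp [m0, add_left C, smul_left C, hneg_left C, hra, sa, hba]
  have mz : 𝕙 m0 z0 = 0 := by
    simp [m0, z0, add_left C, add_right C, smul_left C, smul_right C, hneg_left C, hneg_right C, hra, sa, hba, hbr, hbs, hrr, rs, sr, ss]
  have md : 𝕙 m0 d = 0 := by
    simp [m0, hd, add_left C, add_right C, smul_left C, smul_right C, hneg_left C, hneg_right C, hrb, sb, hb, hbr, hrr, sr]
    linear_combination -(C.σ μ) * hβ
  obtain ⟨γ, hγ, hγ1⟩ := exists_scale C (k := 1 + τ) (by rw [map_add, map_one, hτ])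
    (fun e => t1 (by linear_combination e))
  obtain ⟨δ, -, hδ1⟩ := exists_unit C (v := m0) (by rw [mm]; exact sub_ne_zero.2 (Ne.symm t2))
  set zt := γ • z0 with hzt
  set mt := δ • m0 with hmt
  have ztu : 𝕙 zt zt = 1 := by rw [hzt, h_smul_self C, zz, hγ1]
  have ztb : 𝕙 b zt = 0 := by rw [hzt, smul_right C, (eq_zero_comm C).1 zb, mul_zero]
  have ztc : 𝕙 zt c = 0 := by rw [hzt, smul_left C, zc, mul_zero]
  have ma' : 𝕙 a mt = 0 := by rw [hmt, smul_right C, (eq_zero_comm C).1 ma, mul_zero]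
  have mz' : 𝕙 mt zt = 0 := by rw [hmt, hzt, smul_left C, smul_right C, mz, mul_zero, mul_zero]
  have md' : 𝕙 mt d = 0 := by rw [hmt, smul_left C, md, mul_zero]
  have nd1 : N C (𝕙 a zt) ≠ 1 := by
    rw [N_symm C, hzt, smul_left C, za, N_mul C]
    intro e
    rw [show N C (-α) = 1 by simp [N]; exact hα, mul_one] at e
    rw [e, one_mul] at hγ1
    exact t0 (by linear_combination hγ1)
  have nd2 : N C (𝕙 zt d) ≠ 1 := by
    rw [hzt, smul_left C, zd, N_mul C, show N C (C.σ μ) = N C μ by simp [N, C.invol, mul_comm]]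
    intro e
    have h0 : N C γ ≠ 0 := fun e0 => hγ ((N_eq_zero C).1 e0)
    exact t3 (mul_left_cancel₀ h0 (by linear_combination hγ1 - e))
  intro x yv z y' z' hx hyv hy' hz hz' xy yz xy' yz'
  obtain ⟨Z, yZ, hZ⟩ := K.lift yv zt ztu (by rw [hyv]; exact ztb)
  have Zz : K.Adj Z z := K.tri (K.symm yZ) yz (by rw [hZ, hz]; exact ztc)
  obtain ⟨M, xM, hM⟩ := K.lift x mt hδ1 (by rw [hx]; exact ma')
  obtain ⟨Z', MZ', hZ'⟩ := K.lift M zt ztu (by rw [hM]; exact mz')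
  have e1 : Z = Z' := K.sqN xy yZ xM MZ' (hZ.trans hZ'.symm) (by rw [hx, hZ]; exact nd1)
  subst e1
  have My' : K.Adj M y' := K.tri (K.symm xM) xy' (by rw [hM, hy']; exact md')
  have hcd : 𝕙 c d = 0 := (eq_zero_comm C).1 (by rw [← hy', ← hz']; exact K.orth yz')
  obtain ⟨w, zw, hw⟩ := K.lift z d (by rw [← hy']; exact K.unit y') (by rw [hz]; exact hcd)
  have e2 : y' = w := K.sqN (K.symm MZ') My' Zz zw (hy'.trans hw.symm) (by rw [hZ', hy']; exact nd2)
  exact K.uniq (K.symm (e2 ▸ zw)) yz' (hz.trans hz'.symm)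

include hc45

/-- Every square lifts. -/
theorem sq_all (ha : 𝕙 a a = 1) (hb : 𝕙 b b = 1) (hc : 𝕙 c c = 1) (hd : 𝕙 d d = 1) (hab : 𝕙 a b = 0)
    (had : 𝕙 a d = 0) (hbc : 𝕙 b c = 0) (hdc : 𝕙 d c = 0) : K.Sq a c b d := by
  by_cases hac : N C (𝕙 a c) = 1
  swap
  · exact K.sq_nd hac
  have hba := (eq_zero_comm C).1 hab
  have hcd := (eq_zero_comm C).1 hdc
  have hda := (eq_zero_comm C).1 had
  have hcb := (eq_zero_comm C).1 hbc
  by_cases hbd : N C (𝕙 b d) = 1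
  swap
  · exact K.sq_rot hcd hd (K.sq_nd hbd)
  obtain ⟨α, hα, hα'⟩ : ∃ α, 𝕙 c a = α ∧ N C α = 1 := ⟨_, rfl, by rw [N_symm C]; exact hac⟩
  obtain ⟨β, hβ, hβ'⟩ : ∃ β, 𝕙 d b = β ∧ N C β = 1 := ⟨_, rfl, by rw [N_symm C]; exact hbd⟩
  set r := c - α • a with hr
  set r' := d - β • b with hr'
  have ra : 𝕙 r a = 0 := by rw [hr, sub_left C, smul_left C, ha, hα, mul_one, sub_self]
  have rb : 𝕙 r b = 0 := by rw [hr, sub_left C, smul_left C, hcb, hab, mul_zero, sub_zero]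
  have rr : 𝕙 r r = 0 := by
    rw [hr, sub_left C, smul_left C, sub_right C, sub_right C, smul_right C, smul_right C, hc, hα,
      AutPSU.symm C c a, hα, ha]
    rw [N] at hα'
    linear_combination -hα'
  have r'a : 𝕙 r' a = 0 := by rw [hr', sub_left C, smul_left C, hda, hba, mul_zero, sub_zero]
  have r'b : 𝕙 r' b = 0 := by rw [hr', sub_left C, smul_left C, hb, hβ, mul_one, sub_self]
  have r'r' : 𝕙 r' r' = 0 := by
    rw [hr', sub_left C, smul_left C, sub_right C, sub_right C, smul_right C, smul_right C, hd, hβ,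
      AutPSU.symm C d b, hβ, hb]
    rw [N] at hβ'
    linear_combination -hβ'
  have r'r : 𝕙 r' r = 0 := by
    rw [hr', hr, sub_left C, smul_left C, sub_right C, sub_right C, smul_right C, smul_right C, hdc, hda, hbc, hba]
    ring
  have hd' : d = β • b + r' := by rw [hr']; abel
  have hc' : c = α • a + r := by rw [hr]; abel
  by_cases hcase : 5 ≤ n ∨ r = 0
  · obtain ⟨y0, y0u, y0a, y0b, y0r⟩ := perp3 C hF hn ha hb hab ra rb (by tauto)
    obtain ⟨u, uu, ua, ub, uc, ud⟩ :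
        ∃ u, 𝕙 u u = 1 ∧ 𝕙 u a = 0 ∧ 𝕙 u b = 0 ∧ 𝕙 u c = 0 ∧ N C (𝕙 u d) ≠ 1 := by
      by_cases hg : N C (𝕙 y0 r') = 1
      swap
      · exact ⟨y0, y0u, y0a, y0b, by simp [hc', add_right C, smul_right C, y0a, y0r],
          by simpa [hd', add_right C, smul_right C, y0b] using hg⟩
      set g := 𝕙 y0 r' with hgdef
      have hgs : C.σ g ≠ 0 := fun e => by rw [(map_eq_zero C.σ).1 e, N_zero C] at hg; exact zero_ne_one hg
      obtain ⟨t, ht1, ht2⟩ := exists_avoid C hF hq (C.σ g) (C.σ g) 0 0 (-1) 0 (Or.inl (by simp))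
        (Or.inr (Or.inr hgs))
      simp only [mul_zero, add_zero] at ht1 ht2
      set u0 := y0 + t • r' with hu0
      have uu0 : 𝕙 u0 u0 = 1 + (t * C.σ g + C.σ (t * C.σ g)) := by
        simp [u0, add_left C, add_right C, smul_left C, smul_right C, hneg_left C, hneg_right C, y0u, r'r', map_mul, C.invol,
          show 𝕙 r' y0 = C.σ g from AutPSU.symm C y0 r', ← hgdef]
        ring
      obtain ⟨γ, hγ, hγ1⟩ := exists_scale C (self_fixed C u0)
        (by rw [uu0]; exact fun e => ht1 (by linear_combination e))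
      refine ⟨γ • u0, by rw [h_smul_self C, hγ1], ?_, ?_, ?_, ?_⟩
      · simp [u0, smul_left C, add_left C, y0a, r'a]
      · simp [u0, smul_left C, add_left C, y0b, r'b]
      · simp [u0, hc', smul_left C, smul_right C, hneg_left C, hneg_right C, add_left C, add_right C, y0a, r'a, y0r, r'r]
      · have : 𝕙 (γ • u0) d = γ * g := by
          simp [u0, hd', smul_left C, smul_right C, hneg_left C, hneg_right C, add_left C, add_right C, y0b, r'b, r'r', ← hgdef]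
        rw [this, N_mul C, hg, mul_one]
        intro e
        rw [e, one_mul, uu0] at hγ1
        exact ht2 (by linear_combination hγ1)
    have hau := (eq_zero_comm C).1 ua
    exact K.sq_trans uu hau uc hc (K.sq_orth ((eq_zero_comm C).1 ub))
      (K.sq_rot hcd hd (K.sq_nd ud))
  · push Not at hcase
    obtain ⟨h5, hr0⟩ := hcase
    have h4 : n = 4 := by omega
    have hq4 : 4 ≤ q := by omega
    obtain ⟨μ, hμ⟩ := perp_line C hF h4 ha hb hab ra rb hr0 rr r'a r'b r'r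
    have hd2 : d = β • b + μ • r := by rw [hd', hμ]
    by_cases hex : ∃ τ, C.σ τ = τ ∧ τ ≠ 0 ∧ τ ≠ -1 ∧ τ ≠ N C μ ∧ τ ≠ N C μ - 1
    · exact K.sq_core hF hq hn ha hb hab ra rb hr0 rr hα' hβ' hc' hd2 hex
    -- only four elements are available
    have hq' : q = 4 := by
      by_contra hne
      obtain ⟨τ, h1, h2⟩ := exists_fixed_avoid C hF [0, -1, N C μ, N C μ - 1] (by simp; omega)
      simp only [List.mem_cons, List.not_mem_nil, or_false, not_or] at h2
      exact hex ⟨τ, h1, h2.1, h2.2.1, h2.2.2.1, h2.2.2.2⟩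
    have h2F : (2 : F) = 0 := by
      have := FiniteField.cast_card_eq_zero F
      rw [hF, hq'] at this
      have h : (2 : F) ^ 4 = 0 := by rw [← this]; norm_num
      exact (pow_eq_zero_iff (by norm_num)).1 h
    set m := N C μ with hm
    obtain ⟨hm0, hm1⟩ : m ≠ 0 ∧ m ≠ 1 := by
      constructor <;> intro e <;> refine hex ?_
      · obtain ⟨τ, h1, h2⟩ := exists_fixed_avoid C hF [0, -1] (by simp; omega)
        simp only [List.mem_cons, List.not_mem_nil, or_false, not_or] at h2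
        exact ⟨τ, h1, h2.1, h2.2, by rw [e]; exact h2.1, by rw [e, zero_sub]; exact h2.2⟩
      · obtain ⟨τ, h1, h2⟩ := exists_fixed_avoid C hF [0, -1, 1] (by simp; omega)
        simp only [List.mem_cons, List.not_mem_nil, or_false, not_or] at h2
        exact ⟨τ, h1, h2.1, h2.2.1, by rw [e]; exact h2.2.2, by rw [e, sub_self]; exact h2.1⟩
    have hm2 : m ^ 2 + m + 1 = 0 := by
      have h4 : m ^ 4 = m := by rw [← hq', ← C.apply_eq]; exact N_fixed C μ
      have : m * ((m - 1) * (m ^ 2 + m + 1)) = 0 := by linear_combination h4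
      exact (mul_eq_zero.1 ((mul_eq_zero.1 this).resolve_left hm0)).resolve_left (sub_ne_zero.2 hm1)
    obtain ⟨ρ, hρ5, hρ1⟩ : ∃ ρ : F, ρ ^ 5 = 1 ∧ ρ ≠ 1 := by
      haveI : Fact (Nat.Prime 5) := ⟨by norm_num⟩
      obtain ⟨g, hg⟩ := exists_prime_orderOf_dvd_card' (G := Fˣ) 5 (by
        rw [Nat.card_units, Nat.card_eq_fintype_card, hF, hq']; norm_num)
      refine ⟨g, ?_, fun e => ?_⟩
      · rw [← Units.val_pow_eq_pow_val, ← hg, pow_orderOf_eq_one, Units.val_one]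
      · rw [show g = 1 from Units.ext e, orderOf_one] at hg; norm_num at hg
    have hsum : 1 + ρ + ρ ^ 2 + ρ ^ 3 + ρ ^ 4 = 0 := by
      have : (ρ - 1) * (1 + ρ + ρ ^ 2 + ρ ^ 3 + ρ ^ 4) = 0 := by linear_combination hρ5
      exact (mul_eq_zero.1 this).resolve_left (sub_ne_zero.2 hρ1)
    have hσ : ∀ x : F, C.σ x = x ^ 4 := fun x => by rw [C.apply_eq, hq']
    obtain ⟨ρ', h5', ht'⟩ : ∃ ρ' : F, ρ' ^ 5 = 1 ∧ ρ' + C.σ ρ' = m ^ 2 := by
      have ht : (ρ + ρ ^ 4 - m) * (ρ + ρ ^ 4 + m + 1) = 0 := by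
        linear_combination hsum - hm2 + (ρ ^ 3 + 2) * hρ5 + h2F
      rcases mul_eq_zero.1 ht with e | e
      · refine ⟨ρ ^ 2, by rw [← pow_mul, pow_mul', hρ5, one_pow], ?_⟩
        rw [hσ]
        linear_combination (ρ + ρ ^ 4 + m) * e - (ρ ^ 5) * h2F
      · exact ⟨ρ, hρ5, by rw [hσ]; linear_combination e - hm2⟩
    set ξ := m * ρ' with hξ
    have hmσ : C.σ m = m := N_fixed C μ
    have hm3 : m ^ 3 = 1 := by linear_combination (m - 1) * hm2
    have Tξ : ξ + C.σ ξ = 1 := by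
      rw [hξ, map_mul, hmσ]
      linear_combination m * ht' + hm3
    have Nξ : N C ξ = m ^ 2 := by
      rw [hξ, N, map_mul, hmσ, hσ ρ']
      linear_combination m ^ 2 * h5'
    set μ' := μ * ξ with hμ'
    have n1 : N C μ' = 1 := by rw [hμ', N_mul C, Nξ, ← hm]; linear_combination hm3
    have n2 : N C (μ - μ') = 1 := by
      rw [hμ', show μ - μ * ξ = μ * (1 - ξ) by ring, N_mul C, ← hm]
      rw [N] at Nξ ⊢
      rw [map_sub, map_one]
      linear_combination hm3 + m * Nξ - m * Tξ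
    obtain ⟨τ, h1, h2⟩ := exists_fixed_avoid C hF [0, -1, 1] (by simp; omega)
    simp only [List.mem_cons, List.not_mem_nil, or_false, not_or] at h2
    have hT : ∀ ν : F, N C ν = 1 → ∃ τ, C.σ τ = τ ∧ τ ≠ 0 ∧ τ ≠ -1 ∧ τ ≠ N C ν ∧ τ ≠ N C ν - 1 := fun ν hν =>
      ⟨τ, h1, h2.1, h2.2.1, by rw [hν]; exact h2.2.2, by rw [hν, sub_self]; exact h2.1⟩
    set d' := β • b + μ' • r with hdd'
    have br := (eq_zero_comm C).1 rb
    have rd' : 𝕙 r d' = 0 := by simp [d', add_right C, smul_right C, rb, rr]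
    have ad' : 𝕙 a d' = 0 := by simp [d', add_right C, smul_right C, hab, (eq_zero_comm C).1 ra]
    have d'u : 𝕙 d' d' = 1 := by
      simp [d', add_left C, add_right C, smul_left C, smul_right C, hneg_left C, hneg_right C, hb, rb, br, rr]
      rw [N] at hβ'; linear_combination hβ'
    have d'c : 𝕙 d' c = 0 := by
      simp [d', hc', add_left C, add_right C, smul_left C, smul_right C, hneg_left C, hneg_right C, hba, br, ra, rr]
    refine K.sq_trans d'u ad' d'c hc (K.sq_core hF hq hn ha hb hab ra rb hr0 rr hα' hβ' hc' hdd' (hT _ n1)) ?_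
    refine K.sq_core hF hq hn (β := 1) (μ := μ - μ') ha d'u ad' ra rd' hr0 rr hα' (N_one C) hc' ?_ (hT _ n2)
    rw [hd2, hdd', one_smul, sub_smul]; abel

/-- Three steps can be done in two. -/
theorem apex {x y z w : X} (xy : K.Adj x y) (yz : K.Adj y z) (zw : K.Adj z w) :
    ∃ y2, K.Adj x y2 ∧ K.Adj y2 w := by
  obtain ⟨a, ha⟩ : ∃ a, K.p x = a := ⟨_, rfl⟩
  obtain ⟨p, hp⟩ : ∃ p, K.p y = p := ⟨_, rfl⟩
  obtain ⟨u, hu⟩ : ∃ u, K.p z = u := ⟨_, rfl⟩
  obtain ⟨v, hv⟩ : ∃ v, K.p w = v := ⟨_, rfl⟩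
  have au : 𝕙 a a = 1 := ha ▸ K.unit x
  have pu : 𝕙 p p = 1 := hp ▸ K.unit y
  have uu : 𝕙 u u = 1 := hu ▸ K.unit z
  have vu : 𝕙 v v = 1 := hv ▸ K.unit w
  have hap : 𝕙 a p = 0 := ha ▸ hp ▸ K.orth xy
  have hpu : 𝕙 p u = 0 := hp ▸ hu ▸ K.orth yz
  have huv : 𝕙 u v = 0 := hu ▸ hv ▸ K.orth zw
  have hvu := (eq_zero_comm C).1 huv
  have hup := (eq_zero_comm C).1 hpu
  by_cases hva : 𝕙 v a = 0
  · have hav := (eq_zero_comm C).1 hva
    obtain ⟨V, xV, hV⟩ := K.lift x v vu (by rw [ha]; exact hav)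
    obtain ⟨Z', VZ', hZ'⟩ := K.lift V u uu (by rw [hV]; exact hvu)
    have e : z = Z' :=
      K.sq_all hF hq hn hc45 au pu uu vu hap hav hpu hvu x y z V Z' ha hp hV hu hZ' xy yz xV VZ'
    subst e
    have e2 : V = w := K.uniq (K.symm VZ') zw (hV.trans hv.symm)
    subst e2
    obtain ⟨g, g1, ga, gv⟩ := perp2 C hF hn au hva
    obtain ⟨Y, xY, hY⟩ := K.lift x g g1 (by rw [ha]; exact (eq_zero_comm C).1 ga)
    exact ⟨Y, xY, K.tri (K.symm xY) xV (by rw [hY, hV]; exact gv)⟩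
  suffices hs : ∃ p' y', 𝕙 p' p' = 1 ∧ 𝕙 a p' = 0 ∧ 𝕙 p' u = 0 ∧
      𝕙 y' y' = 1 ∧ 𝕙 y' a = 0 ∧ 𝕙 y' p' = 0 ∧ 𝕙 y' v = 0 by
    obtain ⟨p', y', p'u, hap', hp'u, y'u, y'a, y'p', y'v⟩ := hs
    obtain ⟨P, xP, hP⟩ := K.lift x p' p'u (by rw [ha]; exact hap')
    obtain ⟨Z', PZ', hZ'⟩ := K.lift P u uu (by rw [hP]; exact hp'u)
    have e : z = Z' :=
      K.sq_all hF hq hn hc45 au pu uu p'u hap hap' hpu hp'u x y z P Z' ha hp hP hu hZ' xy yz xP PZ'
    subst e
    obtain ⟨Y, xY, hY⟩ := K.lift x y' y'u (by rw [ha]; exact (eq_zero_comm C).1 y'a)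
    obtain ⟨w', Yw', hw'⟩ := K.lift Y v vu (by rw [hY]; exact y'v)
    have PY : K.Adj P Y := K.tri (K.symm xP) xY (by rw [hP, hY]; exact (eq_zero_comm C).1 y'p')
    have e : w = w' :=
      K.sq_all hF hq hn hc45 p'u uu vu y'u hp'u ((eq_zero_comm C).1 y'p') huv y'v P z w Y w' hP hu hY hv hw'
        PZ' zw PY Yw'
    exact ⟨Y, xY, e.symm ▸ Yw'⟩
  set A0 := 𝕙 v a with hA0
  have mk : ∀ p', 𝕙 p' p' = 1 → 𝕙 a p' = 0 → 𝕙 p' u = 0 →
      (5 ≤ n ∨ v - A0 • a - 𝕙 v p' • p' = 0 ∨ 1 - N C A0 - N C (𝕙 v p') ≠ 0) →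
      ∃ p' y', 𝕙 p' p' = 1 ∧ 𝕙 a p' = 0 ∧ 𝕙 p' u = 0 ∧ 𝕙 y' y' = 1 ∧ 𝕙 y' a = 0 ∧ 𝕙 y' p' = 0 ∧ 𝕙 y' v = 0 := by
    intro p' h1 h2 h3 h4
    have h2' := (eq_zero_comm C).1 h2
    set w0 := v - A0 • a - 𝕙 v p' • p' with hw0
    have wa : 𝕙 w0 a = 0 := by simp [w0, sub_left C, smul_left C, au, h2', ← hA0]
    have wp : 𝕙 w0 p' = 0 := by simp [w0, sub_left C, smul_left C, h1, h2]
    have ww : 𝕙 w0 w0 = 1 - N C A0 - N C (𝕙 v p') := by
      simp [w0, sub_left C, sub_right C, smul_left C, smul_right C, hneg_left C, hneg_right C, vu, au, h1, h2, h2', ← hA0,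
        AutPSU.symm C v a, AutPSU.symm C v p', N]
      ring
    obtain ⟨y', y1, y2, y3, y4⟩ := perp3 C hF hn au h1 h2 wa wp (by rwa [ww])
    refine ⟨p', y', h1, h2, h3, y1, y2, y3, ?_⟩
    rw [show v = w0 + (A0 • a + 𝕙 v p' • p') by rw [hw0]; abel, add_right C, add_right C, smul_right C,
      smul_right C, y2, y3, y4]
    ring
  by_cases hok : 5 ≤ n ∨ v - A0 • a - 𝕙 v p • p = 0 ∨ 1 - N C A0 - N C (𝕙 v p) ≠ 0
  · exact mk p pu hap hpu hok
  push Not at hok
  obtain ⟨h5, hne, hκ⟩ := hok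
  have h4 : n = 4 := by omega
  set A := 𝕙 v p with hA
  have hpa := (eq_zero_comm C).1 hap
  set wv := v - A0 • a - A • p with hwv
  have wa : 𝕙 wv a = 0 := by simp [wv, sub_left C, smul_left C, au, hpa, ← hA0]
  have wp : 𝕙 wv p = 0 := by simp [wv, sub_left C, smul_left C, pu, hap, ← hA]
  have ww : 𝕙 wv wv = 0 := by
    simp [wv, sub_left C, sub_right C, smul_left C, smul_right C, hneg_left C, hneg_right C, vu, au, pu, hap, hpa, ← hA0, ← hA,
      AutPSU.symm C v a, AutPSU.symm C v p]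
    rw [N, N] at hκ
    linear_combination hκ
  obtain ⟨w0, w0ne, hw0⟩ := exists_perp_ne_zero C (q := q) ![a, p, u] (by omega)
  have w0a : 𝕙 w0 a = 0 := hw0 0
  have w0p : 𝕙 w0 p = 0 := hw0 1
  have w0u : 𝕙 w0 u = 0 := hw0 2
  set ν := 𝕙 w0 w0 with hν
  set B := 𝕙 v w0 with hB
  by_cases hz : A * C.σ B = 0 ∧ N C B - N C A * ν = 0
  · exfalso
    obtain ⟨hz1, hz2⟩ := hz
    have hB0 : B = 0 := by
      rcases mul_eq_zero.1 hz1 with e | e
      · rw [e, N_zero C, zero_mul, sub_zero] at hz2; exact (N_eq_zero C).1 hz2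
      · exact (map_eq_zero C.σ).1 e
    have hν0 : ν = 0 := by
      by_cases hA0' : A = 0
      · have hw0wv : 𝕙 w0 wv = 0 := by
          simp [wv, sub_right C, smul_right C, w0a, w0p, AutPSU.symm C v w0, ← hB, hB0]
        obtain ⟨γ, hγ⟩ := perp_line C hF h4 au pu hap wa wp hne ww w0a w0p hw0wv
        rw [hν, hγ, h_smul_self C, ww, mul_zero]
      · rw [hB0, N_zero C, zero_sub, neg_eq_zero] at hz2
        exact (mul_eq_zero.1 hz2).resolve_left fun e => hA0' ((N_eq_zero C).1 e)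
    have huw : 𝕙 u w0 = 0 := (eq_zero_comm C).1 w0u
    set u' := u - 𝕙 u a • a with hu'
    obtain ⟨γ, hγ⟩ := perp_line C hF h4 au pu hap w0a w0p w0ne hν0 (x := u')
      (by simp [u', sub_left C, smul_left C, au]) (by simp [u', sub_left C, smul_left C, hup, hap])
      (by simp [u', sub_left C, smul_left C, huw, (eq_zero_comm C).1 w0a])
    have hue : u = 𝕙 u a • a + γ • w0 := by rw [← hγ, hu']; abel
    have h0 := hvu
    rw [hue, add_right C, smul_right C, smul_right C, ← hA0, ← hB, hB0, mul_zero, add_zero] at h0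
    have hua : 𝕙 u a = 0 := (map_eq_zero C.σ).1 ((mul_eq_zero.1 h0).resolve_right hva)
    rw [hue, hua, zero_smul, zero_add, h_smul_self C, ← hν, hν0, mul_zero] at uu
    exact zero_ne_one uu
  have hz' : C.σ B * A ≠ 0 ∨ N C B - N C A * ν ≠ 0 := by
    rcases not_and_or.1 hz with e | e
    · exact Or.inl (by rwa [mul_comm])
    · exact Or.inr e
  obtain ⟨t, ht1, ht2⟩ := exists_avoid C hF hq (C.σ B * A) 0 (N C B - N C A * ν) ν 0 (-1)
    (by rcases hz' with e | e; exacts [Or.inr (Or.inr e), Or.inr (Or.inl e)]) (Or.inl (by simp))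
  set p0 := p + t • w0 with hp0
  have p0p0 : 𝕙 p0 p0 = 1 + N C t * ν := by
    simp [p0, add_left C, add_right C, smul_left C, smul_right C, hneg_left C, hneg_right C, pu, w0p, (eq_zero_comm C).1 w0p, ← hν, N]
    ring
  obtain ⟨γ, hγ, hγ1⟩ := exists_scale C (self_fixed C p0) (by
    rw [p0p0]
    exact fun e => ht2 (by simp; linear_combination e))
  refine mk (γ • p0) (by rw [h_smul_self C, hγ1]) ?_ ?_ (Or.inr (Or.inr fun e => ?_))
  · simp [p0, smul_right C, add_right C, hap, (eq_zero_comm C).1 w0a]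
  · simp [p0, smul_left C, add_left C, hpu, w0u]
  · have hv' : 𝕙 v (γ • p0) = C.σ γ * (A + C.σ t * B) := by
      simp [p0, smul_right C, add_right C, ← hA, ← hB]; ring
    rw [hv', N_mul C] at e
    rw [p0p0] at hγ1
    apply ht1
    have hσγ : N C (C.σ γ) = N C γ := by simp [N, C.invol, mul_comm]
    rw [hσγ] at e
    have h0 : N C γ ≠ 0 := fun e0 => hγ ((N_eq_zero C).1 e0)
    refine mul_left_cancel₀ h0 ?_
    simp only [N, map_add, map_mul, C.invol] at e hκ hγ1 ⊢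
    linear_combination -e + hκ - (A * C.σ A) * hγ1

/-- The covering is trivial on a component. -/
theorem exists_section (x0 : X) :
    ∃ R : Set X, x0 ∈ R ∧ (∀ x y, x ∈ R → K.Adj x y → y ∈ R) ∧
      (∀ x y, x ∈ R → y ∈ R → K.p x = K.p y → x = y) ∧ (∀ v, 𝕙 v v = 1 → ∃ x ∈ R, K.p x = v) := by
  refine ⟨{z | ∃ y, K.Adj x0 y ∧ K.Adj y z}, ?_, ?_, ?_, ?_⟩
  · obtain ⟨g, g1, g2, -⟩ := perp2 C hF hn (K.unit x0) (zero_left C (K.p x0))
    obtain ⟨Y, xY, -⟩ := K.lift x0 g g1 ((eq_zero_comm C).1 g2)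
    exact ⟨Y, xY, K.symm xY⟩
  · rintro z w ⟨y, xy, yz⟩ zw
    exact K.apex hF hq hn hc45 xy yz zw
  · rintro z z' ⟨y, xy, yz⟩ ⟨y', xy', yz'⟩ e
    exact K.sq_all hF hq hn hc45 (K.unit x0) (K.unit y) (K.unit z) (K.unit y') (K.orth xy) (K.orth xy') (K.orth yz)
      (by rw [e]; exact K.orth yz') x0 y z y' z' rfl rfl rfl rfl e.symm xy yz xy' yz'
  · intro v hv
    set e := K.p x0 with he
    obtain ⟨g, g1, ge, gw⟩ := perp2 C hF hn (K.unit x0) (w := v - 𝕙 v e • e)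
      (by rw [← he, sub_left C, smul_left C, he, K.unit x0, mul_one, sub_self])
    obtain ⟨Y, xY, hY⟩ := K.lift x0 g g1 ((eq_zero_comm C).1 ge)
    have gv : 𝕙 g v = 0 := by
      rw [show v = (v - 𝕙 v e • e) + 𝕙 v e • e by abel, add_right C, smul_right C, gw, ge]; ring
    obtain ⟨z, Yz, hz⟩ := K.lift Y v hv (by rw [hY]; exact gv)
    exact ⟨z, ⟨Y, xY, Yz⟩, hz⟩

end Cov

end Cfsg.Agent.Phan
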