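import Cfsg.Agent.Lib.Phan.Normalise

/-!
Weak Phan systems of unitary type.
-/

set_option autoImplicit false
set_option linter.unusedSectionVars false
set_option linter.style.show false
set_option maxHeartbeats 1000000

namespace Cfsg.Agent.Phan

open Cfsg.Agent.AutPSU (Conj)

variable {F : Type*} [Field F] [Fintype F] {q : ℕ}

local notation "SU[" n "]" => Cfsg.SU n F q
local notation "B0" => emb (F := F) (q := q) (k := 2) (n := 3) 0 (by decide)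
local notation "B1" => emb (F := F) (q := q) (k := 2) (n := 3) 1 (by decide)

/-- A weak Phan system of unitary type generates an image of the special unitary group. -/
theorem weak_system (hF : Fintype.card F = q ^ 2) (hq : 4 ≤ q) {G : Type*} [Group G] {n : ℕ} (hn : 2 ≤ n)
    (U : Fin n → Subgroup G) (V : Fin n → Fin n → Subgroup G)
    (h1 : ∀ i j : Fin n, (i : ℕ) + 2 ≤ j → ∀ x ∈ U i, ∀ y ∈ U j, x * y = y * x)
    (h2 : ∀ i j : Fin n, (i : ℕ) + 1 = j → Cfsg.IsStandardUnitaryPair (V i j) (U i) (U j) F q)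
    (hgen : (⨆ i, U i) ⊔ (⨆ (i : Fin n) (j : Fin n) (_ : (i : ℕ) + 1 = j), V i j) = ⊤) :
    ∃ f : SU[n + 1] →* G, Function.Surjective f := by
  obtain ⟨C⟩ := AutPSU.exists_conj hF
  let W : ℕ → (SU[3] →* G) → Prop := fun i π => ∀ hi : i + 1 < n,
    Good π (U ⟨i, by omega⟩) (U ⟨i + 1, hi⟩) ∧ V ⟨i, by omega⟩ ⟨i + 1, hi⟩ ≤ π.range
  have hex : ∀ i, ∃ π, W i π := fun i => by
    by_cases hi : i + 1 < n
    · obtain ⟨π, h⟩ := good_of_pair C (h2 ⟨i, by omega⟩ ⟨i + 1, hi⟩ rfl)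
      exact ⟨π, fun _ => h⟩
    · exact ⟨1, fun h => absurd h hi⟩
  have hstep : ∀ i (π : {π // W i π}), ∃ π' : {π' // W (i + 1) π'}, i + 2 < n → ∀ s, π'.1 (B0 s) = π.1 (B1 s) := by
    rintro i ⟨π, hπ⟩
    obtain ⟨π', hπ'⟩ := hex (i + 1)
    by_cases hi : i + 2 < n
    · obtain ⟨π'', g, r, c⟩ := exists_adjust C hF hq (hπ (by omega)).1 (hπ' hi).1
        fun x hx y hy => h1 _ _ (by simp) x hx y hy
      exact ⟨⟨π'', fun _ => ⟨g, r ▸ (hπ' hi).2⟩⟩, fun _ => c⟩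
    · exact ⟨⟨π', hπ'⟩, fun h => absurd h hi⟩
  let P : (i : ℕ) → {π // W i π} := fun i => Nat.rec ⟨_, (hex 0).choose_spec⟩ (fun i π => (hstep i π).choose) i
  have hP : ∀ i, i + 2 < n → ∀ s, (P (i + 1)).1 (B0 s) = (P i).1 (B1 s) := fun i => (hstep i (P i)).choose_spec
  let u : ℕ → SU[2] →* G := fun i => if i = 0 then (P 0).1.comp B0 else (P (i - 1)).1.comp B1
  have hu0 : ∀ i, i + 3 ≤ n + 1 → ∀ s, (P i).1 (B0 s) = u i s := by
    rintro (_ | i) hi s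
    · simp [u]
    · rw [hP i (by omega)]; simp [u]
  have hu1 : ∀ i, i + 3 ≤ n + 1 → ∀ s, (P i).1 (B1 s) = u (i + 1) s := fun i _ s => by simp [u]
  have humem : ∀ i (hi : i < n) s, u i s ∈ U ⟨i, hi⟩ := by
    rintro (_ | i) hi s
    · exact ((P 0).2 (by omega)).1.2.1 ▸ ⟨s, by simp [u]⟩
    · exact ((P i).2 hi).1.2.2 ▸ ⟨s, by simp [u]⟩
  obtain ⟨f, hf⟩ := phan_hom C hF hq (n := n + 1) (by omega) (fun i => (P i).1) u hu0 hu1 fun i j hij hj s t =>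
    h1 ⟨i, by omega⟩ ⟨j, by omega⟩ hij _ (humem i (by omega) s) _ (humem j (by omega) t)
  refine ⟨f, MonoidHom.range_eq_top.1 (top_le_iff.1 (hgen ▸ ?_))⟩
  have hr : ∀ i (hi : i + 1 < n), (P i).1.range ≤ f.range := fun i hi => by
    rintro _ ⟨s, rfl⟩
    exact ⟨_, hf i (by omega) s⟩
  have sub : ∀ (i : ℕ) (o : ℕ) (ho : o + 2 ≤ 3), ((P i).1.comp (emb o ho : SU[2] →* SU[3])).range ≤ (P i).1.range :=
    fun i o ho => by rintro _ ⟨s, rfl⟩; exact ⟨_, rfl⟩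
  refine sup_le (iSup_le fun ⟨i, hi⟩ => ?_) (iSup_le fun ⟨i, hi⟩ => iSup_le fun ⟨j, hj⟩ => iSup_le fun hij => ?_)
  · rcases i with _ | i
    · exact ((P 0).2 (by omega)).1.2.1 ▸ (sub 0 0 (by decide)).trans (hr 0 (by omega))
    · exact ((P i).2 hi).1.2.2 ▸ (sub i 1 (by decide)).trans (hr i hi)
  · simp only at hij
    subst hij
    exact ((P i).2 hj).2.trans (hr i hj)

end Cfsg.Agent.Phan
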