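import Cfsg.Agent.Lib.Phan.Stage
import Cfsg.Agent.Lib.Phan.Torus
import Cfsg.Prelude.Def_PhanSystems

/-!
Standard pairs of unitary blocks can be adjusted to agree on their common block.
-/

set_option autoImplicit false
set_option linter.unusedSectionVars false
set_option linter.unusedSimpArgs false
set_option linter.style.show false
set_option maxHeartbeats 1000000

namespace Cfsg.Agent.Phan

open Matrix
open Cfsg.Agent.AutPSU (Conj h act act_mul act_one act_inv_act act_pres ext_act suConj sm)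

variable {F : Type*} [Field F] [Fintype F] {q : ℕ}

local notation "SU[" n "]" => Cfsg.SU n F q

/-- The block subgroup is the image of the block embedding. -/
theorem suBlock_eq (C : Conj F q) {n k : ℕ} (o : ℕ) (ho : o + k ≤ n) {S : Set (Fin n)}
    (hS : ∀ i : Fin n, i ∈ S ↔ o ≤ (i : ℕ) ∧ (i : ℕ) < o + k) :
    Cfsg.suBlock n F q S = (emb o ho : SU[k] →* SU[n]).range := by
  refine le_antisymm ((Subgroup.closure_le _).2 fun A hA => ?_) ?_
  · obtain ⟨t, ht⟩ := emb_range o ho C A fun i hi => funext fun l => by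
      have hiS : i ∉ S := fun h' => by rw [hS] at h'; omega
      obtain ⟨h1, h2⟩ := hA i hiS
      rw [act_bv]
      by_cases hl : l = i
      · subst hl; simpa [bv, en] using h1
      · simpa [bv, hl, en] using (h2 l hl).2
    exact ⟨t, ht⟩
  · rintro _ ⟨t, rfl⟩
    refine Subgroup.subset_closure fun i hi => ?_
    have hout : (i : ℕ) < o ∨ o + k ≤ i := by rw [hS] at hi; omega
    have hrow : ∀ l, en (emb o ho t) i l = (bv l : Fin n → F) i := fun l => by
      rw [← act_bv, emb_out o ho t _ hout]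
    have hcol : ∀ l, en (emb o ho t) l i = (bv i : Fin n → F) l := fun l => by
      rw [← act_bv, emb_fix o ho t hout]
    refine ⟨(hrow i).trans (by simp [bv]), fun l hl => ⟨(hrow l).trans ?_, (hcol l).trans ?_⟩⟩
    · simp [bv, Ne.symm hl]
    · simp [bv, hl]

variable {G : Type*} [Group G]

local notation "B0" => emb (F := F) (q := q) (k := 2) (n := 3) 0 (by decide)
local notation "B1" => emb (F := F) (q := q) (k := 2) (n := 3) 1 (by decide)

/-- A map of `SU₃` with central kernel carrying the blocks onto two given subgroups. -/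
def Good (π : SU[3] →* G) (A B : Subgroup G) : Prop :=
  π.ker ≤ Subgroup.center SU[3] ∧ (π.comp B0).range = A ∧ (π.comp B1).range = B

theorem good_of_pair (C : Conj F q) {V A B : Subgroup G} (hp : Cfsg.IsStandardUnitaryPair V A B F q) :
    ∃ π : SU[3] →* G, Good π A B ∧ V ≤ π.range := by
  have e0 := suBlock_eq (F := F) (q := q) C (k := 2) (n := 3) 0 (by decide) (S := {0, 1}) (by decide)
  have e1 := suBlock_eq (F := F) (q := q) C (k := 2) (n := 3) 1 (by decide) (S := {1, 2}) (by decide)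
  rcases hp with ⟨ψ, hA, hB⟩ | ⟨ψ, hA, hB⟩
  · rw [e0, MonoidHom.map_range] at hA
    rw [e1, MonoidHom.map_range] at hB
    refine ⟨_, ⟨?_, hA, hB⟩, fun v hv => ⟨ψ.symm ⟨v, hv⟩, congrArg Subtype.val (ψ.apply_symm_apply ⟨v, hv⟩)⟩⟩
    intro x hx
    have : x = 1 := ψ.injective ((Subtype.ext hx : ψ x = 1).trans (map_one ψ).symm)
    rw [this]; exact one_mem _
  · rw [e0, MonoidHom.map_range] at hA
    rw [e1, MonoidHom.map_range] at hB
    refine ⟨_, ⟨?_, hA, hB⟩, fun v hv => ?_⟩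
    · intro x hx
      exact (QuotientGroup.eq_one_iff x).1 (ψ.injective ((Subtype.ext hx : ψ (QuotientGroup.mk x) = 1).trans
        (map_one ψ).symm))
    · obtain ⟨x, hx⟩ := QuotientGroup.mk_surjective (ψ.symm ⟨v, hv⟩)
      exact ⟨x, by
        show (ψ (QuotientGroup.mk x)).1 = v
        rw [hx, ψ.apply_symm_apply]⟩

/-- The central kernel meets a block trivially. -/
theorem Good.inj (C : Conj F q) (hF : Fintype.card F = q ^ 2) {π : SU[3] →* G} {A B : Subgroup G}
    (hg : Good π A B) (o : ℕ) (ho : o + 2 ≤ 3) : Function.Injective (π.comp (emb o ho : SU[2] →* SU[3])) := by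
  refine (injective_iff_map_eq_one _).2 fun s hs => emb_injective o ho ?_
  obtain ⟨c, hc⟩ := (AutPSU.mem_center_iff C (by decide) hF _).1 (hg.1 hs)
  obtain ⟨i, hi⟩ : ∃ i : Fin 3, (i : ℕ) < o ∨ o + 2 ≤ i := by
    rcases o with _ | _ | o
    · exact ⟨2, by simp⟩
    · exact ⟨0, by simp⟩
    · omega
  have h1 := congrFun ((hc (bv i)).symm.trans (emb_fix o ho s hi)) i
  simp [bv] at h1
  rw [map_one]
  exact ext_act fun x => by rw [hc, h1, one_smul, act_one]

/-- Only the torus of a block normalises the other block. -/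
theorem torus_of_normalise (C : Conj F q) (hF : Fintype.card F = q ^ 2) {π : SU[3] →* G} {A B : Subgroup G}
    (hg : Good π A B) {s : SU[2]} (hs : ∀ y ∈ B, π (B0 s) * y * (π (B0 s))⁻¹ ∈ B) : s ∈ dTor F q := by
  obtain ⟨t, ht⟩ := exists_map_one C hF (n := 2) le_rfl (x := bv 0) (y := bv 1) (bv_unit C 0) (bv_unit C 1)
  obtain ⟨t', ht'⟩ : π (B0 s) * π (B1 t) * (π (B0 s))⁻¹ ∈ (π.comp B1).range := by
    rw [hg.2.2]; exact hs _ (hg.2.2 ▸ ⟨t, rfl⟩)
  have hz : (B1 t')⁻¹ * (B0 s * B1 t * (B0 s)⁻¹) ∈ π.ker := by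
    rw [MonoidHom.mem_ker, map_mul, map_inv, map_mul, map_mul, map_inv, ← ht', MonoidHom.comp_apply, inv_mul_cancel]
  obtain ⟨c, hc⟩ := (AutPSU.mem_center_iff C (by decide) hF _).1 (hg.1 hz)
  have e : B0 s * B1 t * (B0 s)⁻¹ = B1 t' * ((B1 t')⁻¹ * (B0 s * B1 t * (B0 s)⁻¹)) := by group
  have h0 : act (B0 s * B1 t * (B0 s)⁻¹) (bv 0) = c • (bv 0 : Fin 3 → F) := by
    rw [e, act_mul, hc, AutPSU.act_smul, emb_fix 1 _ t' (Or.inl (by simp))]
  rw [act_mul, act_mul] at h0
  have h1 : act (B1 t) (act (B0 s)⁻¹ (bv 0)) = c • act (B0 s)⁻¹ (bv 0) := by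
    have := congrArg (act (B0 s)⁻¹) h0
    rwa [act_inv_act, AutPSU.act_smul] at this
  rw [← map_inv] at h1
  have hv : act (B0 s⁻¹) (bv 0) 2 = 0 := by
    rw [emb_out 0 _ _ _ (Or.inr (by simp))]; simp [bv]
  have hv1 : act (B0 s⁻¹) (bv 0) 1 = en s⁻¹ 1 0 := by
    rw [emb_in 0 _ _ _ 1 1 (by simp), ← act_bv]
    congr 2
    funext b
    fin_cases b <;> simp [bv]
  have h2 := congrFun h1 2
  rw [Pi.smul_apply, hv, smul_zero, emb_in 1 _ _ _ 1 2 (by simp)] at h2
  have hlin : (fun b : Fin 2 => act (B0 s⁻¹) (bv 0 : Fin 3 → F) ⟨1 + b, by omega⟩) =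
      en s⁻¹ 1 0 • (bv 0 : Fin 2 → F) := funext fun b => by
    fin_cases b
    · simpa [bv] using hv1
    · simpa [bv] using hv
  rw [hlin, AutPSU.act_smul, ht] at h2
  rw [(en_inv s).2.2.1, (en_rel C s).1] at h2
  simp [bv] at h2
  exact (mem_dTor C).2 h2

/-- Conjugation by the torus of the first block on the second block. -/
theorem conj_torus (C : Conj F q) {d t : SU[2]} (hd : d ∈ dTor F q) :
    ∃ u : SU[2], B0 d * B1 t * (B0 d)⁻¹ = B1 u ∧ en u 0 0 = en t 0 0 ∧ en u 0 1 = C.σ (en d 0 0) * en t 0 1 := by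
  have hd' := (mem_dTor C).1 hd
  have hN : N C (en d 0 0) = 1 := by
    have := en_det C d; rwa [hd', show N C (0 : F) = 0 by simp [N], add_zero] at this
  obtain ⟨u, hu0, hu1⟩ := exists_two C (a := en t 0 0) (b := C.σ (en d 0 0) * en t 0 1) (by
    rw [N_mul, show N C (C.σ (en d 0 0)) = N C (en d 0 0) by simp [N, C.invol, mul_comm], hN, one_mul]
    exact en_det C t)
  refine ⟨u, ?_, hu0, hu1⟩
  rw [mul_inv_eq_iff_eq_mul]
  have hin0 : ∀ (s : SU[2]) (x : Fin 3 → F),
      act (B0 s) x = ![en s 0 0 * x 0 + en s 0 1 * x 1, en s 1 0 * x 0 + en s 1 1 * x 1, x 2] := fun s x => by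
    funext i
    fin_cases i
    · show act (B0 s) x 0 = _
      rw [emb_in 0 _ s x 0 0 (by simp)]
      simp [act, Matrix.mulVec, dotProduct, Fin.sum_univ_two, en]
    · show act (B0 s) x 1 = _
      rw [emb_in 0 _ s x 1 1 (by simp)]
      simp [act, Matrix.mulVec, dotProduct, Fin.sum_univ_two, en]
    · show act (B0 s) x 2 = _
      rw [emb_out 0 _ s x (Or.inr (by simp))]
      simp
  have hin1 : ∀ (s : SU[2]) (x : Fin 3 → F),
      act (B1 s) x = ![x 0, en s 0 0 * x 1 + en s 0 1 * x 2, en s 1 0 * x 1 + en s 1 1 * x 2] := fun s x => by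
    funext i
    fin_cases i
    · show act (B1 s) x 0 = _
      rw [emb_out 1 _ s x (Or.inl (by simp))]
      simp
    · show act (B1 s) x 1 = _
      rw [emb_in 1 _ s x 0 1 (by simp)]
      simp [act, Matrix.mulVec, dotProduct, Fin.sum_univ_two, en]
    · show act (B1 s) x 2 = _
      rw [emb_in 1 _ s x 1 2 (by simp)]
      simp [act, Matrix.mulVec, dotProduct, Fin.sum_univ_two, en]
  refine ext_act fun x => ?_
  rw [act_mul, act_mul, hin0, hin1, hin1, hin0]
  simp only [(en_rel C u).1, (en_rel C u).2, (en_rel C d).1, (en_rel C d).2, (en_rel C t).1, (en_rel C t).2, hd', hu0,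
    hu1, map_zero, map_mul, C.invol, neg_zero]
  rw [N] at hN
  funext i
  fin_cases i <;> simp
  all_goals first | ring1 | linear_combination (-(C.σ (en t 0 1) * x 1)) * hN

/-- Adjusting a pair to the previous one. -/
theorem exists_adjust (C : Conj F q) (hF : Fintype.card F = q ^ 2) (hq : 4 ≤ q) {π π' : SU[3] →* G}
    {A B B' : Subgroup G} (hg : Good π A B) (hg' : Good π' B B') (hc : ∀ x ∈ A, ∀ y ∈ B', Commute x y) :
    ∃ π'' : SU[3] →* G, Good π'' B B' ∧ π''.range = π'.range ∧ ∀ s, π'' (B0 s) = π (B1 s) := by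
  classical
  have i1 := hg.inj C hF 1 (by decide)
  have i0 := hg'.inj C hF 0 (by decide)
  let α : SU[2] ≃* SU[2] := (MonoidHom.ofInjective i1).trans
    ((MulEquiv.subgroupCongr (hg.2.2.trans hg'.2.1.symm)).trans (MonoidHom.ofInjective i0).symm)
  have hα : ∀ s, π' (B0 (α s)) = π (B1 s) := fun s => by
    show (π'.comp B0) _ = (π.comp B1) s
    rw [show α s = (MonoidHom.ofInjective i0).symm (MulEquiv.subgroupCongr (hg.2.2.trans hg'.2.1.symm)
      (MonoidHom.ofInjective i1 s)) from rfl, ← MonoidHom.ofInjective_apply i0, MulEquiv.apply_symm_apply]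
    rfl
  -- the torus is preserved
  have hsub : ∀ s, α s ∈ dTor F q → s ∈ dTor F q := by
    intro s hs
    have hmove : ∀ d ∈ dTor F q, ∀ u, B0 d * B1 s * (B0 d)⁻¹ = B1 u → α u ∈ dTor F q := by
      intro d hd u hu
      have hX : ∀ d : SU[2], d ∈ dTor F q → ∀ y ∈ B', π (B0 d) * y * (π (B0 d))⁻¹ = y := fun d _ y hy => by
        rw [(hc _ (hg.2.1 ▸ ⟨d, rfl⟩) y hy).eq, mul_inv_cancel_right]
      have hnorm : ∀ y ∈ B', π' (B0 (α s)) * y * (π' (B0 (α s)))⁻¹ ∈ B' := by
        intro y hy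
        obtain ⟨t, rfl⟩ : y ∈ (π'.comp B1).range := hg'.2.2 ▸ hy
        obtain ⟨u', hu', -, -⟩ := conj_torus C (t := t) hs
        rw [MonoidHom.comp_apply, ← map_inv, ← map_mul, ← map_mul, hu']
        exact hg'.2.2 ▸ ⟨u', rfl⟩
      refine torus_of_normalise C hF hg' fun y hy => ?_
      rw [hα, ← hu, map_mul, map_mul, map_inv]
      rw [show π (B0 d) * π (B1 s) * (π (B0 d))⁻¹ * y * (π (B0 d) * π (B1 s) * (π (B0 d))⁻¹)⁻¹ =
        π (B0 d) * (π (B1 s) * ((π (B0 d))⁻¹ * y * π (B0 d)) * (π (B1 s))⁻¹) * (π (B0 d))⁻¹ by group,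
        show (π (B0 d))⁻¹ * y * π (B0 d) = y from by
          rw [mul_assoc, ← (hc _ (hg.2.1 ▸ ⟨d, rfl⟩) y hy).eq, inv_mul_cancel_left],
        ← hα s, hX d hd _ (hnorm y hy)]
      exact hnorm y hy
    by_contra hns
    rw [mem_dTor C] at hns
    obtain ⟨a, ha, hane⟩ : ∃ a : F, N C a = 1 ∧ C.σ a ≠ a := by
      by_contra! hh
      have h1 : Nat.card {a : F // N C a = 1} = q + 1 := by
        have := Hermitian.card_norm_fibre (σ := C.σ.toRingHom)
          (fun e => C.ne_one.elim fun μ hμ => hμ (RingHom.congr_fun e μ)) C.invol (map_one _) one_ne_zero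
        rwa [card_fixed C hF] at this
      have h2 : Nat.card {a : F // N C a = 1} ≤ Nat.card {a : F // a ∈ ({1, -1} : Finset F)} :=
        Nat.card_le_card_of_injective (fun a => ⟨a.1, by
          have := a.2
          rw [N, hh a.1 a.2, ← pow_two, sq_eq_one_iff] at this
          simpa using this⟩) fun a b e => Subtype.ext (congrArg (fun z => z.1) e :)
      rw [h1, Nat.card_eq_fintype_card, Fintype.card_coe] at h2
      have := Finset.card_le_two (a := (1 : F)) (b := -1)
      omega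
    obtain ⟨d, hd, hd'⟩ := exists_two C (a := a) (b := 0) (by rw [ha]; simp [N])
    have hdm : d ∈ dTor F q := (mem_dTor C).2 hd'
    obtain ⟨u, hu, hu0, hu1⟩ := conj_torus C (t := s) hdm
    have h1 := hmove d hdm u hu
    have hcomm : s * u = u * s := α.injective (by
      rw [map_mul, map_mul]
      refine ext_two C ?_ ?_ <;> simp [en_mul2, hs.1, hs.2, h1.1, h1.2, mul_comm])
    have e00 := congrArg (fun g => en g 0 0) hcomm
    simp only [en_mul2, (en_rel C s).1, (en_rel C u).1, hu0, hu1, map_mul, C.invol, hd] at e00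
    have : (a - C.σ a) * N C (en s 0 1) = 0 := by rw [N]; linear_combination -e00
    rcases mul_eq_zero.1 this with e' | e'
    · exact hane (sub_eq_zero.1 e').symm
    · exact hns ((N_eq_zero C).1 e')
  have hmap : (dTor F q).map α.toMonoidHom = dTor F q := by
    have h1 : dTor F q ≤ (dTor F q).map α.toMonoidHom := fun s hs =>
      ⟨α.symm s, hsub _ (by rwa [α.apply_symm_apply]), α.apply_symm_apply s⟩
    exact (Subgroup.eq_of_le_of_card_ge h1 (le_of_eq (Subgroup.card_map_of_injective α.injective))).symm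
  obtain ⟨d, τ, hd⟩ := exists_realise C hF hq α hmap
  let one : {a : F // N C a = 1} := ⟨1, by simp [N]⟩
  set d3 : Fin 3 → {a : F // N C a = 1} := ![d 0, d 1, one] with hd3
  set β : MulAut SU[3] := AutPSU.suAut (dgU C d3) τ with hβ
  have hb0 : ∀ s, β (B0 s) = B0 (α s) := fun s => by
    show suConj (dgU C d3) τ (B0 s) = _
    rw [suConj_emb C 0 _ d3 τ s, hd s,
      show (fun a : Fin 2 => d3 (blk (n := 3) 0 (by decide) (.inl a))) = d from funext fun a => by
        fin_cases a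
        · show d3 0 = d 0; simp [d3]
        · show d3 1 = d 1; simp [d3]]
  let d' : Fin 2 → {a : F // N C a = 1} := fun a => d3 (blk (n := 3) 1 (by decide) (.inl a))
  let γ : MulAut SU[2] := AutPSU.suAut (dgU C d') τ
  have hb1 : ∀ s, β (B1 s) = B1 (γ s) := fun s => by
    show suConj (dgU C d3) τ (B1 s) = B1 (suConj (dgU C d') τ s)
    exact suConj_emb C 1 _ d3 τ s
  refine ⟨π'.comp β.toMonoidHom, ⟨?_, ?_, ?_⟩, ?_, fun s => ?_⟩
  · intro x hx
    have h1 : β x ∈ Subgroup.center SU[3] := hg'.1 hx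
    refine Subgroup.mem_center_iff.2 fun y => β.injective ?_
    rw [map_mul, map_mul]
    exact Subgroup.mem_center_iff.1 h1 _
  · ext y
    constructor
    · rintro ⟨s, rfl⟩
      exact hg'.2.1 ▸ ⟨α s, by show π' _ = π' (β (B0 s)); rw [hb0]⟩
    · intro hy
      obtain ⟨s, rfl⟩ : y ∈ (π'.comp B0).range := hg'.2.1 ▸ hy
      exact ⟨α.symm s, by show π' (β (B0 (α.symm s))) = π' _; rw [hb0, α.apply_symm_apply]⟩
  · ext y
    constructor
    · rintro ⟨s, rfl⟩
      exact hg'.2.2 ▸ ⟨_, by show π' _ = π' (β (B1 s)); rw [hb1]⟩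
    · intro hy
      obtain ⟨s, rfl⟩ : y ∈ (π'.comp B1).range := hg'.2.2 ▸ hy
      exact ⟨γ.symm s, by
        show π' (β (B1 _)) = π' _
        rw [hb1, MulEquiv.apply_symm_apply]⟩
  · ext y
    exact ⟨fun ⟨x, hx⟩ => ⟨β x, hx⟩, fun ⟨x, hx⟩ => ⟨β.symm x, by show π' (β (β.symm x)) = y; rw [β.apply_symm_apply, hx]⟩⟩
  · show π' (β (B0 s)) = _
    rw [hb0, hα]

end Cfsg.Agent.Phan
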