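import Cfsg.Agent.Lib.Phan.Main

/-!
Phan systems of unitary type: commuting tori make pairs standard.
-/

set_option autoImplicit false
set_option linter.unusedSectionVars false
set_option linter.unusedSimpArgs false
set_option linter.style.show false
set_option linter.style.haveILetI false
set_option maxHeartbeats 1000000

namespace Cfsg.Agent.Phan

open Matrix
open Cfsg.Agent.AutPSU (Conj h act act_mul act_one act_inv_act act_pres ext_act isHerm add_left add_right smul_left
  smul_right sub_left sub_right zero_left self_fixed eq_zero_comm)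

variable {F : Type*} [Field F] [Fintype F] {q : ℕ}

local notation "SU[" n "]" => Cfsg.SU n F q
local notation "𝕙" => h (q := q)
local notation "B0" => emb (F := F) (q := q) (k := 2) (n := 3) 0 (by decide)
local notation "B1" => emb (F := F) (q := q) (k := 2) (n := 3) 1 (by decide)

/-- The stabiliser of a vector. -/
def stabV {n : ℕ} (v : Fin n → F) : Subgroup SU[n] where
  carrier := {s | act s v = v}
  one_mem' := act_one v
  mul_mem' {s t} hs ht := by
    show act (s * t) v = v
    rw [act_mul, show act t v = v from ht, show act s v = v from hs]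
  inv_mem' {s} hs := by
    show act s⁻¹ v = v
    conv_lhs => rw [← show act s v = v from hs]
    rw [act_inv_act]

theorem mem_stabV {n : ℕ} {v : Fin n → F} {s : SU[n]} : s ∈ stabV (q := q) v ↔ act s v = v := Iff.rfl

variable (C : Conj F q) (hF : Fintype.card F = q ^ 2)
include C hF

theorem exists_stab_hom {v : Fin 3 → F} (hv : 𝕙 v v = 1) :
    ∃ s0 : SU[3], act s0 (bv 2) = v ∧
      ((MulAut.conj s0).toMonoidHom.comp B0).range = stabV (q := q) v := by
  obtain ⟨s0, hs0⟩ := exists_map_one C hF (n := 3) (by decide) (bv_unit C (2 : Fin 3)) hv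
  refine ⟨s0, hs0, le_antisymm ?_ fun s hs => ?_⟩
  · rintro _ ⟨t, rfl⟩
    show act (s0 * B0 t * s0⁻¹) v = v
    rw [act_mul, act_mul, ← hs0, act_inv_act, emb_fix 0 _ t (Or.inr (by simp))]
  · obtain ⟨t, ht⟩ := emb_range (F := F) (q := q) 0 (show 0 + 2 ≤ 3 by decide) C (s0⁻¹ * s * s0) fun i hi => by
      obtain rfl : i = 2 := Fin.ext (by simp at hi; simp; omega)
      rw [act_mul, act_mul, hs0, show act s v = v from hs, ← hs0, act_inv_act]
    exact ⟨t, by show s0 * B0 t * s0⁻¹ = s; rw [ht]; group⟩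

theorem card_stabV {v : Fin 3 → F} (hv : 𝕙 v v = 1) : Nat.card (stabV (q := q) v) = Nat.card SU[2] := by
  obtain ⟨s0, -, hr⟩ := exists_stab_hom C hF hv
  rw [← hr]
  exact (Nat.card_congr (MonoidHom.ofInjective
    (f := (MulAut.conj s0).toMonoidHom.comp B0) ((MulAut.conj s0).injective.comp (emb_injective 0 _))).toEquiv).symm

/-- Orthogonal isotropic vectors are dependent. -/
theorem iso_dependent {r r' : Fin 3 → F} (hr : r ≠ 0) (h0 : 𝕙 r r = 0) (h1 : 𝕙 r' r = 0) (h2 : 𝕙 r' r' = 0) :
    ∃ c : F, r' = c • r := by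
  obtain ⟨w, hw⟩ : ∃ w, 𝕙 r w ≠ 0 := by
    by_contra! hc; exact hr (AutPSU.nondeg C hc)
  refine ⟨𝕙 r' w / 𝕙 r w, ?_⟩
  set y := r' - (𝕙 r' w / 𝕙 r w) • r with hy
  have yr : 𝕙 y r = 0 := by simp [hy, sub_left C, smul_left C, h0, h1]
  have yw : 𝕙 y w = 0 := by rw [hy, sub_left C, smul_left C, div_mul_cancel₀ _ hw, sub_self]
  have yy : 𝕙 y y = 0 := by
    simp [hy, sub_left C, sub_right C, smul_left C, smul_right C, h0, h1, h2, (eq_zero_comm C).1 h1]
  have hg2 : ∀ c : Fin 2 → F, (∀ j, ∑ i, c i * 𝕙 (![r, w] i) (![r, w] j) = 0) → c = 0 := by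
    intro c hc
    have e0 := hc 0
    have e1 := hc 1
    simp [Fin.sum_univ_two, h0] at e0 e1
    have c1 : c 1 = 0 := e0.resolve_right fun e => hw ((eq_zero_comm C).1 e)
    simp [c1, hw] at e1
    funext i; fin_cases i
    exacts [e1, c1]
  obtain ⟨e, e1, eo⟩ := exists_perp_unit C ![r, w] hg2 (by decide)
  have er : 𝕙 e r = 0 := eo 0
  have ew : 𝕙 e w = 0 := eo 1
  have hg3 : ∀ c : Fin 3 → F, (∀ j, ∑ i, c i * 𝕙 (![r, w, e] i) (![r, w, e] j) = 0) → c = 0 := by
    intro c hc
    have e0 := hc 0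
    have e1' := hc 1
    have e2 := hc 2
    simp [Fin.sum_univ_three, h0, er, ew, e1, (eq_zero_comm C).1 er, (eq_zero_comm C).1 ew] at e0 e1' e2
    have c1 : c 1 = 0 := e0.resolve_right fun e' => hw ((eq_zero_comm C).1 e')
    simp [c1, hw] at e1'
    funext i; fin_cases i
    exacts [e1', c1, e2]
  obtain ⟨hd, -, -⟩ := (isHerm (n := 3) C).orth_spec hg3
  rw [Fintype.card_fin, Module.finrank_fintype_fun_eq_card, Fintype.card_fin] at hd
  have hbot : (isHerm (n := 3) C).orth ![r, w, e] = ⊥ := Submodule.finrank_eq_zero.1 (by omega)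
  have hz : y - 𝕙 y e • e = 0 := by
    rw [← Submodule.mem_bot F, ← hbot]
    refine (isHerm (n := 3) C).mem_orth.2 fun i => ?_
    show 𝕙 _ _ = 0
    fin_cases i <;> simp [sub_left C, smul_left C, yr, yw, er, ew, e1]
  have hye := sub_eq_zero.1 hz
  rw [hye, h_smul_self C, e1, mul_one, N_eq_zero C] at yy
  rw [yy, zero_smul] at hye
  exact sub_eq_zero.1 hye

/-- A commuting set of involutions in even characteristic consists of transvections with a common centre. -/
theorem exists_centre (h2 : (2 : F) = 0) (T : Set SU[3]) (hT : ∃ t ∈ T, t ≠ 1) (hinv : ∀ t ∈ T, t * t = 1)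
    (hcomm : ∀ t ∈ T, ∀ t' ∈ T, Commute t t') :
    ∃ r : Fin 3 → F, r ≠ 0 ∧ 𝕙 r r = 0 ∧ ∀ t ∈ T,
      (∀ x, ∃ a : F, act t x - x = a • r) ∧ (∀ v, 𝕙 v r = 0 → act t v = v) := by
  have two : ∀ x : Fin 3 → F, x + x = 0 := fun x => by rw [← two_smul F, h2, zero_smul]
  have fixim : ∀ t ∈ T, ∀ x, act t (act t x - x) = act t x - x := fun t ht x => by
    rw [AutPSU.act_sub, ← act_mul, hinv t ht, act_one, sub_eq_sub_iff_add_eq_add, two, two]
  have perp : ∀ (t : SU[3]) (f x : Fin 3 → F), act t f = f → 𝕙 (act t x - x) f = 0 := fun t f x hf => by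
    rw [sub_left C]
    conv_lhs => arg 1; rw [← hf, act_pres]
    rw [sub_self]
  obtain ⟨t, ht, hne⟩ := hT
  obtain ⟨x0, hx0⟩ : ∃ x, act t x - x ≠ 0 := by
    by_contra! hc
    exact hne (ext_act fun x => by rw [act_one, sub_eq_zero.1 (hc x)])
  set r := act t x0 - x0 with hr
  have rr : 𝕙 r r = 0 := perp t r x0 (fixim t ht x0)
  refine ⟨r, hx0, rr, fun t' ht' => ?_⟩
  have him : ∀ x, ∃ a : F, act t' x - x = a • r := by
    intro x
    set r' := act t' x - x with hr'
    by_cases h0 : r' = 0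
    · exact ⟨0, by rw [h0, zero_smul]⟩
    have hrr' : 𝕙 r' r' = 0 := perp t' r' x (fixim t' ht' x)
    have h1 : act t r' - r' = act t' (act t x - x) - (act t x - x) := by
      rw [hr', AutPSU.act_sub, AutPSU.act_sub, ← act_mul, ← act_mul, (hcomm t ht t' ht').eq]
      abel
    have e1 : 𝕙 r' r = 0 := by
      by_cases hf : act t r' = r'
      · exact (eq_zero_comm C).1 (perp t r' x0 hf)
      · have hfix : act t' (act t r' - r') = act t r' - r' := by rw [h1]; exact fixim t' ht' _
        have himg : ∃ c : F, act t r' - r' = c • r :=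
          iso_dependent C hF hx0 rr (perp t r r' (fixim t ht x0)) (perp t _ r' (fixim t ht r'))
        obtain ⟨c, hc⟩ := himg
        have hc0 : c ≠ 0 := fun e => hf (by rw [e, zero_smul, sub_eq_zero] at hc; exact hc)
        rw [hc, AutPSU.act_smul] at hfix
        exact perp t' r x (smul_right_injective _ hc0 hfix)
    exact iso_dependent C hF hx0 rr e1 hrr'
  refine ⟨him, fun v hv => ?_⟩
  obtain ⟨a, ha⟩ := him v
  obtain ⟨w, hw⟩ : ∃ w, 𝕙 r w ≠ 0 := by by_contra! hc; exact hx0 (AutPSU.nondeg C hc)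
  obtain ⟨b, hb⟩ := him w
  have e := act_pres t' v w
  rw [sub_eq_iff_eq_add'.1 ha, sub_eq_iff_eq_add'.1 hb] at e
  simp [add_left C, add_right C, smul_left C, smul_right C, rr, hv] at e
  rw [sub_eq_iff_eq_add'.1 ha, e.resolve_right hw, zero_smul, add_zero]

omit hF in
theorem exists_trans_two (K : Type*) [Field K] :
    ¬ Commute (SpecialLinearGroup.transvection (show (0 : Fin 2) ≠ 1 by decide) (1 : K))
      (SpecialLinearGroup.transvection (show (1 : Fin 2) ≠ 0 by decide) (1 : K)) := fun e => by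
  have := congrArg (fun M : SpecialLinearGroup (Fin 2) K => (M : Matrix (Fin 2) (Fin 2) K) 0 0) e.eq
  simp [Matrix.SpecialLinearGroup.transvection_coe, Matrix.transvection, Matrix.mul_apply, Fin.sum_univ_two, Matrix.single] at this

/-- A subgroup `SU₂` of `SU₃` fixes a unit vector. -/
theorem exists_fixed_unit (hq : 4 ≤ q) (φ : SU[2] →* SU[3]) (hφ : Function.Injective φ) :
    ∃ v : Fin 3 → F, 𝕙 v v = 1 ∧ ∀ s, act (φ s) v = v := by
  classical
  set σ := C.σ.toRingHom with hσ
  have hne : σ ≠ RingHom.id F := fun e => C.ne_one.elim fun μ hμ => hμ (RingHom.congr_fun e μ)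
  have hfix : Nat.card (Hermitian.fixed σ) = q := card_fixed C hF
  haveI := Fintype.ofFinite (Hermitian.fixed σ)
  obtain ⟨e⟩ := SU2.exists_equiv_SU2 (K := Hermitian.fixed σ) hne C.invol C.apply_eq hfix
    (by rw [← Nat.card_eq_fintype_card]; exact hfix)
  by_cases h2 : (2 : F) = 0
  · let ψ := φ.comp e.symm.toMonoidHom
    have hψ : Function.Injective ψ := hφ.comp e.symm.injective
    let T : Fin 2 → Fin 2 → Set SU[3] := fun i j => {y | ∃ (hij : i ≠ j) (c : Hermitian.fixed σ),
      ψ (SpecialLinearGroup.transvection hij c) = y}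
    have hadd : ∀ {i j : Fin 2} (hij : i ≠ j) (a b : Hermitian.fixed σ),
        SpecialLinearGroup.transvection hij a * SpecialLinearGroup.transvection hij b =
          SpecialLinearGroup.transvection hij (a + b) := fun hij a b => Subtype.ext (by
      simp [Matrix.SpecialLinearGroup.transvection_coe, Matrix.single_add, Matrix.single_mul_single_of_ne, hij.symm, mul_add, add_mul]; abel)
    have hzero : ∀ {i j : Fin 2} (hij : i ≠ j),
        SpecialLinearGroup.transvection hij (0 : Hermitian.fixed σ) = 1 := fun hij => Subtype.ext (by simp [Matrix.SpecialLinearGroup.transvection_coe])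
    have h2K : ∀ a : Hermitian.fixed σ, a + a = 0 := fun a => Subtype.ext (by
      show (a : F) + a = 0
      rw [← two_mul, h2, zero_mul])
    have hcentre : ∀ i j : Fin 2, i ≠ j → ∃ r : Fin 3 → F, r ≠ 0 ∧ 𝕙 r r = 0 ∧ ∀ t ∈ T i j,
        (∀ x, ∃ a : F, act t x - x = a • r) ∧ (∀ v, 𝕙 v r = 0 → act t v = v) := fun i j hij =>
      exists_centre C hF h2 (T i j)
        ⟨_, ⟨hij, 1, rfl⟩, fun e' => by
          have h1 := hψ (e'.trans ψ.map_one.symm)
          have h3 := congrArg (fun M : SpecialLinearGroup (Fin 2) (Hermitian.fixed σ) =>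
            (M : Matrix (Fin 2) (Fin 2) (Hermitian.fixed σ)) i j) h1
          simp [Matrix.SpecialLinearGroup.transvection_coe, Matrix.transvection, hij] at h3⟩
        (by rintro _ ⟨_, c, rfl⟩; rw [← map_mul, hadd, h2K, hzero, map_one])
        (by rintro _ ⟨_, c, rfl⟩ _ ⟨_, c', rfl⟩; exact Commute.map (show _ = _ by rw [hadd, hadd, add_comm]) ψ)
    obtain ⟨r, r0, rr, hr⟩ := hcentre 0 1 (by decide)
    obtain ⟨r', r0', rr', hr'⟩ := hcentre 1 0 (by decide)
    have hne' : 𝕙 r' r ≠ 0 := by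
      intro h0
      obtain ⟨c, hc⟩ := iso_dependent C hF r0 rr h0 rr'
      obtain ⟨ha, fa⟩ := hr _ ⟨(by decide : (0 : Fin 2) ≠ 1), 1, rfl⟩
      obtain ⟨hb, fb⟩ := hr' _ ⟨(by decide : (1 : Fin 2) ≠ 0), 1, rfl⟩
      refine exists_trans_two C (Hermitian.fixed σ) (hψ (show ψ _ = ψ _ from ?_))
      rw [map_mul, map_mul]
      set s := ψ (SpecialLinearGroup.transvection (show (0 : Fin 2) ≠ 1 by decide) (1 : Hermitian.fixed σ))
      set t := ψ (SpecialLinearGroup.transvection (show (1 : Fin 2) ≠ 0 by decide) (1 : Hermitian.fixed σ))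
      refine ext_act fun x => ?_
      obtain ⟨a, hxa⟩ := ha x
      obtain ⟨b, hxb⟩ := hb x
      rw [hc, smul_smul] at hxb
      have fr : act t r = r := fb r (by rw [hc, smul_right C, rr, mul_zero])
      rw [act_mul, act_mul, sub_eq_iff_eq_add'.1 hxa, sub_eq_iff_eq_add'.1 hxb, AutPSU.act_add, AutPSU.act_add,
        AutPSU.act_smul, AutPSU.act_smul, fr, fa r rr, sub_eq_iff_eq_add'.1 hxa, sub_eq_iff_eq_add'.1 hxb]
      abel
    obtain ⟨v, v1, vo⟩ := exists_perp_unit C ![r, r'] (by
      intro c hc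
      have e0 := hc 0
      have e1 := hc 1
      simp [Fin.sum_univ_two, rr, rr', hne', show 𝕙 r r' ≠ 0 from fun e => hne' ((eq_zero_comm C).1 e)] at e0 e1
      funext i; fin_cases i
      exacts [e1, e0]) (by decide)
    refine ⟨v, v1, fun s => ?_⟩
    have htop : ∀ g : SpecialLinearGroup (Fin 2) (Hermitian.fixed σ), ψ g ∈ stabV (q := q) v := by
      intro g
      have hg : g ∈ (stabV (q := q) v).comap ψ := by
        refine (Subgroup.closure_le _).2 ?_ (ClassicalSL.closure_elemTransvections.ge (Subgroup.mem_top g))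
        rintro _ ⟨i, j, hij, c, rfl⟩
        fin_cases i <;> fin_cases j
        · exact absurd rfl hij
        · exact (hr _ ⟨hij, c, rfl⟩).2 v (vo 0)
        · exact (hr' _ ⟨hij, c, rfl⟩).2 v (vo 1)
        · exact absurd rfl hij
      exact hg
    have := htop (e s)
    simpa [ψ, mem_stabV] using this
  · obtain ⟨s, hs0, hs1⟩ := exists_two C (a := -1) (b := 0) (by simp [N])
    have hsc : ∀ t, Commute s t := fun t => ext_two C
      (by simp [en_mul2, hs0, hs1, (en_rel C s).1, (en_rel C s).2])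
      (by simp [en_mul2, hs0, hs1, (en_rel C s).1, (en_rel C s).2])
    have hss : s * s = 1 := ext_two C
      (by simp [en_mul2, hs0, hs1, (en_rel C s).1]; simp [en])
      (by simp [en_mul2, hs0, hs1, (en_rel C s).1]; simp [en])
    have hs' : s ≠ 1 := fun e' => by
      rw [e'] at hs0
      simp [en] at hs0
      exact h2 (by linear_combination hs0)
    set z := φ s with hz
    have hzz : z * z = 1 := by rw [hz, ← map_mul, hss, map_one]
    have hzne : z ≠ 1 := fun e' => hs' (hφ (e'.trans φ.map_one.symm))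
    have hzf : ∀ x, act z (x + act z x) = x + act z x := fun x => by
      rw [AutPSU.act_add, ← act_mul, hzz, act_one, add_comm]
    obtain ⟨x, hx⟩ : ∃ x, x + act z x ≠ 0 := by
      by_contra! hc
      have hm : ((z : Matrix.SpecialLinearGroup (Fin 3) F) : Matrix (Fin 3) (Fin 3) F) = -1 :=
        Matrix.ext_of_mulVec_single fun i => by
          rw [Matrix.neg_mulVec, Matrix.one_mulVec]
          exact eq_neg_of_add_eq_zero_right (hc _)
      have := (z : Matrix.SpecialLinearGroup (Fin 3) F).2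
      rw [hm, Matrix.det_neg, Matrix.det_one, Fintype.card_fin] at this
      norm_num at this
      exact h2 (by linear_combination -this)
    obtain ⟨v0, hv0, hv0z⟩ : ∃ v0, 𝕙 v0 v0 ≠ 0 ∧ act z v0 = v0 := by
      set f := x + act z x with hf
      by_cases hff : 𝕙 f f ≠ 0
      · exact ⟨f, hff, hzf x⟩
      push Not at hff
      obtain ⟨w, hw⟩ : ∃ w, 𝕙 f w ≠ 0 := by by_contra! hc; exact hx (AutPSU.nondeg C hc)
      set g := w + act z w with hg
      have hfg : 𝕙 f g ≠ 0 := by
        rw [hg, add_right C, show 𝕙 f (act z w) = 𝕙 f w by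
          have hf' : act z f = f := hzf x
          conv_lhs => rw [← hf']
          exact act_pres z f w, ← two_mul]
        exact mul_ne_zero h2 hw
      by_cases hgg : 𝕙 g g ≠ 0
      · exact ⟨g, hgg, hzf w⟩
      push Not at hgg
      refine ⟨f + C.σ (𝕙 f g)⁻¹ • g, ?_, by rw [AutPSU.act_add, AutPSU.act_smul, hzf, hzf]⟩
      have hc1 : (𝕙 f g)⁻¹ * 𝕙 f g = 1 := inv_mul_cancel₀ hfg
      simp [add_left C, add_right C, smul_left C, smul_right C, hff, hgg, AutPSU.symm C f g, C.invol]
      rw [hc1, inv_mul_cancel₀ (fun e => hfg ((map_eq_zero C.σ).1 e))]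
      intro e'; exact h2 (by linear_combination e')
    obtain ⟨γ, γ0, hv⟩ := exists_unit C hv0
    set v := γ • v0 with hvdef
    have hvz : act z v = v := by rw [hvdef, AutPSU.act_smul, hv0z]
    obtain ⟨s0, hs0v, hr⟩ := exists_stab_hom C hF hv
    obtain ⟨t, ht⟩ : z ∈ ((MulAut.conj s0).toMonoidHom.comp B0).range := hr ▸ (mem_stabV.2 hvz)
    have htt : t * t = 1 := ((MulAut.conj s0).injective.comp (emb_injective 0 _)) (by
      show ((MulAut.conj s0).toMonoidHom.comp B0) (t * t) = ((MulAut.conj s0).toMonoidHom.comp B0) 1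
      rw [map_mul, ht, hzz, map_one])
    have htinv : t⁻¹ = t := inv_eq_of_mul_eq_one_right htt
    have ht01 : en t 0 1 = 0 := by
      have := (en_inv t).2.1
      rw [htinv] at this
      exact (mul_eq_zero.1 (show (2 : F) * en t 0 1 = 0 by linear_combination this)).resolve_left h2
    have ht10 : en t 1 0 = 0 := by rw [(en_rel C t).1, ht01, map_zero, neg_zero]
    have ht00 : en t 0 0 = -1 := by
      have h3 : en t 0 0 * en t 0 0 = 1 := by
        have h9 : en (t * t) 0 0 = en (1 : SU[2]) 0 0 := by rw [htt]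
        rw [en_mul2, ht01, zero_mul, add_zero] at h9
        simpa [en] using h9
      rcases mul_self_eq_one_iff.1 h3 with h4 | h4
      · exfalso
        apply hzne
        have : t = 1 := ext_two C (by simpa [en] using h4) (by simpa [en] using ht01)
        rw [← ht, this, map_one]
      · exact h4
    have hline : ∀ y, act z y = y → ∃ c : F, y = c • v := by
      intro y hy
      set y' := act s0⁻¹ y with hy'
      have hfix : act (B0 t) y' = y' := by
        rw [← ht] at hy
        change act (s0 * B0 t * s0⁻¹) y = y at hy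
        rw [act_mul, act_mul] at hy
        have := congrArg (act s0⁻¹) hy
        rwa [act_inv_act] at this
      have hc : ∀ i : Fin 2, y' ⟨i, by omega⟩ = 0 := by
        intro i
        have h5 := congrFun hfix ⟨i, by omega⟩
        rw [emb_in 0 _ t y' i _ (by simp)] at h5
        have h6 : act t (fun b : Fin 2 => y' ⟨0 + b, by omega⟩) i = -y' ⟨i, by omega⟩ := by
          have ht11 : en t 1 1 = -1 := by rw [(en_rel C t).2, ht00, map_neg, map_one]
          simp only [en] at ht00 ht01 ht10 ht11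
          fin_cases i <;> simp [act, Matrix.mulVec, dotProduct, Fin.sum_univ_two, ht00, ht01, ht10, ht11]
        rw [h6] at h5
        exact (mul_eq_zero.1 (show (2 : F) * y' ⟨i, by omega⟩ = 0 by linear_combination -h5)).resolve_left h2
      refine ⟨y' 2, ?_⟩
      rw [← hs0v, ← AutPSU.act_smul, show y' 2 • (bv 2 : Fin 3 → F) = y' from funext fun j => by
        fin_cases j
        · simpa [bv] using (hc 0).symm
        · simpa [bv] using (hc 1).symm
        · simp [bv], hy', AutPSU.act_act_inv]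
    have hex : ∀ a, ∃ c : F, act (φ a) v = c • v := fun a => hline _ (by
      rw [← act_mul, hz, ← map_mul, (hsc a).eq, map_mul, act_mul]
      exact congrArg _ hvz)
    have hu : ∀ a (c : F), act (φ a) v = c • v → 𝕙 (act (φ a) v) v = c := fun a c hc => by
      rw [hc, smul_left C, hv, mul_one]
    let χ : SpecialLinearGroup (Fin 2) (Hermitian.fixed σ) →* F :=
      { toFun := fun a => 𝕙 (act (φ (e.symm a)) v) v
        map_one' := by rw [map_one, map_one, act_one, hv]
        map_mul' := fun a b => by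
          obtain ⟨c, hc⟩ := hex (e.symm a)
          obtain ⟨c', hc'⟩ := hex (e.symm b)
          rw [hu _ _ hc, hu _ _ hc', map_mul, map_mul, act_mul, hc', AutPSU.act_smul, hc, smul_smul, smul_left C, hv,
            mul_one, mul_comm] }
    have hχ : χ.toHomUnits.ker = ⊤ := top_le_iff.1
      ((commutator_sl2 (K := Hermitian.fixed σ) (by rw [hfix]; exact hq)).ge.trans
        (Abelianization.commutator_subset_ker _))
    refine ⟨v, hv, fun a => ?_⟩
    obtain ⟨c, hc⟩ := hex a
    have h7 : χ.toHomUnits (e a) = 1 := MonoidHom.mem_ker.1 (hχ.ge (Subgroup.mem_top _))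
    have h8 : 𝕙 (act (φ (e.symm (e a))) v) v = 1 := congrArg (fun u : Fˣ => (u : F)) h7
    rw [e.symm_apply_apply, hu _ _ hc] at h8
    rw [hc, h8, one_smul]

/-- An element of a torus fixing a vector is trivial. -/
theorem eq_one_of_fix {s : SU[2]} (hs : s ^ (q + 1) = 1) {w : Fin 2 → F} (hw : w ≠ 0) (h1 : act s w = w) :
    s = 1 := by
  set M : Matrix (Fin 2) (Fin 2) F := (s : Matrix.SpecialLinearGroup (Fin 2) F).1 with hM
  have hdet : (M - 1).det = 0 := Matrix.exists_mulVec_eq_zero_iff.1 ⟨w, hw, by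
    rw [Matrix.sub_mulVec, Matrix.one_mulVec]
    exact sub_eq_zero.2 h1⟩
  have hd : M.det = 1 := (s : Matrix.SpecialLinearGroup (Fin 2) F).2
  rw [Matrix.det_fin_two] at hd hdet
  simp at hdet
  have hN : (M - 1) * (M - 1) = 0 := by
    ext i j
    fin_cases i <;> fin_cases j <;> simp [Matrix.mul_apply, Fin.sum_univ_two]
    · linear_combination (M 0 0 - 1) * (hd - hdet) - hdet
    · linear_combination (M 0 1) * (hd - hdet)
    · linear_combination (M 1 0) * (hd - hdet)
    · linear_combination (M 1 1 - 1) * (hd - hdet) - hdet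
  have hk : ∀ k : ℕ, M ^ k = 1 + (k : F) • (M - 1) := by
    intro k
    induction k with
    | zero => simp
    | succ k ih =>
      rw [pow_succ, ih, Nat.cast_succ, add_smul, one_smul]
      have : (M - 1) * M = M - 1 := by
        conv_lhs => rw [show M = (M - 1) + 1 from (sub_add_cancel M 1).symm]
        rw [sub_add_cancel, mul_sub, mul_one] at *
        simpa [mul_sub, sub_mul, sub_eq_zero] using hN
      rw [add_mul, one_mul, Matrix.smul_mul, this]
      abel
  have hpow : M ^ (q + 1) = 1 := by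
    have := congrArg (fun g : SU[2] => (g : Matrix.SpecialLinearGroup (Fin 2) F).1) hs
    simpa [hM] using this
  have hq0 : (q : F) = 0 := by
    have := FiniteField.cast_card_eq_zero F
    rw [hF, Nat.cast_pow] at this
    exact eq_zero_of_pow_eq_zero this
  rw [hk, Nat.cast_add, hq0, zero_add, Nat.cast_one, one_smul, add_sub_cancel] at hpow
  exact Subtype.ext (Subtype.ext hpow)

/-- Commuting tori force orthogonal fixed vectors. -/
theorem orth_of_tori {va vb : Fin 3 → F} (ha : 𝕙 va va = 1) (hb : 𝕙 vb vb = 1)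
    (hne : stabV (q := q) va ≠ stabV (q := q) vb) (hq : 1 ≤ q) {a b : SU[3]}
    (haf : act a va = va) (hbf : act b vb = vb) (hao : orderOf a = q + 1) (hbo : orderOf b = q + 1)
    (hab : Commute a b) : 𝕙 va vb = 0 := by
  have line : ∀ {v : Fin 3 → F} (_ : 𝕙 v v = 1) {g : SU[3]} (_ : act g v = v) (_ : orderOf g = q + 1)
      (y : Fin 3 → F), act g y = y → y = 𝕙 y v • v := by
    intro v hv g hg ho y hy
    obtain ⟨s0, hs0v, hr⟩ := exists_stab_hom C hF hv
    obtain ⟨t, ht⟩ : g ∈ ((MulAut.conj s0).toMonoidHom.comp B0).range := hr ▸ (mem_stabV.2 hg)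
    have htp : t ^ (q + 1) = 1 := ((MulAut.conj s0).injective.comp (emb_injective 0 _)) (by
      show ((MulAut.conj s0).toMonoidHom.comp B0) (t ^ (q + 1)) = ((MulAut.conj s0).toMonoidHom.comp B0) 1
      rw [map_pow, ht, map_one, ← ho, pow_orderOf_eq_one])
    set y' := act s0⁻¹ y with hy'
    have hfix : act (B0 t) y' = y' := by
      rw [← ht] at hy
      change act (s0 * B0 t * s0⁻¹) y = y at hy
      rw [act_mul, act_mul] at hy
      have := congrArg (act s0⁻¹) hy
      rwa [act_inv_act] at this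
    have hw : (fun b : Fin 2 => y' ⟨0 + b, by omega⟩) = 0 := by
      by_contra hw
      have h1 : act t (fun b : Fin 2 => y' ⟨0 + b, by omega⟩) = fun b : Fin 2 => y' ⟨0 + b, by omega⟩ :=
        funext fun i => by
          have h5 := congrFun hfix ⟨0 + i, by omega⟩
          rwa [emb_in 0 _ t y' i _ rfl] at h5
      have := eq_one_of_fix C hF htp hw h1
      rw [← ht, this, map_one, orderOf_one] at ho
      omega
    have e2 : y' = 𝕙 y v • bv 2 := by
      have e3 : 𝕙 y v = y' 2 := by
        rw [← h_bv_right C y' 2, hy', h_act_left, inv_inv, hs0v]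
      funext j
      fin_cases j
      · simpa [bv] using congrFun hw 0
      · simpa [bv] using congrFun hw 1
      · simp [bv, e3]
    rw [← hs0v, ← AutPSU.act_smul, hs0v, ← e2, hy', AutPSU.act_act_inv]
  have hb' : act a (act b va) = act b va := by rw [← act_mul, hab.eq, act_mul, haf]
  have e1 := line ha haf hao _ hb'
  set c := 𝕙 (act b va) va
  by_contra h0
  have hc : c = 1 := by
    have e2 : 𝕙 (act b va) (act b vb) = 𝕙 va vb := act_pres b va vb
    rw [hbf, e1, smul_left C] at e2
    exact mul_right_cancel₀ h0 (e2.trans (one_mul _).symm)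
  rw [hc, one_smul] at e1
  have e3 := line hb hbf hbo va e1
  refine hne (SetLike.ext fun s => ?_)
  rw [mem_stabV, mem_stabV, e3, AutPSU.act_smul]
  exact ⟨fun e => smul_right_injective _ h0 e, fun e => by rw [e]⟩

/-- Two blocks with commuting tori generating `SU₃` form a standard pair. -/
theorem standard_of_tori (hq : 4 ≤ q) {G : Type*} [Group G] {A B : Subgroup G} (ea : SU[2] ≃* A) (eb : SU[2] ≃* B)
    (Φ : ↥(A ⊔ B) ≃* SU[3]) {a b : G} (ha : a ∈ A) (hb : b ∈ B) (hao : orderOf a = q + 1) (hbo : orderOf b = q + 1)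
    (hab : Commute a b) : Cfsg.IsStandardUnitaryPair (A ⊔ B) A B F q := by
  let φa : SU[2] →* SU[3] := (Φ.toMonoidHom.comp (Subgroup.inclusion le_sup_left)).comp ea.toMonoidHom
  let φb : SU[2] →* SU[3] := (Φ.toMonoidHom.comp (Subgroup.inclusion le_sup_right)).comp eb.toMonoidHom
  have ia : Function.Injective φa := (Φ.injective.comp (Subgroup.inclusion_injective _)).comp ea.injective
  have ib : Function.Injective φb := (Φ.injective.comp (Subgroup.inclusion_injective _)).comp eb.injective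
  obtain ⟨va, ha1, haf⟩ := exists_fixed_unit C hF hq φa ia
  obtain ⟨vb, hb1, hbf⟩ := exists_fixed_unit C hF hq φb ib
  have range_eq : ∀ (φ : SU[2] →* SU[3]) (v : Fin 3 → F), Function.Injective φ → 𝕙 v v = 1 →
      (∀ s, act (φ s) v = v) → φ.range = stabV (q := q) v := fun φ v i hv hf =>
    Subgroup.eq_of_le_of_card_ge (by rintro _ ⟨s, rfl⟩; exact hf s)
      (le_of_eq (by rw [card_stabV C hF hv]; exact Nat.card_congr (MonoidHom.ofInjective i).toEquiv))
  have ra := range_eq φa va ia ha1 haf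
  have rb := range_eq φb vb ib hb1 hbf
  have hmemA : ∀ x : ↥(A ⊔ B), Φ x ∈ stabV (q := q) va ↔ (x : G) ∈ A := fun x => by
    rw [← ra]
    constructor
    · rintro ⟨s, hs⟩
      rw [← Φ.injective hs]
      exact (ea s).2
    · intro hx
      exact ⟨ea.symm ⟨x, hx⟩, by simp [φa]; rfl⟩
  have hmemB : ∀ x : ↥(A ⊔ B), Φ x ∈ stabV (q := q) vb ↔ (x : G) ∈ B := fun x => by
    rw [← rb]
    constructor
    · rintro ⟨s, hs⟩
      rw [← Φ.injective hs]
      exact (eb s).2
    · intro hx
      exact ⟨eb.symm ⟨x, hx⟩, by simp [φb]; rfl⟩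
  have hne : stabV (q := q) va ≠ stabV (q := q) vb := by
    intro e
    have hAB : A ⊔ B ≤ A := sup_le le_rfl fun y hy =>
      (hmemA ⟨y, Subgroup.mem_sup_right hy⟩).1 (e ▸ (hmemB ⟨y, Subgroup.mem_sup_right hy⟩).2 hy)
    have h3 : (⊤ : Subgroup SU[3]) ≤ stabV (q := q) va := fun y _ => by
      obtain ⟨x, rfl⟩ := Φ.surjective y
      exact (hmemA x).2 (hAB x.2)
    obtain ⟨w, w1, wo⟩ := exists_perp_unit C ![va] (ON.gram C (q := q) (fun i j => by
      fin_cases i; fin_cases j; simpa using ha1)) (by decide)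
    obtain ⟨g, hg⟩ := exists_map_one C hF (n := 3) (by decide) ha1 w1
    have hwa : 𝕙 w va = 0 := wo 0
    rw [← hg, show act g va = va from h3 (Subgroup.mem_top g), ha1] at hwa
    exact one_ne_zero hwa
  set xa : ↥(A ⊔ B) := ⟨a, Subgroup.mem_sup_left ha⟩
  set xb : ↥(A ⊔ B) := ⟨b, Subgroup.mem_sup_right hb⟩
  have horth := orth_of_tori C hF ha1 hb1 hne (by omega) ((hmemA xa).2 ha) ((hmemB xb).2 hb)
    (by rw [MulEquiv.orderOf_eq, ← Subgroup.orderOf_coe]; exact hao)
    (by rw [MulEquiv.orderOf_eq, ← Subgroup.orderOf_coe]; exact hbo)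
    (Commute.map (show Commute xa xb from Subtype.ext hab.eq) Φ)
  obtain ⟨g, g2, g0⟩ := exists_map_two C hF (n := 3) le_rfl (bv_unit C (2 : Fin 3)) (bv_unit C 0)
    (bv_orth C (by decide)) ha1 hb1 horth
  have blocks : ∀ (o : ℕ) (ho : o + 2 ≤ 3) (i : Fin 3) (_ : (i : ℕ) < o ∨ o + 2 ≤ i) (v : Fin 3 → F)
      (_ : act g (bv i) = v) (_ : 𝕙 v v = 1) (x : SU[3]),
      x ∈ (emb o ho : SU[2] →* SU[3]).range ↔ MulAut.conj g x ∈ stabV (q := q) v := by
    intro o ho i hi v hv _ x
    have key : MulAut.conj g x ∈ stabV (q := q) v ↔ act x (bv i) = bv i := by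
      show act (g * x * g⁻¹) v = v ↔ _
      rw [act_mul, act_mul, ← hv, act_inv_act]
      exact ⟨fun e => AutPSU.act_inj g e, fun e => by rw [e]⟩
    rw [key]
    refine ⟨?_, fun e => emb_range o ho C x fun j hj => ?_⟩
    · rintro ⟨t, rfl⟩; exact emb_fix o ho t hi
    · obtain rfl : j = i := Fin.ext (by omega)
      exact e
  refine Or.inl ⟨(MulAut.conj g).trans Φ.symm, ?_, ?_⟩
  · rw [suBlock_eq C (k := 2) 0 (by decide) (S := {0, 1}) (by decide)]
    ext y
    constructor
    · rintro ⟨x, hx, rfl⟩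
      have := (blocks 0 _ 2 (Or.inr (by simp)) va g2 ha1 x).1 hx
      rw [← Φ.apply_symm_apply (MulAut.conj g x), hmemA] at this
      exact this
    · intro hy
      set z : ↥(A ⊔ B) := ⟨y, Subgroup.mem_sup_left hy⟩
      refine ⟨(MulAut.conj g).symm (Φ z), (blocks 0 _ 2 (Or.inr (by simp)) va g2 ha1 _).2 (by
        rw [MulEquiv.apply_symm_apply, hmemA]; exact hy), ?_⟩
      show ((Φ.symm (MulAut.conj g ((MulAut.conj g).symm (Φ z)))) : G) = y
      rw [MulEquiv.apply_symm_apply, Φ.symm_apply_apply]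
  · rw [suBlock_eq C (k := 2) 1 (by decide) (S := {1, 2}) (by decide)]
    ext y
    constructor
    · rintro ⟨x, hx, rfl⟩
      have := (blocks 1 _ 0 (Or.inl (by simp)) vb g0 hb1 x).1 hx
      rw [← Φ.apply_symm_apply (MulAut.conj g x), hmemB] at this
      exact this
    · intro hy
      set z : ↥(A ⊔ B) := ⟨y, Subgroup.mem_sup_right hy⟩
      refine ⟨(MulAut.conj g).symm (Φ z), (blocks 1 _ 0 (Or.inl (by simp)) vb g0 hb1 _).2 (by
        rw [MulEquiv.apply_symm_apply, hmemB]; exact hy), ?_⟩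
      show ((Φ.symm (MulAut.conj g ((MulAut.conj g).symm (Φ z)))) : G) = y
      rw [MulEquiv.apply_symm_apply, Φ.symm_apply_apply]

omit C in
/-- A Phan system of unitary type generates an image of the special unitary group. -/
theorem phan_system (hq : 4 ≤ q) {G : Type*} [Group G] {n : ℕ} (hn : 2 ≤ n)
    (U : Fin n → Subgroup G) (e : ∀ i, SU[2] ≃* U i) (hgen : ⨆ i, U i = ⊤)
    (D : Fin n → Subgroup G) (hD : ∀ i, D i ≤ U i ∧ IsCyclic (D i) ∧ Nat.card (D i) = q + 1)
    (h1 : ∀ i j : Fin n, (i : ℕ) + 2 ≤ j → ∀ x ∈ U i, ∀ y ∈ U j, x * y = y * x)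
    (h2 : ∀ i j : Fin n, (i : ℕ) + 1 = j → Nonempty (↥(U i ⊔ U j) ≃* SU[3]))
    (h3 : ∀ i j : Fin n, i ≠ j → ∀ x ∈ D i, ∀ y ∈ D j, x * y = y * x) :
    ∃ f : SU[n + 1] →* G, Function.Surjective f := by
  obtain ⟨C⟩ := AutPSU.exists_conj hF
  have hd : ∀ i, ∃ d, d ∈ D i ∧ orderOf d = q + 1 := fun i => by
    obtain ⟨-, hc, hcard⟩ := hD i
    obtain ⟨d, hd⟩ := hc.exists_ofOrder_eq_natCard
    exact ⟨d.1, d.2, by rw [Subgroup.orderOf_coe, hd, hcard]⟩
  refine weak_system hF hq hn U (fun i j => U i ⊔ U j) h1 (fun i j hij => ?_)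
    (top_le_iff.1 (hgen ▸ le_sup_left))
  obtain ⟨Φ⟩ := h2 i j hij
  obtain ⟨a, ha, hao⟩ := hd i
  obtain ⟨b, hb, hbo⟩ := hd j
  exact standard_of_tori C hF hq (e i) (e j) Φ ((hD i).1 ha) ((hD j).1 hb) hao hbo
    (h3 i j (fun h => by simp [h] at hij) a ha b hb)

end Cfsg.Agent.Phan
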