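import Cfsg.Agent.Lib.Phan.Normalise
import Cfsg.Agent.Lib.Classical.UnitaryStd

/-!
Special unitary groups of small dimension over the field with nine elements.
-/

set_option autoImplicit false
set_option linter.unusedSectionVars false
set_option linter.unusedSimpArgs false
set_option linter.style.show false
set_option maxHeartbeats 1000000

namespace Cfsg.Agent.Phan

open Matrix
open Cfsg.Agent.AutPSU (Conj h act act_mul act_one act_inv_act act_pres ext_act add_left add_right smul_left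
  smul_right sub_left sub_right self_fixed eq_zero_comm)

variable {F : Type*} [Field F] [Fintype F] {q : ℕ}

local notation "SU[" n "]" => Cfsg.SU n F q
local notation "𝕙" => h (q := q)

variable (C : Conj F q)

/-- The central involution of `SU₂`. -/
noncomputable def m1 : SU[2] := (exists_two C (a := -1) (b := 0) (by simp [N])).choose

theorem m1_spec : en (m1 C) 0 0 = -1 ∧ en (m1 C) 0 1 = 0 :=
  (exists_two C (a := -1) (b := 0) (by simp [N])).choose_spec

theorem act_m1 (x : Fin 2 → F) : act (m1 C) x = -x := by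
  obtain ⟨h0, h1⟩ := m1_spec C
  have h2 : en (m1 C) 1 0 = 0 := by rw [(en_rel C _).1, h1, map_zero, neg_zero]
  have h3 : en (m1 C) 1 1 = -1 := by rw [(en_rel C _).2, h0, map_neg, map_one]
  simp only [en] at h0 h1 h2 h3
  funext i
  fin_cases i <;> simp [act, Matrix.mulVec, dotProduct, Fin.sum_univ_two, h0, h1, h2, h3]

theorem m1_central (s : SU[2]) : Commute (m1 C) s :=
  ext_act fun x => by rw [act_mul, act_mul, act_m1, act_m1, ← neg_one_smul F x, AutPSU.act_smul, neg_one_smul]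

theorem m1_sq : m1 C * m1 C = 1 := ext_act fun x => by rw [act_mul, act_m1, act_m1, neg_neg, act_one]

variable (hF : Fintype.card F = q ^ 2) (hq : q = 3)
include hF hq

theorem three_zero : (3 : F) = 0 := by
  have := FiniteField.cast_card_eq_zero F
  rw [hF, hq, Nat.cast_pow] at this
  exact eq_zero_of_pow_eq_zero this

theorem two_ne : (2 : F) ≠ 0 := fun e => by
  have h3 := three_zero hF hq
  exact one_ne_zero (α := F) (by linear_combination h3 - e)

theorem eq_one_of_cube {x : F} (hx : x ^ 3 = 1) : x = 1 := by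
  have h3 := three_zero hF hq
  have : (x - 1) ^ 3 = 0 := by linear_combination hx - x * (x - 1) * h3
  exact sub_eq_zero.1 (eq_zero_of_pow_eq_zero this)

include C

theorem scalar_pow_four {n : ℕ} (hn : 2 ≤ n) {k : SU[n]} (hk : k ∈ Subgroup.center SU[n]) : k ^ 4 = 1 := by
  obtain ⟨c, hc⟩ := (AutPSU.mem_center_iff C hn hF k).1 hk
  have h1 := AutPSU.scalar_norm C (by omega) hc
  rw [C.apply_eq, ← pow_succ, hq] at h1
  exact ext_act fun x => by rw [AutPSU.act_pow_scalar hc, h1, one_smul, act_one]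

theorem center_three {k : SU[3]} (hk : k ∈ Subgroup.center SU[3]) : k = 1 := by
  obtain ⟨c, hc⟩ := (AutPSU.mem_center_iff C (by decide) hF k).1 hk
  have hm : ((k : Matrix.SpecialLinearGroup (Fin 3) F) : Matrix (Fin 3) (Fin 3) F) = c • 1 :=
    Matrix.ext_of_mulVec_single fun i => by
      rw [Matrix.smul_mulVec, Matrix.one_mulVec]
      exact hc _
  have hd := (k : Matrix.SpecialLinearGroup (Fin 3) F).2
  rw [hm, Matrix.det_smul, Matrix.det_one, mul_one, Fintype.card_fin] at hd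
  exact ext_act fun x => by rw [hc, eq_one_of_cube hF hq hd, one_smul, act_one]

theorem invo_two {t : SU[2]} (ht : t * t = 1) : t = 1 ∨ t = m1 C := by
  have h2 := two_ne hF hq
  have htinv : t⁻¹ = t := inv_eq_of_mul_eq_one_right ht
  have ht01 : en t 0 1 = 0 := by
    have := (en_inv t).2.1
    rw [htinv] at this
    exact (mul_eq_zero.1 (show (2 : F) * en t 0 1 = 0 by linear_combination this)).resolve_left h2
  have h3 : en t 0 0 * en t 0 0 = 1 := by
    have h9 : en (t * t) 0 0 = en (1 : SU[2]) 0 0 := by rw [ht]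
    rw [en_mul2, ht01, zero_mul, add_zero] at h9
    simpa [en] using h9
  rcases mul_self_eq_one_iff.1 h3 with h4 | h4
  · exact Or.inl (ext_two C (by simpa [en] using h4) (by simpa [en] using ht01))
  · exact Or.inr (ext_two C (h4.trans (m1_spec C).1.symm) (ht01.trans (m1_spec C).2.symm))

/-- A unit vector fixed by an involution inside a non-degenerate invariant subspace. -/
theorem fixed_unit {n : ℕ} (S : Submodule F (Fin n → F)) (c : SU[n]) (hcc : c * c = 1)
    (hS : ∀ x ∈ S, act c x ∈ S) (hnd : ∀ f ∈ S, f ≠ 0 → ∃ w ∈ S, 𝕙 f w ≠ 0)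
    (x : Fin n → F) (hx : x ∈ S) (hx0 : x + act c x ≠ 0) :
    ∃ u ∈ S, 𝕙 u u = 1 ∧ act c u = u := by
  have h2 := two_ne hF hq
  have hf : ∀ x, act c (x + act c x) = x + act c x := fun x => by
    rw [AutPSU.act_add, ← act_mul, hcc, act_one, add_comm]
  have done : ∀ v ∈ S, act c v = v → 𝕙 v v ≠ 0 → ∃ u ∈ S, 𝕙 u u = 1 ∧ act c u = u := fun v hv hc hn => by
    obtain ⟨γ, -, hγ⟩ := exists_unit C hn
    exact ⟨γ • v, S.smul_mem _ hv, hγ, by rw [AutPSU.act_smul, hc]⟩
  set f := x + act c x with hfd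
  have fS : f ∈ S := S.add_mem hx (hS _ hx)
  by_cases hff : 𝕙 f f ≠ 0
  · exact done f fS (hf x) hff
  push Not at hff
  obtain ⟨w, hw, hfw⟩ := hnd f fS hx0
  set g := w + act c w with hgd
  have gS : g ∈ S := S.add_mem hw (hS _ hw)
  have hfg : 𝕙 f g ≠ 0 := by
    rw [hgd, add_right C, show 𝕙 f (act c w) = 𝕙 f w by
      have hf' : act c f = f := hf x
      conv_lhs => rw [← hf']
      exact act_pres c f w, ← two_mul]
    exact mul_ne_zero h2 hfw
  by_cases hgg : 𝕙 g g ≠ 0
  · exact done g gS (hf w) hgg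
  push Not at hgg
  refine done (f + C.σ (𝕙 f g)⁻¹ • g) (S.add_mem fS (S.smul_mem _ gS))
    (by rw [AutPSU.act_add, AutPSU.act_smul, hf, hf]) ?_
  have hc1 : (𝕙 f g)⁻¹ * 𝕙 f g = 1 := inv_mul_cancel₀ hfg
  simp [add_left C, add_right C, smul_left C, smul_right C, hff, hgg, AutPSU.symm C f g, C.invol]
  rw [hc1, inv_mul_cancel₀ (fun e => hfg ((map_eq_zero C.σ).1 e))]
  intro e'; exact h2 (by linear_combination e')

theorem fixed_unit_top {n : ℕ} (c : SU[n]) (hcc : c * c = 1) (x : Fin n → F) (hx : x + act c x ≠ 0) :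
    ∃ u, 𝕙 u u = 1 ∧ act c u = u := by
  obtain ⟨u, -, hu⟩ := fixed_unit C hF hq ⊤ c hcc (fun _ _ => trivial) (fun f _ hf => by
    by_contra! hh; exact hf (AutPSU.nondeg C fun w => hh w trivial)) x trivial hx
  exact ⟨u, hu⟩

local notation "E0" => emb (F := F) (q := q) (k := 2) (n := 4) 0 (by decide)
local notation "E1" => emb (F := F) (q := q) (k := 2) (n := 4) 1 (by decide)
local notation "E2" => emb (F := F) (q := q) (k := 2) (n := 4) 2 (by decide)

omit hF hq in
theorem exists_neg_four : ∃ ng : SU[4], ∀ x, act ng x = -x := by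
  obtain ⟨s, hs⟩ := AutPSU.exists_SU (n := 4) (q := q) (-1 : Matrix (Fin 4) (Fin 4) F) (by simp [Matrix.det_neg]; norm_num) (fun u v => by
    rw [Matrix.neg_mulVec, Matrix.neg_mulVec, Matrix.one_mulVec, Matrix.one_mulVec, hneg_left C, hneg_right C,
      neg_neg])
  exact ⟨s, fun x => by rw [hs, Matrix.neg_mulVec, Matrix.one_mulVec]⟩

/-- An involution fixing two coordinate vectors. -/
theorem invo_fix {c : SU[4]} (hcc : c * c = 1) (hne : c ≠ 1) (o : ℕ) (ho : o + 2 ≤ 4)
    (hfix : ∀ i : Fin 4, (i : ℕ) < o ∨ o + 2 ≤ i → act c (bv i) = bv i) : c = emb o ho (m1 C) := by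
  obtain ⟨t, ht⟩ := emb_range o ho C c hfix
  have htt : t * t = 1 := emb_injective o ho (by rw [map_mul, ht, hcc, map_one])
  rcases invo_two C hF hq htt with rfl | rfl
  · exact absurd (ht.symm.trans (map_one _)) hne
  · exact ht.symm

omit hF hq in
theorem lin_ext {n : ℕ} {s : SU[n]} {v : Fin n → F} (S : Set (Fin n)) (hS : ∀ i, i ∉ S → v i = 0) (φ : F)
    (hs : ∀ i ∈ S, act s (bv i) = φ • bv i) : act s v = φ • v := by
  have e : v = ∑ i, v i • (bv i : Fin n → F) := by
    funext j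
    simp [bv, Finset.sum_apply, Pi.single_apply]
  have hh : ∀ i, act s (v i • (bv i : Fin n → F)) = φ • v i • bv i := fun i => by
    by_cases hi : i ∈ S
    · rw [AutPSU.act_smul, hs i hi, smul_comm]
    · rw [hS i hi, zero_smul, AutPSU.act_zero, smul_zero]
  conv_lhs => rw [e]
  conv_rhs => rw [e]
  rw [Finset.smul_sum]
  simp only [act] at hh ⊢
  rw [Matrix.mulVec_sum]
  exact Finset.sum_congr rfl fun i _ => hh i

omit hF hq in
theorem emb_m1_bv {n : ℕ} (o : ℕ) (ho : o + 2 ≤ n) (i : Fin n) (hi : o ≤ (i : ℕ) ∧ (i : ℕ) < o + 2) :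
    act (emb o ho (m1 C) : SU[n]) (bv i) = -bv i := by
  funext x
  by_cases hx : (x : ℕ) < o ∨ o + 2 ≤ x
  · have : x ≠ i := fun e => by rw [e] at hx; omega
    rw [emb_out o ho _ _ hx]
    simp [bv, this]
  · rw [emb_in o ho _ _ (⟨(x : ℕ) - o, by omega⟩) x (by simp; omega), act_m1]
    simp only [Pi.neg_apply]
    exact congrArg Neg.neg (congrArg (bv i : Fin n → F) (Fin.ext (show o + ((x : ℕ) - o) = x by omega)))

/-- Two commuting involutions with a four-frame. -/
theorem inv_frame {c0 c1 : SU[4]} (h0 : c0 * c0 = 1) (h1 : c1 * c1 = 1) (h01 : Commute c0 c1)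
    (n0 : c0 ∉ Subgroup.center SU[4]) (n1 : c1 ∉ Subgroup.center SU[4]) (n01 : c0 * c1 ∉ Subgroup.center SU[4]) :
    ∃ s : SU[4], s⁻¹ * c0 * s = E0 (m1 C) ∧ s⁻¹ * c1 * s = E1 (m1 C) := by
  obtain ⟨ng, hng⟩ := exists_neg_four C
  have ngc : ng ∈ Subgroup.center SU[4] :=
    (AutPSU.mem_center_iff C (by decide) hF ng).2 ⟨-1, fun x => by rw [hng, neg_one_smul]⟩
  have ne1 : ∀ {c : SU[4]}, c ∉ Subgroup.center SU[4] → c ≠ 1 := fun hc e => hc (e ▸ one_mem _)
  have neg : ∀ {c : SU[4]}, c ∉ Subgroup.center SU[4] → ∃ x, x + act c x ≠ 0 := by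
    intro c hc
    by_contra! hh
    exact hc ((AutPSU.mem_center_iff C (by decide) hF c).2 ⟨-1, fun x => by
      rw [neg_one_smul]; exact eq_neg_of_add_eq_zero_right (hh x)⟩)
  -- a frame for the first involution
  obtain ⟨x, hx⟩ := neg n0
  obtain ⟨u3, u3u, u3f⟩ := fixed_unit_top C hF hq c0 h0 x hx
  obtain ⟨r0, hr0⟩ := exists_map_one C hF (n := 4) (by decide) (bv_unit C (3 : Fin 4)) u3u
  obtain ⟨t3, ht3⟩ := emb_range (F := F) (q := q) 0 (show 0 + 3 ≤ 4 by decide) C (r0⁻¹ * c0 * r0) fun i hi => by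
    obtain rfl : i = 3 := Fin.ext (by simp at hi; simp; omega)
    rw [act_mul, act_mul, hr0, u3f, ← hr0, act_inv_act]
  have t3t : t3 * t3 = 1 := emb_injective 0 _ (by
    rw [map_mul, ht3, map_one, show r0⁻¹ * c0 * r0 * (r0⁻¹ * c0 * r0) = r0⁻¹ * (c0 * c0) * r0 by group, h0]
    group)
  obtain ⟨y, hy⟩ : ∃ y, y + act t3 y ≠ 0 := by
    by_contra! hh
    have hm : ((t3 : Matrix.SpecialLinearGroup (Fin 3) F) : Matrix (Fin 3) (Fin 3) F) = -1 :=
      Matrix.ext_of_mulVec_single fun i => by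
        rw [Matrix.neg_mulVec, Matrix.one_mulVec]
        exact eq_neg_of_add_eq_zero_right (hh _)
    have := (t3 : Matrix.SpecialLinearGroup (Fin 3) F).2
    rw [hm, Matrix.det_neg, Matrix.det_one, Fintype.card_fin] at this
    norm_num at this
    exact two_ne hF hq (by linear_combination -this)
  obtain ⟨u2, u2u, u2f⟩ := fixed_unit_top C hF hq t3 t3t y hy
  obtain ⟨r1, hr1⟩ := exists_map_one C hF (n := 3) (by decide) (bv_unit C (2 : Fin 3)) u2u
  set r := r0 * emb 0 (show 0 + 3 ≤ 4 by decide) r1 with hr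
  have hc0 : r⁻¹ * c0 * r = E0 (m1 C) := by
    refine invo_fix C hF hq (by
      rw [show r⁻¹ * c0 * r * (r⁻¹ * c0 * r) = r⁻¹ * (c0 * c0) * r by group, h0]; group)
      (fun e => ne1 n0 (by
        rw [show c0 = r * (r⁻¹ * c0 * r) * r⁻¹ by group, e]; group)) 0 (by decide) ?_
    intro i hi
    rw [hr]
    set e1 := emb (F := F) (q := q) (n := 4) 0 (show 0 + 3 ≤ 4 by decide) r1 with he1
    rw [show (r0 * e1)⁻¹ * c0 * (r0 * e1) = e1⁻¹ * (r0⁻¹ * c0 * r0) * e1 by group, ← ht3, he1, ← map_inv, ← map_mul,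
      ← map_mul]
    rcases (show (i : ℕ) = 2 ∨ (i : ℕ) = 3 by omega) with e | e
    · exact emb_bv_eq 0 _ _ 2 2 i i (by simp [e]) (by simp [e])
        (by rw [act_mul, act_mul, hr1, u2f, ← hr1, act_inv_act])
    · exact emb_fix 0 _ _ (Or.inr (by omega))
  set d := r⁻¹ * c1 * r with hd
  have hdd : d * d = 1 := by rw [hd, show r⁻¹ * c1 * r * (r⁻¹ * c1 * r) = r⁻¹ * (c1 * c1) * r by group, h1]; group
  have hdc : Commute d (E0 (m1 C)) := by
    rw [← hc0, hd]
    show r⁻¹ * c1 * r * (r⁻¹ * c0 * r) = r⁻¹ * c0 * r * (r⁻¹ * c1 * r)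
    rw [show r⁻¹ * c1 * r * (r⁻¹ * c0 * r) = r⁻¹ * (c1 * c0) * r by group, ← h01.eq]
    group
  have nd : ∀ z ∈ Subgroup.center SU[4], d ≠ z ∧ E0 (m1 C) * d ≠ z := by
    intro z hz
    constructor <;> intro e
    · exact n1 (by
        rw [show c1 = r * d * r⁻¹ by rw [hd]; group, e, Subgroup.mem_center_iff.1 hz r, mul_inv_cancel_right]
        exact hz)
    · exact n01 (by
        rw [show c0 * c1 = r * (E0 (m1 C) * d) * r⁻¹ by rw [← hc0, hd]; group, e, Subgroup.mem_center_iff.1 hz r,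
          mul_inv_cancel_right]
        exact hz)
  have lo : ∀ v : Fin 4 → F, v 0 = 0 → v 1 = 0 → act (E0 (m1 C)) v = v := fun v a b => by
    have := lin_ext C {2, 3} (v := v) (fun i hi => by fin_cases i <;> simp_all) 1 (s := E0 (m1 C)) fun i hi => by
      rw [one_smul]
      exact emb_fix 0 _ _ (Or.inr (by rcases hi with rfl | rfl <;> simp))
    simpa using this
  have hi' : ∀ v : Fin 4 → F, v 2 = 0 → v 3 = 0 → act (E0 (m1 C)) v = -v := fun v a b => by
    have := lin_ext C {0, 1} (v := v) (fun i hi => by fin_cases i <;> simp_all) (-1) (s := E0 (m1 C)) fun i hi => by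
      rw [neg_one_smul]
      exact emb_m1_bv C 0 _ _ (by rcases hi with rfl | rfl <;> simp)
    simpa using this
  have outv : ∀ v : Fin 4 → F, act (E0 (m1 C)) v = ![-v 0, -v 1, v 2, v 3] := fun v => by
    funext i
    fin_cases i
    · show act (E0 (m1 C)) v 0 = _
      rw [emb_in 0 _ _ v 0 0 (by simp), act_m1]; simp
    · show act (E0 (m1 C)) v 1 = _
      rw [emb_in 0 _ _ v 1 1 (by simp), act_m1]; simp
    · show act (E0 (m1 C)) v 2 = _
      rw [emb_out 0 _ _ v (Or.inr (by simp))]; simp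
    · show act (E0 (m1 C)) v 3 = _
      rw [emb_out 0 _ _ v (Or.inr (by simp))]; simp
  have h2 := two_ne hF hq
  have presLo : ∀ v : Fin 4 → F, v 0 = 0 → v 1 = 0 → act d v 0 = 0 ∧ act d v 1 = 0 := fun v a b => by
    have e : act (E0 (m1 C)) (act d v) = act d v := by rw [← act_mul, ← hdc.eq, act_mul, lo v a b]
    rw [outv] at e
    have e0 := congrFun e 0
    have e1 := congrFun e 1
    simp at e0 e1
    exact ⟨(mul_eq_zero.1 (show (2 : F) * act d v 0 = 0 by linear_combination -e0)).resolve_left h2,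
      (mul_eq_zero.1 (show (2 : F) * act d v 1 = 0 by linear_combination -e1)).resolve_left h2⟩
  have presHi : ∀ v : Fin 4 → F, v 2 = 0 → v 3 = 0 → act d v 2 = 0 ∧ act d v 3 = 0 := fun v a b => by
    have e : act (E0 (m1 C)) (act d v) = -act d v := by
      rw [← act_mul, ← hdc.eq, act_mul, hi' v a b, ← neg_one_smul F v, AutPSU.act_smul, neg_one_smul]
    rw [outv] at e
    have e2 := congrFun e 2
    have e3 := congrFun e 3
    simp at e2 e3
    exact ⟨(mul_eq_zero.1 (show (2 : F) * act d v 2 = 0 by linear_combination e2)).resolve_left h2,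
      (mul_eq_zero.1 (show (2 : F) * act d v 3 = 0 by linear_combination e3)).resolve_left h2⟩
  -- common fixed vectors
  have getu : ∀ (o : Fin 2) (a b : Fin 4), (a = ![0, 2] o) → (b = ![1, 3] o) →
      ∃ u : Fin 4 → F, u a = 0 ∧ u b = 0 ∧ 𝕙 u u = 1 ∧ act d u = u := by
    intro o a b ha hb
    have pres : ∀ v : Fin 4 → F, v a = 0 → v b = 0 → act d v a = 0 ∧ act d v b = 0 := by
      fin_cases o <;> simp at ha hb <;> subst ha hb
      exacts [presLo, presHi]
    obtain ⟨i, j, hij, hcov⟩ : ∃ i j : Fin 4, (i ≠ a ∧ i ≠ b ∧ j ≠ a ∧ j ≠ b) ∧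
        ∀ k, k = a ∨ k = b ∨ k = i ∨ k = j := by
      fin_cases o <;> simp at ha hb <;> subst ha hb
      exacts [⟨2, 3, by decide, by decide⟩, ⟨0, 1, by decide, by decide⟩]
    let S : Submodule F (Fin 4 → F) :=
      { carrier := {v | v a = 0 ∧ v b = 0}
        add_mem' := fun {x y} hx hy => by
          simp only [Set.mem_ofPred_eq] at hx hy ⊢; simp [hx.1, hx.2, hy.1, hy.2]
        zero_mem' := by simp
        smul_mem' := fun c x hx => by simp only [Set.mem_ofPred_eq] at hx ⊢; simp [hx.1, hx.2] }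
    have hbS : ∀ k : Fin 4, k ≠ a → k ≠ b → (bv k : Fin 4 → F) ∈ S := fun k ka kb =>
      ⟨by simp [bv, Ne.symm ka], by simp [bv, Ne.symm kb]⟩
    by_cases hx : ∃ x ∈ S, x + act d x ≠ 0
    · obtain ⟨x, hxS, hx0⟩ := hx
      obtain ⟨u, hu, uu, uf⟩ := fixed_unit C hF hq S d hdd (fun v hv => pres v hv.1 hv.2) (fun f hf f0 => by
        obtain ⟨k, hk⟩ : ∃ k, f k ≠ 0 := Function.ne_iff.1 f0
        refine ⟨bv k, hbS k (fun e => hk (e ▸ hf.1)) (fun e => hk (e ▸ hf.2)), by rwa [h_bv_right C]⟩) x hxS hx0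
      exact ⟨u, hu.1, hu.2, uu, uf⟩
    · push Not at hx
      have negd : ∀ v ∈ S, act d v = -v := fun v hv => eq_neg_of_add_eq_zero_right (hx v hv)
      exfalso
      fin_cases o <;> simp at ha hb <;> subst ha hb
      · -- negative on the fixed plane
        have hfx : ∀ k : Fin 4, (k : ℕ) < 0 ∨ 0 + 2 ≤ (k : ℕ) → act (ng * d) (bv k) = bv k := fun k hk => by
          rw [act_mul, negd _ (hbS k (by rintro rfl; simp at hk) (by rintro rfl; simp at hk)), hng, neg_neg]
        have hcc : (ng * d) * (ng * d) = 1 := by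
          rw [show ng * d * (ng * d) = ng * (d * ng) * d by group, Subgroup.mem_center_iff.1 ngc d,
            show ng * (ng * d) * d = ng * ng * (d * d) by group, hdd, mul_one]
          exact ext_act fun v => by rw [act_mul, hng, hng, neg_neg, act_one]
        have ngng : ng * ng = 1 := ext_act fun v => by rw [act_mul, hng, hng, neg_neg, act_one]
        by_cases h1' : ng * d = 1
        · exact (nd ng ngc).1 ((eq_inv_of_mul_eq_one_right h1').trans (inv_eq_of_mul_eq_one_right ngng))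
        · have := invo_fix C hF hq hcc h1' 0 (by decide) hfx
          exact (nd ng ngc).2 (by rw [← this, mul_assoc, hdd, mul_one])
      · -- negative on the other plane
        have hfx : ∀ k : Fin 4, (k : ℕ) < 2 ∨ 2 + 2 ≤ (k : ℕ) → act (E0 (m1 C) * d) (bv k) = bv k := fun k hk => by
          rw [act_mul, negd _ (hbS k (by rintro rfl; simp at hk) (by rintro rfl; simp at hk)),
            ← neg_one_smul F, AutPSU.act_smul, emb_m1_bv C 0 _ k (by omega), neg_one_smul, neg_neg]
        have hcc : E0 (m1 C) * d * (E0 (m1 C) * d) = 1 := by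
          rw [show E0 (m1 C) * d * (E0 (m1 C) * d) = E0 (m1 C) * (d * E0 (m1 C)) * d by group, hdc.eq,
            show E0 (m1 C) * (E0 (m1 C) * d) * d = E0 (m1 C) * E0 (m1 C) * (d * d) by group, hdd, mul_one, ← map_mul,
            m1_sq, map_one]
        by_cases h1' : E0 (m1 C) * d = 1
        · exact (nd 1 (one_mem _)).2 h1'
        · have hE := invo_fix C hF hq hcc h1' 2 (by decide) hfx
          refine (nd ng ngc).1 ?_
          rw [show d = E0 (m1 C) * (E0 (m1 C) * d) by rw [← mul_assoc, ← map_mul, m1_sq, map_one, one_mul], hE]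
          refine ext_bv fun k => ?_
          rw [act_mul, hng]
          rcases (show (k : ℕ) < 2 ∨ 2 ≤ (k : ℕ) by omega) with hk | hk
          · rw [emb_fix 2 _ _ (Or.inl hk), emb_m1_bv C 0 _ k (by omega)]
          · rw [emb_m1_bv C 2 _ k (by omega), ← neg_one_smul F, AutPSU.act_smul,
              emb_fix 0 _ _ (Or.inr (by omega)), neg_one_smul]
  obtain ⟨v, va, vb, vv, vf⟩ := getu 0 0 1 rfl rfl
  obtain ⟨v', va', vb', vv', vf'⟩ := getu 1 2 3 rfl rfl
  set v'' : Fin 4 → F := ![0, 0, -C.σ (v 3), C.σ (v 2)] with hv''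
  have hN : v 2 * C.σ (v 2) + v 3 * C.σ (v 3) = 1 := by
    rw [← vv]
    show _ = ∑ i, v i * v i ^ q
    simp [Fin.sum_univ_four, va, vb, ← C.apply_eq]
  have hh4 : ∀ x y : Fin 4 → F, 𝕙 x y =
      x 0 * C.σ (y 0) + x 1 * C.σ (y 1) + x 2 * C.σ (y 2) + x 3 * C.σ (y 3) := fun x y => by
    show ∑ i, x i * y i ^ q = _
    simp [Fin.sum_univ_four, ← C.apply_eq]
  have w1 : 𝕙 v'' v'' = 1 := by rw [hh4]; simp [hv'', C.invol]; linear_combination hN
  have w2 : 𝕙 v'' v = 0 := by rw [hh4]; simp [hv'']; ring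
  have w3 : 𝕙 v' v = 0 := by rw [hh4]; simp [va, vb, va', vb']
  have w4 : 𝕙 v' v'' = 0 := by rw [hh4]; simp [va', vb', hv'']
  have hON : ON (q := q) ![v', v'', v] := by
    intro i j
    fin_cases i <;> fin_cases j <;>
      simp [w1, w2, w3, w4, vv, vv', (eq_zero_comm C).1 w2, (eq_zero_comm C).1 w3, (eq_zero_comm C).1 w4]
  have hONb : ON (q := q) (![bv 0, bv 2, bv 3] : Fin 3 → Fin 4 → F) := by
    intro i j
    fin_cases i <;> fin_cases j <;> simp [bv_unit C, bv_orth C]
  obtain ⟨s, hs⟩ := exists_su C (m := 3) (by decide) hONb hON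
  have s0 : act s (bv 0) = v' := hs 0
  have s2 : act s (bv 2) = v'' := hs 1
  have s3 : act s (bv 3) = v := hs 2
  refine ⟨r * s, ?_, ?_⟩
  · rw [show (r * s)⁻¹ * c0 * (r * s) = s⁻¹ * (r⁻¹ * c0 * r) * s by group, hc0]
    refine invo_fix C hF hq (by
      rw [show s⁻¹ * E0 (m1 C) * s * (s⁻¹ * E0 (m1 C) * s) = s⁻¹ * (E0 (m1 C) * E0 (m1 C)) * s by group,
        ← map_mul, m1_sq, map_one]
      group) (fun e => n0 (by
        rw [show c0 = r * s * (s⁻¹ * (r⁻¹ * c0 * r) * s) * (r * s)⁻¹ by group, hc0, e, mul_one, mul_inv_cancel]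
        exact one_mem _)) 0 (by decide) ?_
    intro k hk
    rcases (show (k : ℕ) = 2 ∨ (k : ℕ) = 3 by omega) with e | e
    · rw [show k = 2 from Fin.ext e, act_mul, act_mul, s2, lo _ (by simp [hv'']) (by simp [hv'']), ← s2, act_inv_act]
    · rw [show k = 3 from Fin.ext e, act_mul, act_mul, s3, lo _ va vb, ← s3, act_inv_act]
  · rw [show (r * s)⁻¹ * c1 * (r * s) = s⁻¹ * d * s by rw [hd]; group]
    refine invo_fix C hF hq (by
      rw [show s⁻¹ * d * s * (s⁻¹ * d * s) = s⁻¹ * (d * d) * s by group, hdd]; group)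
      (fun e => (nd 1 (one_mem _)).1 (by rw [show d = s * (s⁻¹ * d * s) * s⁻¹ by group, e]; group)) 1 (by decide) ?_
    intro k hk
    rcases (show (k : ℕ) = 0 ∨ (k : ℕ) = 3 by omega) with e | e
    · rw [show k = 0 from Fin.ext e, act_mul, act_mul, s0, vf', ← s0, act_inv_act]
    · rw [show k = 3 from Fin.ext e, act_mul, act_mul, s3, vf, ← s3, act_inv_act]

end Cfsg.Agent.Phan
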