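import Cfsg.Agent.Lib.Phan.ThreeSU2

/-!
Two blocks inside a quotient of the special unitary group of rank four over the field with nine elements come from
standard blocks.
-/

set_option autoImplicit false
set_option linter.unusedSectionVars false
set_option linter.unusedSimpArgs false
set_option linter.style.show false
set_option maxHeartbeats 1000000

namespace Cfsg.Agent.Phan

open Matrix
open Cfsg.Agent.AutPSU (Conj h act act_mul act_one act_inv_act act_pres ext_act)

section algebra

variable {F : Type*} [Field F]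

local notation "M2" => Matrix (Fin 2) (Fin 2) F

theorem comm_form {A M : M2} (hA : ¬ ∃ a : F, A = a • (1 : M2)) (h : M * A = A * M) :
    ∃ α β : F, M = α • (1 : M2) + β • A := by
  have e00 := congrFun (congrFun h 0) 0
  have e01 := congrFun (congrFun h 0) 1
  have e10 := congrFun (congrFun h 1) 0
  simp [Matrix.mul_apply, Fin.sum_univ_two] at e00 e01 e10
  suffices H : ∃ β : F, M 0 1 = β * A 0 1 ∧ M 1 0 = β * A 1 0 ∧ M 0 0 - M 1 1 = β * (A 0 0 - A 1 1) by
    obtain ⟨β, h1, h2, h3⟩ := H
    refine ⟨M 1 1 - β * A 1 1, β, ?_⟩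
    ext i j
    fin_cases i <;> fin_cases j <;> simp [h1, h2]
    linear_combination h3
  by_cases a01 : A 0 1 ≠ 0
  · refine ⟨M 0 1 / A 0 1, by field_simp, ?_, ?_⟩
    · field_simp; linear_combination -e00
    · field_simp; linear_combination e01
  push Not at a01
  by_cases a10 : A 1 0 ≠ 0
  · refine ⟨M 1 0 / A 1 0, ?_, by field_simp, ?_⟩
    · field_simp; linear_combination e00
    · field_simp; linear_combination -e10
  push Not at a10
  have ad : A 0 0 - A 1 1 ≠ 0 := fun e => hA ⟨A 0 0, by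
    ext i j; fin_cases i <;> fin_cases j <;> simp [a01, a10]
    linear_combination -e⟩
  refine ⟨(M 0 0 - M 1 1) / (A 0 0 - A 1 1), ?_, ?_, by field_simp⟩
  · rw [a01, mul_zero]
    exact (mul_eq_zero.1 (show (A 0 0 - A 1 1) * M 0 1 = 0 by rw [a01] at e01; linear_combination -e01)).resolve_left ad
  · rw [a10, mul_zero]
    exact (mul_eq_zero.1 (show (A 0 0 - A 1 1) * M 1 0 = 0 by rw [a10] at e10; linear_combination e10)).resolve_left ad

variable (h3 : (3 : F) = 0)
include h3

theorem cube_one {x : F} (hx : x ^ 3 = 1) : x = 1 := by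
  have : (x - 1) ^ 3 = 0 := by linear_combination hx - x * (x - 1) * h3
  exact sub_eq_zero.1 (eq_zero_of_pow_eq_zero this)

/-- An element of order three normalising a commutative family of non-scalar involutory elements is trivial. -/
theorem trivial_of_conj {A A' T : M2} {κ : F} (hκ : κ ≠ 0) (hA : ¬ ∃ a : F, A = a • (1 : M2))
    (hA2 : A * A = κ • (1 : M2)) (hT : T * T * T = 1) (h' : A' * A = A * A') (hTA : T * A = A' * T) : T = 1 := by
  have hcan : ∀ {X Y : M2}, X * T = Y * T → X = Y := fun {X Y} e => by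
    have := congrArg (· * (T * T)) e
    simpa [Matrix.mul_assoc, show T * (T * T) = 1 by rw [← Matrix.mul_assoc, hT]] using this
  obtain ⟨α, β, rfl⟩ := comm_form hA h'
  have sq : ∀ α β : F, (α • (1 : M2) + β • A) * (α • (1 : M2) + β • A) =
      (α * α + β * β * κ) • (1 : M2) + (2 * α * β) • A := fun α β => by
    simp only [add_mul, mul_add, smul_mul_assoc, mul_smul_comm, one_mul, mul_one, hA2, smul_smul]
    module
  have nz : ∀ {a b : F}, a • (1 : M2) + b • A = 0 → a = 0 ∧ b = 0 := fun {a b} e => by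
    have hb : b = 0 := by
      by_contra hb
      refine hA ⟨-(b⁻¹ * a), ?_⟩
      have := congrArg (b⁻¹ • ·) e
      simp only [smul_add, smul_smul, inv_mul_cancel₀ hb, one_smul, smul_zero] at this
      rw [neg_smul]
      exact eq_neg_of_add_eq_zero_right this
    subst hb
    simp at e
    exact ⟨e, rfl⟩
  have h1 : (α • (1 : M2) + β • A) * (α • (1 : M2) + β • A) = κ • (1 : M2) := hcan (by
    rw [Matrix.mul_assoc, ← hTA, ← Matrix.mul_assoc, ← hTA, Matrix.mul_assoc, hA2]
    simp)
  rw [sq] at h1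
  have h2' := nz (a := α * α + β * β * κ - κ) (b := 2 * α * β) (by rw [sub_smul, ← h1]; abel)
  have h2ne : (2 : F) ≠ 0 := fun e => one_ne_zero (α := F) (by linear_combination h3 - e)
  have hα : α = 0 := by
    by_contra hα
    have hβ : β = 0 := (mul_eq_zero.1 h2'.2).resolve_left (mul_ne_zero h2ne hα)
    subst hβ
    apply hA
    refine ⟨α, ?_⟩
    simp at hTA
    have := congrArg (fun X => T * T * X) hTA
    simpa [← Matrix.mul_assoc, hT, Matrix.smul_mul, Matrix.mul_smul] using this
  subst hα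
  simp only [zero_smul, zero_add] at hTA h1
  have hβ3 : β ^ 3 = 1 := by
    have hTA' : T * A = β • (A * T) := hTA.trans (smul_mul_assoc β A T)
    have e2 : T * T * A = (β * β) • (A * (T * T)) := by
      rw [Matrix.mul_assoc, hTA', Matrix.mul_smul, ← Matrix.mul_assoc, hTA', Matrix.smul_mul, smul_smul,
        Matrix.mul_assoc]
    have e3 : T * T * T * A = (β * β * β) • (A * (T * T * T)) := by
      rw [Matrix.mul_assoc (T * T), hTA', Matrix.mul_smul, ← Matrix.mul_assoc, e2, Matrix.smul_mul, smul_smul,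
        Matrix.mul_assoc A, ← mul_assoc β β β]
    rw [hT, one_mul, mul_one] at e3
    have := nz (a := 0) (b := β * β * β - 1) (by rw [zero_smul, zero_add, sub_smul, one_smul, ← e3, sub_self])
    linear_combination this.2
  rw [cube_one h3 hβ3, one_smul] at hTA
  obtain ⟨a, b, rfl⟩ := comm_form hA hTA
  have hT3 : (a • (1 : M2) + b • A) * (a • (1 : M2) + b • A) * (a • (1 : M2) + b • A) =
      (a ^ 3) • (1 : M2) + (b ^ 3 * κ) • A := by
    have e : (a • (1 : M2) + b • A) * (a • (1 : M2) + b • A) * (a • (1 : M2) + b • A) =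
        (a ^ 3 + 3 * (a * b * b * κ)) • (1 : M2) + (b ^ 3 * κ + 3 * (a * a * b)) • A := by
      rw [sq]
      simp only [add_mul, mul_add, smul_mul_assoc, mul_smul_comm, one_mul, mul_one, hA2, smul_smul]
      module
    rw [e, h3, zero_mul, zero_mul, add_zero, add_zero]
  rw [hT] at hT3
  have h4 := nz (a := a ^ 3 - 1) (b := b ^ 3 * κ) (by rw [sub_smul, one_smul, sub_add_eq_add_sub]; exact sub_eq_zero.2 hT3.symm)
  have hb : b = 0 := eq_zero_of_pow_eq_zero ((mul_eq_zero.1 h4.2).resolve_right hκ)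
  rw [cube_one h3 (sub_eq_zero.1 h4.1), hb, zero_smul, one_smul, add_zero]

/-- An element of order three twisted by a reflection is trivial. -/
theorem trivial_of_twist {D T : M2} {μ : F} (hD : D = Matrix.diagonal ![-1, 1]) (hT : T * T * T = 1)
    (hDT : D * T = μ • (T * D)) : T = 1 := by
  subst hD
  have f : ∀ i j : Fin 2, (![-1, 1] : Fin 2 → F) i * T i j = μ * (T i j * (![-1, 1] : Fin 2 → F) j) := fun i j => by
    have := congrFun (congrFun hDT i) j
    simpa [Matrix.diagonal_mul, Matrix.mul_diagonal] using this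
  have e00 := f 0 0
  have e01 := f 0 1
  have e10 := f 1 0
  have e11 := f 1 1
  simp at e00 e01 e10 e11
  have t := fun i j => congrFun (congrFun hT i) j
  have t00 := t 0 0
  have t11 := t 1 1
  simp [Matrix.mul_apply, Fin.sum_univ_two] at t00 t11
  have h2ne : (2 : F) ≠ 0 := fun e => one_ne_zero (α := F) (by linear_combination h3 - e)
  by_cases hμ : μ = 1
  · subst hμ
    have z01 : T 0 1 = 0 := (mul_eq_zero.1 (show (2 : F) * T 0 1 = 0 by linear_combination -e01)).resolve_left h2ne
    have z10 : T 1 0 = 0 := (mul_eq_zero.1 (show (2 : F) * T 1 0 = 0 by linear_combination e10)).resolve_left h2ne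
    rw [z01, z10] at t00 t11
    have d0 : T 0 0 = 1 := cube_one h3 (by linear_combination t00)
    have d1 : T 1 1 = 1 := cube_one h3 (by linear_combination t11)
    ext i j
    fin_cases i <;> fin_cases j <;> simp [z01, z10, d0, d1]
  · exfalso
    have z00 : T 0 0 = 0 := (mul_eq_zero.1 (show (1 - μ) * T 0 0 = 0 by linear_combination e00)).resolve_left
      (sub_ne_zero.2 (Ne.symm hμ))
    have z11 : T 1 1 = 0 := (mul_eq_zero.1 (show (1 - μ) * T 1 1 = 0 by linear_combination e11)).resolve_left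
      (sub_ne_zero.2 (Ne.symm hμ))
    rw [z00, z11] at t00
    simp at t00

end algebra

variable {F : Type*} [Field F] [Fintype F] {q : ℕ}

local notation "SU[" n "]" => Cfsg.SU n F q
local notation "B0" => emb (F := F) (q := q) (k := 2) (n := 3) 0 (by decide)
local notation "B1" => emb (F := F) (q := q) (k := 2) (n := 3) 1 (by decide)
local notation "E0" => emb (F := F) (q := q) (k := 2) (n := 4) 0 (by decide)
local notation "E1" => emb (F := F) (q := q) (k := 2) (n := 4) 1 (by decide)
local notation "E2" => emb (F := F) (q := q) (k := 2) (n := 4) 2 (by decide)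

variable {G : Type*} [Group G]

/-- The subgroup generated by the elements of order three above a subgroup. -/
def lifts (g : SU[4] →* G) (U : Subgroup G) : Subgroup SU[4] := Subgroup.closure {x | x ^ 3 = 1 ∧ g x ∈ U}

/-- The restriction to two coordinates. -/
def rho (z : SU[4]) (p r : Fin 4) : Matrix (Fin 2) (Fin 2) F := !![en z p p, en z p r; en z r p, en z r r]

variable (C : Conj F q) (hF : Fintype.card F = q ^ 2) (hq : q = 3)
include C hF hq

theorem exists_center (g : SU[4] →* G) (hk : g.ker ≤ Subgroup.center SU[4]) {u v : SU[4]} (e : g u = g v) : ∃ k ∈ Subgroup.center SU[4], u = v * k :=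
  ⟨v⁻¹ * u, hk (by rw [MonoidHom.mem_ker, map_mul, map_inv, e, inv_mul_cancel]), (mul_inv_cancel_left v u).symm⟩

theorem lift_exists (g : SU[4] →* G) (hk : g.ker ≤ Subgroup.center SU[4]) {y : G} (hy : y ∈ g.range) (h : y ^ 3 = 1) : ∃ x : SU[4], x ^ 3 = 1 ∧ g x = y := by
  obtain ⟨s, rfl⟩ := hy
  have hker : s ^ 3 ∈ g.ker := by rw [MonoidHom.mem_ker, map_pow, h]
  refine ⟨s * s ^ 3, ?_, by rw [map_mul, MonoidHom.mem_ker.1 hker, mul_one]⟩
  rw [← pow_succ', ← pow_mul, pow_mul', scalar_pow_four C hF hq (by decide) (hk hker)]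

theorem lift_unique (g : SU[4] →* G) (hk : g.ker ≤ Subgroup.center SU[4]) {x x' : SU[4]} (hx : x ^ 3 = 1) (hx' : x' ^ 3 = 1) (e : g x = g x') : x = x' := by
  obtain ⟨k, hkc, rfl⟩ := exists_center C hF hq g hk e
  have h3 : k ^ 3 = 1 := by
    rwa [(show Commute x' k from Subgroup.mem_center_iff.1 hkc x').mul_pow, hx', one_mul] at hx
  have h4 := scalar_pow_four C hF hq (by decide) hkc
  rw [pow_succ, h3, one_mul] at h4
  rw [h4, mul_one]

theorem lift_comm (g : SU[4] →* G) (hk : g.ker ≤ Subgroup.center SU[4]) {x y : SU[4]} (hx : x ^ 3 = 1) (hc : Commute (g y) (g x)) : Commute y x := by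
  have e : y * x * y⁻¹ = x := lift_unique C hF hq g hk (by rw [conj_pow, hx, mul_one, mul_inv_cancel]) hx
    (by rw [map_mul, map_mul, map_inv, hc.eq, mul_inv_cancel_right])
  exact mul_inv_eq_iff_eq_mul.1 e

theorem inv_lift (g : SU[4] →* G) (hk : g.ker ≤ Subgroup.center SU[4]) (a : SU[2] →* G) (ha : a.range ≤ g.range) :
    ∃ x y c : SU[4], g x = a (dq C hF hq) ∧ g y = a (wq C) ∧ x * y = c * (y * x) ∧ c * c = 1 ∧ g c = a (m1 C) ∧
      Commute c x ∧ Commute c y := by
  obtain ⟨x, hx⟩ := ha ⟨dq C hF hq, rfl⟩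
  obtain ⟨y, hy⟩ := ha ⟨wq C, rfl⟩
  set c := x * y * (y * x)⁻¹ with hc
  have hxy : x * y = c * (y * x) := by rw [hc, inv_mul_cancel_right]
  have gc : g c = a (m1 C) := by
    rw [hc, map_mul, map_mul, map_inv, map_mul, hx, hy, ← map_mul, ← map_mul, ← map_inv, ← map_mul,
      _root_.mul_inv_rev, show dq C hF hq * wq C * ((dq C hF hq)⁻¹ * (wq C)⁻¹) =
        dq C hF hq * wq C * (dq C hF hq)⁻¹ * (wq C)⁻¹ by group, dq_wq, mul_inv_cancel_right]
  obtain ⟨k, hk1, hxk⟩ := exists_center C hF hq g hk (u := x * x) (v := c)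
    (by rw [map_mul, hx, gc, ← map_mul, dq_sq])
  obtain ⟨k', hk2, hyk⟩ := exists_center C hF hq g hk (u := y * y) (v := c) (by rw [map_mul, hy, gc, ← map_mul, wq_sq])
  have cx : Commute c x := by
    have h1 : c = x * x * k⁻¹ := by rw [hxk, mul_inv_cancel_right]
    rw [h1]
    exact ((Commute.refl x).mul_left (Commute.refl x)).mul_left (Subgroup.mem_center_iff.1 (inv_mem hk1) x).symm
  have cy : Commute c y := by
    have h1 : c = y * y * k'⁻¹ := by rw [hyk, mul_inv_cancel_right]
    rw [h1]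
    exact ((Commute.refl y).mul_left (Commute.refl y)).mul_left (Subgroup.mem_center_iff.1 (inv_mem hk2) y).symm
  refine ⟨x, y, c, hx, hy, hxy, ?_, gc, cx, cy⟩
  have h2 : x * x * y = y * (x * x) := by
    rw [hxk, mul_assoc, ← Subgroup.mem_center_iff.1 hk1 y, ← mul_assoc, cy.eq, mul_assoc]
  have h3 : x * x * y = c * c * (y * (x * x)) := by
    rw [mul_assoc, hxy, ← mul_assoc x, cx.symm.eq, mul_assoc c, ← mul_assoc x, hxy]
    simp only [mul_assoc]
  rw [h2] at h3
  exact mul_right_cancel (h3.symm.trans (one_mul _).symm)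

theorem noncentral (g : SU[4] →* G) (hk : g.ker ≤ Subgroup.center SU[4]) {π : SU[3] →* G} (hπ : Function.Injective π) (h0 : (π.comp B0).range ≤ g.range)
    (h1 : (π.comp B1).range ≤ g.range) {m : SU[3]} (hm : m ≠ 1) {c : SU[4]} (hc : g c = π m) :
    c ∉ Subgroup.center SU[4] := by
  intro hcc
  have key : ∀ (o : ℕ) (ho : o + 2 ≤ 3) (s : SU[2]), (π.comp (emb o ho)).range ≤ g.range → Commute m (emb o ho s) := by
    intro o ho s hr
    obtain ⟨z, hz⟩ := hr ⟨s, rfl⟩
    refine hπ ?_
    rw [map_mul, map_mul, ← hc, show π (emb o ho s) = g z from hz.symm, ← map_mul, ← map_mul,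
      Subgroup.mem_center_iff.1 hcc z]
  have htop := gen_two C hF (show 3 ≤ q by omega) (show 2 ≤ 3 by decide) (Subgroup.centralizer {m}) fun i hi s => by
    rw [Subgroup.mem_centralizer_singleton_iff]
    obtain rfl | rfl : i = 0 ∨ i = 1 := by omega
    · exact (key 0 hi s h0).eq.symm
    · exact (key 1 hi s h1).eq.symm
  exact hm (center_three C hF hq (Subgroup.mem_center_iff.2 fun y =>
    (Subgroup.mem_centralizer_singleton_iff.1 (htop ▸ Subgroup.mem_top y))))

/-- Elements of order three above a block fix the fixed plane of the lifted involution. -/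
theorem fix_lifts (g : SU[4] →* G) (hk : g.ker ≤ Subgroup.center SU[4]) (a : SU[2] →* G) {x y c d : SU[4]} (hx : g x = a (dq C hF hq)) (hy : g y = a (wq C))
    (hxy : x * y = c * (y * x)) (hgc : g c = a (m1 C)) (cx : Commute c x) (cy : Commute c y) (hdc : Commute c d)
    (hd : ∀ t, g d * a t = a (dq C hF hq * t * (dq C hF hq)⁻¹) * g d)
    (p r : Fin 4) (hpr : p ≠ r) (hcfix : ∀ i, act c (bv i) = (if i = p ∨ i = r then (1 : F) else -1) • bv i)
    (hdp : act d (bv p) = -bv p) (hdr : act d (bv r) = bv r)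
    {T : SU[4]} (hT : T ^ 3 = 1) (hTU : g T ∈ a.range) : act T (bv p) = bv p ∧ act T (bv r) = bv r := by
  classical
  have h2ne := two_ne hF hq
  have h3 := three_zero hF hq
  obtain ⟨t, ht⟩ := hTU
  set ε : Fin 4 → F := fun i => if i = p ∨ i = r then 1 else -1 with hε
  have hen : ∀ i j, en c i j = if i = j then ε j else 0 := fun i j => by
    rw [← act_bv, hcfix, Pi.smul_apply, smul_eq_mul]
    by_cases e : i = j
    · subst e; simp [bv, hε]
    · simp [bv, e]
  have hmix : ∀ z : SU[4], Commute c z → ∀ i j, (i = p ∨ i = r) → ¬ (j = p ∨ j = r) → en z i j = 0 ∧ en z j i = 0 := by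
    intro z hz i j hi hj
    have key : ∀ k l, ε k * en z k l = en z k l * ε l := by
      intro k l
      have h1 : act (c * z) (bv l) k = act (z * c) (bv l) k := by rw [hz.eq]
      rw [act_mul, act_mul, hcfix, AutPSU.act_smul, Pi.smul_apply, act_bv, smul_eq_mul] at h1
      have h2 : act c (act z (bv l)) k = ε k * en z k l := by
        show (((c : Matrix.SpecialLinearGroup (Fin 4) F) : Matrix (Fin 4) (Fin 4) F) *ᵥ _) k = _
        rw [Matrix.mulVec, dotProduct, Finset.sum_eq_single k]
        · show en c k k * act z (bv l) k = _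
          rw [hen, if_pos rfl, act_bv]
        · intro b _ hb
          show en c k b * _ = 0
          rw [hen, if_neg (Ne.symm hb), zero_mul]
        · simp
      rw [h2] at h1
      rw [h1, mul_comm]
    have a1 := key i j
    have a2 := key j i
    simp only [hε, hi, hj, if_true, if_false] at a1 a2
    exact ⟨(mul_eq_zero.1 (show (2 : F) * en z i j = 0 by linear_combination a1)).resolve_left h2ne,
      (mul_eq_zero.1 (show (2 : F) * en z j i = 0 by linear_combination -a2)).resolve_left h2ne⟩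
  -- the representation
  have hmul : ∀ z z', Commute c z → rho (z * z') p r = rho z p r * rho z' p r := by
    intro z z' hz
    have entry : ∀ k l, (k = p ∨ k = r) → en (z * z') k l = en z k p * en z' p l + en z k r * en z' r l := by
      intro k l hk'
      show ((z.1 * z'.1 : Matrix.SpecialLinearGroup (Fin 4) F) : Matrix (Fin 4) (Fin 4) F) k l = _
      rw [Matrix.SpecialLinearGroup.coe_mul, Matrix.mul_apply, ← Finset.sum_subset (Finset.subset_univ {p, r}),
        Finset.sum_pair hpr]
      intro j _ hj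
      simp only [Finset.mem_insert, Finset.mem_singleton] at hj
      show en z k j * _ = 0
      rw [(hmix z hz k j hk' hj).1, zero_mul]
    ext i j
    fin_cases i <;> fin_cases j <;> simp [rho, Matrix.mul_apply, Fin.sum_univ_two, entry]
  have h1r : rho (1 : SU[4]) p r = 1 := by
    ext i j
    fin_cases i <;> fin_cases j <;> simp [rho, en, hpr, Ne.symm hpr]
  let Z : Subgroup SU[4] := Subgroup.centralizer {c}
  have memZ : ∀ {z}, z ∈ Z ↔ Commute c z := fun {z} => by
    rw [Subgroup.mem_centralizer_singleton_iff]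
    exact ⟨Eq.symm, Eq.symm⟩
  let ρ : Z →* (Matrix (Fin 2) (Fin 2) F)ˣ := MonoidHom.toHomUnits
    { toFun := fun z => rho z.1 p r
      map_one' := h1r
      map_mul' := fun z z' => hmul _ _ (memZ.1 z.2) }
  have ρv : ∀ z : Z, (ρ z : Matrix (Fin 2) (Fin 2) F) = rho z.1 p r := fun z => rfl
  have centZ : ∀ {k}, k ∈ Subgroup.center SU[4] → k ∈ Z := fun {k} hkc =>
    memZ.2 (Subgroup.mem_center_iff.1 hkc c)
  have centρ : ∀ {k}, k ∈ Subgroup.center SU[4] → ∃ μ : F, μ ≠ 0 ∧ rho k p r = μ • 1 := fun {k} hkc => by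
    obtain ⟨μ, hμ⟩ := (AutPSU.mem_center_iff C (by decide) hF k).1 hkc
    refine ⟨μ, fun e0 => ?_, ?_⟩
    · have := AutPSU.scalar_norm C (by decide) hμ
      simp [e0] at this
    · have e : ∀ i j, en k i j = if i = j then μ else 0 := fun i j => by
        rw [← act_bv, hμ, Pi.smul_apply, smul_eq_mul]
        by_cases e : i = j
        · subst e; simp [bv]
        · simp [bv, e]
      ext i j
      fin_cases i <;> fin_cases j <;> simp [rho, e, hpr, Ne.symm hpr]
  have hx' : x ∈ Z := memZ.2 cx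
  have hy' : y ∈ Z := memZ.2 cy
  set A := rho x p r with hA
  set B := rho y p r with hB
  have hcr : rho c p r = 1 := by
    ext i j
    fin_cases i <;> fin_cases j <;> simp [rho, hen, hε, hpr, Ne.symm hpr]
  have hAB : A * B = B * A := by
    rw [hA, hB, ← hmul x y cx, ← hmul y x cy, hxy, hmul c (y * x) (Commute.refl c), hcr, one_mul]
  -- elements over the quaternion group
  have hover : ∀ K : Subgroup (Matrix (Fin 2) (Fin 2) F)ˣ, ρ ⟨x, hx'⟩ ∈ K → ρ ⟨y, hy'⟩ ∈ K →
      (∀ u : (Matrix (Fin 2) (Fin 2) F)ˣ, (∃ μ : F, (u : Matrix (Fin 2) (Fin 2) F) = μ • 1) → u ∈ K) →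
      ∀ u : SU[2], u ^ 4 = 1 → ∀ z, g z = a u → ∃ hz : z ∈ Z, ρ ⟨z, hz⟩ ∈ K := by
    intro K hKx hKy hKs u hu z hz
    let S := (K.comap ρ).map Z.subtype
    have hSc : ∀ {k}, k ∈ Subgroup.center SU[4] → k ∈ S := fun {k} hkc =>
      ⟨⟨k, centZ hkc⟩, hKs _ (by obtain ⟨μ, -, hμ⟩ := centρ hkc; exact ⟨μ, hμ⟩), rfl⟩
    have hle : Subgroup.closure ({dq C hF hq, wq C} : Set SU[2]) ≤ (S.map g).comap a := by
      rw [Subgroup.closure_le]
      rintro _ (rfl | rfl)
      · exact ⟨x, ⟨⟨x, hx'⟩, hKx, rfl⟩, hx⟩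
      · exact ⟨y, ⟨⟨y, hy'⟩, hKy, rfl⟩, hy⟩
    obtain ⟨z', hz', ez⟩ := hle (mem_quat C hF hq hu)
    obtain ⟨k, hkc, rfl⟩ := exists_center C hF hq g hk (hz.trans ez.symm)
    obtain ⟨⟨w, hw⟩, hwK, e⟩ := mul_mem hz' (hSc hkc)
    change w = z' * k at e
    subst e
    exact ⟨hw, hwK⟩
  have hTc : Commute c T := lift_comm C hF hq g hk hT (by
    rw [hgc, ← ht]
    exact Commute.map (m1_central C t) a)
  have hT3 : rho T p r * rho T p r * rho T p r = 1 := by
    rw [← hmul _ _ hTc, ← hmul _ _ (hTc.mul_right hTc), ← pow_two, ← pow_succ, hT, h1r]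
  suffices hT1 : rho T p r = 1 by
    have col : ∀ i, (i = p ∨ i = r) → act T (bv i) = bv i := by
      intro i hi
      funext k
      rw [act_bv]
      have e00 := congrFun (congrFun hT1 0) 0
      have e01 := congrFun (congrFun hT1 0) 1
      have e10 := congrFun (congrFun hT1 1) 0
      have e11 := congrFun (congrFun hT1 1) 1
      simp [rho] at e00 e01 e10 e11
      by_cases hk' : k = p ∨ k = r
      · rcases hk' with rfl | rfl <;> rcases hi with rfl | rfl <;>
          simp [bv, hpr, Ne.symm hpr, e00, e01, e10, e11]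
      · rw [(hmix T hTc i k hi hk').2]
        have : k ≠ i := fun e => hk' (e ▸ hi)
        simp [bv, this]
    exact ⟨col p (Or.inl rfl), col r (Or.inr rfl)⟩
  have hconj4 : ∀ u v : SU[2], u ^ 4 = 1 → (v * u * v⁻¹) ^ 4 = 1 := fun u v hu => by
    rw [conj_pow, hu, mul_one, mul_inv_cancel]
  have hd4 : (dq C hF hq) ^ 4 = 1 := by rw [show 4 = 2 * 2 from rfl, pow_mul, show (dq C hF hq) ^ 2 = m1 C from (pow_two _).trans (dq_sq C hF hq), pow_two, m1_sq]
  have hw4 : (wq C) ^ 4 = 1 := by rw [show 4 = 2 * 2 from rfl, pow_mul, show (wq C) ^ 2 = m1 C from (pow_two _).trans (wq_sq C), pow_two, m1_sq]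
  by_cases hs : (∃ μ : F, A = μ • 1) ∧ ∃ μ : F, B = μ • 1
  · -- all scalar
    let K : Subgroup (Matrix (Fin 2) (Fin 2) F)ˣ :=
      { carrier := {u | ∃ μ : F, (u : Matrix (Fin 2) (Fin 2) F) = μ • 1}
        one_mem' := ⟨1, by simp⟩
        mul_mem' := by
          rintro u v ⟨μ, hμ⟩ ⟨ν, hν⟩
          exact ⟨μ * ν, by rw [Units.val_mul, hμ, hν, smul_mul_assoc, one_mul, smul_smul]⟩
        inv_mem' := by
          rintro u ⟨μ, hμ⟩
          refine ⟨μ⁻¹, ?_⟩
          have h1 : μ • ((u⁻¹ : (Matrix (Fin 2) (Fin 2) F)ˣ) : Matrix (Fin 2) (Fin 2) F) = 1 := by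
            rw [← one_mul ((u⁻¹ : (Matrix (Fin 2) (Fin 2) F)ˣ) : Matrix (Fin 2) (Fin 2) F), ← smul_mul_assoc, ← hμ,
              Units.mul_inv]
          have hμ0 : μ ≠ 0 := fun e0 => by simp [e0] at h1
          rw [← h1, smul_smul, inv_mul_cancel₀ hμ0, one_smul] }
    have hp' : (t⁻¹ * (dq C hF hq * t * (dq C hF hq)⁻¹)) ^ 4 = 1 := by
      have h1 : t⁻¹ * (dq C hF hq * t * (dq C hF hq)⁻¹) =
          t⁻¹ * dq C hF hq * t⁻¹⁻¹ * (dq C hF hq)⁻¹ := by group
      rw [h1]
      have hQ1 := mem_quat C hF hq (hconj4 _ t⁻¹ hd4)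
      have hQ2 := mem_quat C hF hq hd4
      have hsh : ∀ u : SU[2], u ∈ Subgroup.closure ({dq C hF hq, wq C} : Set SU[2]) → u ^ 4 = 1 := by
        intro u hu
        suffices (en u 0 1 = 0 ∨ en u 0 0 = 0) by
          have n1 : N C (en u 0 0) + N C (en u 0 1) = 1 := en_det C u
          rw [show N C (en u 0 0) = _ from N_four C hF hq _, show N C (en u 0 1) = _ from N_four C hF hq _] at n1
          have hu2 : u * u = 1 ∨ u * u = m1 C := by
            rcases this with e | e
            · rw [e] at n1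
              have h4 : (en u 0 0 * en u 0 0 - 1) * (en u 0 0 * en u 0 0 + 1) = 0 := by linear_combination n1
              rcases mul_eq_zero.1 h4 with h5 | h5
              · left
                refine ext_two C ?_ ?_
                · rw [en_mul2, e]; simp [en]; linear_combination h5
                · rw [en_mul2, e, (en_rel C u).2]; simp [en]
              · right
                refine ext_two C ?_ ?_
                · rw [en_mul2, e, (m1_spec C).1]; linear_combination h5
                · rw [en_mul2, e, (m1_spec C).2]; ring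
            · right
              rw [e] at n1
              refine ext_two C ?_ ?_
              · rw [en_mul2, e, (m1_spec C).1, (en_rel C u).1, C.apply_eq]
                rw [show en u 0 1 ^ q = en u 0 1 ^ 3 from congrArg (en u 0 1 ^ ·) hq]
                linear_combination -n1
              · rw [en_mul2, e, (m1_spec C).2, (en_rel C u).2, e, map_zero]; ring
          rcases hu2 with e | e
          · rw [show u ^ 4 = (u * u) * (u * u) by simp only [pow_succ, pow_zero, one_mul, mul_assoc], e, one_mul]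
          · rw [show u ^ 4 = (u * u) * (u * u) by simp only [pow_succ, pow_zero, one_mul, mul_assoc], e, m1_sq]
        obtain ⟨d1, d2, d3⟩ := dq_spec C hF hq
        obtain ⟨w1, w2⟩ := wq_spec C
        induction hu using Subgroup.closure_induction with
        | mem v hv =>
          rcases hv with rfl | rfl
          · exact Or.inl d1
          · exact Or.inr w1
        | one => left; simp [en]
        | mul v v' _ _ i1 i2 =>
          rw [en_mul2, en_mul2, (en_rel C v').1, (en_rel C v').2]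
          rcases i1 with e1 | e1 <;> rcases i2 with e2 | e2 <;> simp [e1, e2]
        | inv v _ i1 =>
          rw [(en_inv v).1, (en_inv v).2.1, (en_rel C v).2]
          rcases i1 with e1 | e1 <;> simp [e1]
      exact hsh _ (mul_mem hQ1 (inv_mem hQ2))
    obtain ⟨hz, hzK⟩ := hover K hs.1 hs.2 (fun u hu => hu) _ hp' (T⁻¹ * (d * T * d⁻¹)) (by
      rw [map_mul, map_mul, map_mul, map_inv, map_inv, ← ht, hd, mul_inv_cancel_right, ← map_inv, ← map_mul])
    obtain ⟨μ, hμ⟩ := hzK
    rw [ρv] at hμ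
    refine trivial_of_twist h3 (D := rho d p r) (μ := μ) ?_ hT3 ?_
    · have ed : ∀ i, en d i p = (if i = p then (-1 : F) else 0) ∧ en d i r = (if i = r then 1 else 0) := fun i => by
        constructor
        · rw [← act_bv, hdp, Pi.neg_apply]
          by_cases e : i = p
          · subst e; simp [bv]
          · simp [bv, e]
        · rw [← act_bv, hdr]
          by_cases e : i = r
          · subst e; simp [bv]
          · simp [bv, e]
      ext i j
      fin_cases i <;> fin_cases j <;> simp [rho, (ed p).1, (ed p).2, (ed r).1, (ed r).2, hpr, Ne.symm hpr]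
    · rw [← hmul _ _ hdc, show d * T = T * (T⁻¹ * (d * T * d⁻¹)) * d by group, hmul _ _ (hTc.mul_right (memZ.1 hz)),
        hmul _ _ hTc, hμ, mul_smul_comm, mul_one, smul_mul_assoc, ← hmul _ _ hTc]
  · -- a non-scalar element
    obtain ⟨X, p', hX, hp4, hXp, hp2⟩ : ∃ (X : Z) (p' : SU[2]),
        (¬ ∃ μ : F, rho X.1 p r = μ • (1 : Matrix (Fin 2) (Fin 2) F)) ∧ p' ^ 4 = 1 ∧ g X.1 = a p' ∧ p' * p' = m1 C := by
      by_cases h1 : ∃ μ : F, A = μ • 1
      · exact ⟨⟨y, hy'⟩, wq C, fun h2 => hs ⟨h1, h2⟩, hw4, hy, wq_sq C⟩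
      · exact ⟨⟨x, hx'⟩, dq C hF hq, h1, hd4, hx, dq_sq C hF hq⟩
    have cX : Commute c X.1 := memZ.1 X.2
    obtain ⟨k, hkc, hXX⟩ := exists_center C hF hq g hk (u := X.1 * X.1) (v := c)
      (by rw [map_mul, hXp, hgc, ← map_mul, hp2])
    obtain ⟨κ, hκ0, hκ⟩ := centρ hkc
    have hsq : rho X.1 p r * rho X.1 p r = κ • 1 := by
      rw [← hmul _ _ cX, hXX, hmul _ _ (Commute.refl c), hcr, one_mul, hκ]
    let K := Subgroup.centralizer ({ρ X} : Set (Matrix (Fin 2) (Fin 2) F)ˣ)
    have comK : ∀ z : Z, rho z.1 p r * rho X.1 p r = rho X.1 p r * rho z.1 p r → ρ z ∈ K := fun z h =>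
      Subgroup.mem_centralizer_singleton_iff.2 (Units.ext h)
    have hxK : ρ ⟨x, hx'⟩ ∈ K ∧ ρ ⟨y, hy'⟩ ∈ K := by
      obtain ⟨α, β, hB'⟩ | ⟨α, β, hA'⟩ : (∃ α β : F, B = α • (1 : Matrix (Fin 2) (Fin 2) F) + β • A) ∨
          ∃ α β : F, A = α • (1 : Matrix (Fin 2) (Fin 2) F) + β • B := by
        by_cases h1 : ∃ μ : F, A = μ • 1
        · exact Or.inr (comm_form (fun h2 => hs ⟨h1, h2⟩) hAB)
        · exact Or.inl (comm_form h1 hAB.symm)
      all_goals
        obtain ⟨hux, huy⟩ : (rho x p r * rho X.1 p r = rho X.1 p r * rho x p r) ∧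
            (rho y p r * rho X.1 p r = rho X.1 p r * rho y p r) := by
          have hXX' : ρ X ∈ Subgroup.closure ({ρ ⟨x, hx'⟩, ρ ⟨y, hy'⟩} : Set (Matrix (Fin 2) (Fin 2) F)ˣ) ∨ True :=
            Or.inr trivial
          obtain ⟨hzz, hzK⟩ := hover (Subgroup.centralizer ({ρ ⟨x, hx'⟩, ρ ⟨y, hy'⟩} : Set (Matrix (Fin 2) (Fin 2) F)ˣ))
            (Subgroup.mem_centralizer_iff.2 (by
              rintro _ (rfl | rfl)
              · rfl
              · exact Units.ext hAB.symm))
            (Subgroup.mem_centralizer_iff.2 (by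
              rintro _ (rfl | rfl)
              · exact Units.ext hAB
              · rfl))
            (fun u ⟨μ, hμ⟩ => Subgroup.mem_centralizer_iff.2 fun v _ => Units.ext (by
              rw [Units.val_mul, Units.val_mul, hμ, smul_mul_assoc, mul_smul_comm, one_mul, mul_one]))
            p' hp4 X.1 hXp
          exact ⟨congrArg Units.val (Subgroup.mem_centralizer_iff.1 hzK _ (Or.inl rfl)),
            congrArg Units.val (Subgroup.mem_centralizer_iff.1 hzK _ (Or.inr rfl))⟩
        exact ⟨comK _ hux, comK _ huy⟩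
    obtain ⟨hz, hzK⟩ := hover K hxK.1 hxK.2 (fun u ⟨μ, hμ⟩ => Subgroup.mem_centralizer_singleton_iff.2 (Units.ext (by
      rw [Units.val_mul, Units.val_mul, hμ, smul_mul_assoc, mul_smul_comm, one_mul, mul_one])))
      _ (hconj4 p' t hp4) (T * X.1 * T⁻¹) (by rw [map_mul, map_mul, map_inv, ← ht, hXp, ← map_inv, ← map_mul, ← map_mul])
    refine trivial_of_conj h3 hκ0 hX hsq hT3 (A' := rho (T * X.1 * T⁻¹) p r) ?_ ?_
    · exact congrArg Units.val (Subgroup.mem_centralizer_singleton_iff.1 hzK)
    · rw [← hmul _ _ hTc, ← hmul _ _ (memZ.1 hz), inv_mul_cancel_right]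

theorem range_eq_lifts {g' : SU[4] →* G} (hk' : g'.ker ≤ Subgroup.center SU[4]) (a : SU[2] →* G)
    (ha : Function.Injective a) (hr : a.range ≤ g'.range) (o : ℕ) (ho : o + 2 ≤ 4)
    (hfix : ∀ T : SU[4], T ^ 3 = 1 → g' T ∈ a.range → ∀ i : Fin 4, (i : ℕ) < o ∨ o + 2 ≤ i → act T (bv i) = bv i) :
    lifts g' a.range = (emb o ho : SU[2] →* SU[4]).range := by
  have hle : lifts g' a.range ≤ (emb o ho : SU[2] →* SU[4]).range :=
    (Subgroup.closure_le _).2 fun T hT => emb_range o ho C T (hfix T hT.1 hT.2)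
  refine Subgroup.eq_of_le_of_card_ge hle ?_
  have hmap : a.range ≤ (lifts g' a.range).map g' := by
    have hgen : a.range = Subgroup.closure (a '' {s : SU[2] | s ^ 3 = 1}) := by
      rw [MonoidHom.range_eq_map, ← gen_cube C hF hq, MonoidHom.map_closure]
    refine hgen.le.trans ((Subgroup.closure_le _).2 ?_)
    rintro _ ⟨s, hs, rfl⟩
    have hs' : a s ^ 3 = 1 := by rw [← map_pow, show s ^ 3 = 1 from hs, map_one]
    obtain ⟨x, hx, hgx⟩ := lift_exists C hF hq g' hk' (hr ⟨s, rfl⟩) hs'
    exact ⟨x, Subgroup.subset_closure ⟨hx, by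
      rw [hgx]
      exact ⟨s, rfl⟩⟩, hgx⟩
  haveI : Finite ((lifts g' a.range).map g') :=
    Finite.of_surjective _ (MonoidHom.subgroupMap_surjective g' (lifts g' a.range))
  calc Nat.card (emb o ho : SU[2] →* SU[4]).range = Nat.card SU[2] :=
        (Nat.card_congr (MonoidHom.ofInjective (emb_injective o ho)).toEquiv).symm
    _ = Nat.card a.range := Nat.card_congr (MonoidHom.ofInjective ha).toEquiv
    _ ≤ Nat.card ((lifts g' a.range).map g') := Subgroup.card_le_of_le hmap
    _ ≤ Nat.card (lifts g' a.range) := Nat.le_of_dvd Nat.card_pos (Subgroup.card_map_dvd _ g')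

end Cfsg.Agent.Phan
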