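import Cfsg.Agent.Lib.Phan.ThreeQuad
import Cfsg.Agent.Lib.Phan.Main

/-!
Weak Phan systems of unitary type over the field with nine elements.
-/

set_option autoImplicit false
set_option linter.unusedSectionVars false
set_option linter.unusedSimpArgs false
set_option linter.style.show false
set_option maxHeartbeats 1000000

namespace Cfsg.Agent.Phan

open Matrix
open Cfsg.Agent.AutPSU (Conj h act act_mul act_one act_inv_act act_pres ext_act suConj)

variable {F : Type*} [Field F] [Fintype F] {q : ℕ}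

local notation "SU[" n "]" => Cfsg.SU n F q
local notation "B0" => emb (F := F) (q := q) (k := 2) (n := 3) 0 (by decide)
local notation "B1" => emb (F := F) (q := q) (k := 2) (n := 3) 1 (by decide)
local notation "E0" => emb (F := F) (q := q) (k := 2) (n := 4) 0 (by decide)
local notation "E1" => emb (F := F) (q := q) (k := 2) (n := 4) 1 (by decide)
local notation "E2" => emb (F := F) (q := q) (k := 2) (n := 4) 2 (by decide)
local notation "T0" => emb (F := F) (q := q) (k := 3) (n := 4) 0 (by decide)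
local notation "T1" => emb (F := F) (q := q) (k := 3) (n := 4) 1 (by decide)

variable (C : Conj F q) (hF : Fintype.card F = q ^ 2) (hq : q = 3)
include C hF hq

theorem realise_three (α : SU[2] ≃* SU[2]) (hα : ∀ s ∈ dTor F q, α s ∈ dTor F q) :
    ∃ (d : Fin 2 → {a : F // N C a = 1}) (τ : F ≃+* F),
      ((∀ x, τ x = x) ∨ ∀ x, τ x = C.σ x) ∧ ∀ s, α s = suConj (dgU C d) τ s := by
  obtain ⟨d1, d2, d3⟩ := dq_spec C hF hq
  obtain ⟨w0, w1⟩ := wq_spec C
  have h2 := two_ne hF hq
  set i := en (dq C hF hq) 0 0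
  have hm : α (m1 C) = m1 C := (invo_two C hF hq (by rw [← map_mul, m1_sq, map_one])).resolve_left fun e =>
    m1_ne C hF hq (α.injective (e.trans (map_one α).symm))
  set a := α (dq C hF hq) with ha
  have a01 : en a 0 1 = 0 := (mem_dTor C).1 (hα _ ((mem_dTor C).2 d1))
  have a00 : en a 0 0 * en a 0 0 = -1 := by
    have h1 : en (a * a) 0 0 = -1 := by rw [ha, ← map_mul, dq_sq, hm, (m1_spec C).1]
    rwa [en_mul2, a01, zero_mul, add_zero] at h1
  obtain ⟨τ, hτc, hτ⟩ : ∃ τ : F ≃+* F, ((∀ x, τ x = x) ∨ ∀ x, τ x = C.σ x) ∧ τ i = en a 0 0 := by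
    have : (en a 0 0 - i) * (en a 0 0 + i) = 0 := by linear_combination a00 - d3
    rcases mul_eq_zero.1 this with e | e
    · exact ⟨RingEquiv.refl F, Or.inl fun x => rfl, (sub_eq_zero.1 e).symm⟩
    · refine ⟨RingEquiv.ofBijective C.σ.toRingHom (Function.Involutive.bijective C.invol), Or.inr fun x => rfl, ?_⟩
      show C.σ i = _
      rw [d2]; linear_combination -e
  set b := α (wq C) with hb
  have hab : a * b = m1 C * b * a := by
    rw [ha, hb, ← hm, ← map_mul, ← map_mul, ← map_mul, ← dq_wq C hF hq, inv_mul_cancel_right]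
  have b00 : en b 0 0 = 0 := by
    have h1 : en (a * b) 0 0 = en (m1 C * b * a) 0 0 := by rw [hab]
    rw [en_mul2, en_mul2 (m1 C * b), en_mul2, en_mul2, (en_rel C a).1, (m1_spec C).1, (m1_spec C).2, a01, map_zero] at h1
    exact (mul_eq_zero.1 (show (2 * en a 0 0) * en b 0 0 = 0 by linear_combination h1)).resolve_left
      (mul_ne_zero h2 fun e => by rw [e, mul_zero] at a00; exact neg_ne_zero.2 one_ne_zero a00.symm)
  have bN : N C (en b 0 1) = 1 := by
    have := en_det C b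
    rwa [b00, show N C (0 : F) = 0 by simp [N], zero_add] at this
  let one : {a : F // N C a = 1} := ⟨1, by simp [N]⟩
  refine ⟨![⟨en b 0 1, bN⟩, one], τ, hτc, ?_⟩
  set g := dgU C ![(⟨en b 0 1, bN⟩ : {a : F // N C a = 1}), one] with hg
  have rd : suConj g τ (dq C hF hq) = a := by
    have h0 := en_suConj C ![(⟨en b 0 1, bN⟩ : {a : F // N C a = 1}), one] τ (dq C hF hq) 0 0
    have h1 := en_suConj C ![(⟨en b 0 1, bN⟩ : {a : F // N C a = 1}), one] τ (dq C hF hq) 0 1
    simp [one, d1] at h0 h1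
    have hbne : en b 0 1 ≠ 0 := fun e => by rw [e] at bN; simp [N] at bN
    refine ext_two C ?_ (h1.trans a01.symm)
    exact mul_right_cancel₀ hbne (h0.trans (by rw [hτ, mul_comm]))
  have rw' : suConj g τ (wq C) = b := by
    have h0 := en_suConj C ![(⟨en b 0 1, bN⟩ : {a : F // N C a = 1}), one] τ (wq C) 0 0
    have h1 := en_suConj C ![(⟨en b 0 1, bN⟩ : {a : F // N C a = 1}), one] τ (wq C) 0 1
    simp [one, w0, w1] at h0 h1
    refine ext_two C ?_ h1
    rw [b00]
    rcases h0 with h0 | h0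
    · exact h0
    · exact absurd h0 (fun e => by rw [e] at bN; simp [N] at bN)
  set R : MulAut SU[2] := AutPSU.suAut g τ with hR
  set γ : MulAut SU[2] := R⁻¹ * α with hγ
  have γd : γ (dq C hF hq) = dq C hF hq := by
    show R.symm a = _
    rw [MulEquiv.symm_apply_eq]; exact rd.symm
  have γw : γ (wq C) = wq C := by
    show R.symm b = _
    rw [MulEquiv.symm_apply_eq]; exact rw'.symm
  have γQ : ∀ u : SU[2], u ^ 4 = 1 → γ u = u := fun u hu => by
    have : Subgroup.closure ({dq C hF hq, wq C} : Set SU[2]) ≤ γ.toMonoidHom.eqLocus (MonoidHom.id _) :=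
      (Subgroup.closure_le _).2 (by rintro _ (rfl | rfl); exacts [γd, γw])
    exact this (mem_quat C hF hq hu)
  intro s
  suffices γ s = s by
    have h' : R (γ s) = α s := R.apply_symm_apply (α s)
    rw [this] at h'
    exact h'.symm
  obtain ⟨u, hu⟩ : ∃ u, u = s⁻¹ * γ s := ⟨_, rfl⟩
  have hcom : ∀ x : SU[2], x ^ 4 = 1 → Commute u x := by
    intro x hx
    have h1 : γ (s * x * s⁻¹) = s * x * s⁻¹ := γQ _ (by rw [conj_pow, hx, mul_one, mul_inv_cancel])
    rw [map_mul, map_mul, map_inv, γQ x hx, mul_inv_eq_iff_eq_mul] at h1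
    show u * x = x * u
    rw [hu]
    rw [mul_assoc, h1]
    group
  have hd4 : (dq C hF hq) ^ 4 = 1 := by
    rw [show 4 = 2 * 2 from rfl, pow_mul, show (dq C hF hq) ^ 2 = m1 C from (pow_two _).trans (dq_sq C hF hq), pow_two,
      m1_sq]
  have hw4 : (wq C) ^ 4 = 1 := by
    rw [show 4 = 2 * 2 from rfl, pow_mul, show (wq C) ^ 2 = m1 C from (pow_two _).trans (wq_sq C), pow_two, m1_sq]
  have u01 : en u 0 1 = 0 := by
    have h1 := (dq_conj C hF hq u).2
    rw [← (hcom _ hd4).eq, mul_inv_cancel_right] at h1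
    exact (mul_eq_zero.1 (show (2 : F) * en u 0 1 = 0 by linear_combination h1)).resolve_left h2
  have u00 : C.σ (en u 0 0) = en u 0 0 := by
    have h1 : en (u * wq C) 0 1 = en (wq C * u) 0 1 := by rw [(hcom _ hw4).eq]
    rw [en_mul2, en_mul2, u01, w0, w1, (en_rel C u).2] at h1
    simp at h1
    exact h1.symm
  have uc : u = 1 ∨ u = m1 C := by
    have := en_det C u
    rw [u01, show N C (0 : F) = 0 by simp [N], add_zero, N, u00] at this
    rcases mul_self_eq_one_iff.1 this with e | e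
    · exact Or.inl (ext_two C (by simpa [en] using e) (by simpa [en] using u01))
    · exact Or.inr (ext_two C (e.trans (m1_spec C).1.symm) (u01.trans (m1_spec C).2.symm))
  rcases uc with e | e
  · rw [hu] at e
    exact (inv_mul_eq_one.1 e).symm
  · exfalso
    have hs3 : γ (s ^ 3) = s ^ 3 := γQ _ (by rw [← pow_mul]; exact pow_twelve C hF hq s)
    rw [map_pow, show γ s = s * m1 C by rw [← e, hu, mul_inv_cancel_left],
      (show Commute s (m1 C) from (m1_central C s).symm).mul_pow, mul_eq_left] at hs3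
    rw [pow_succ, pow_two, m1_sq, one_mul] at hs3
    exact m1_ne C hF hq hs3

/-- An automorphism preserving both blocks is diagonal semilinear. -/
theorem block_aut (δ : MulAut SU[3]) (h0 : (B0).range.map δ.toMonoidHom = (B0).range)
    (h1 : (B1).range.map δ.toMonoidHom = (B1).range) :
    ∃ (d r : Fin 3 → {a : F // N C a = 1}) (τ : F ≃+* F),
      ∀ s, δ s = suConj (dgU C d) τ (suConj (dgU C r) 1 s) := by
  classical
  let one : {a : F // N C a = 1} := ⟨1, by simp [N]⟩
  have autOf : ∀ (δ : MulAut SU[3]) (o : ℕ) (ho : o + 2 ≤ 3),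
      (emb o ho : SU[2] →* SU[3]).range.map δ.toMonoidHom = (emb o ho : SU[2] →* SU[3]).range →
      ∃ α : SU[2] ≃* SU[2], ∀ s, δ (emb o ho s) = emb o ho (α s) := by
    intro δ o ho hm
    let e := (MonoidHom.ofInjective (emb_injective (F := F) (q := q) o ho))
    refine ⟨e.trans ((δ.subgroupMap _).trans ((MulEquiv.subgroupCongr hm).trans e.symm)), fun s => ?_⟩
    exact (congrArg Subtype.val (e.apply_symm_apply ((MulEquiv.subgroupCongr hm) (δ.subgroupMap _ (e s))))).symm
  obtain ⟨α0, hα0⟩ := autOf δ 0 (by decide) h0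
  have hid : Good (MonoidHom.id SU[3]) (B0).range (B1).range :=
    ⟨fun x hx => by rw [show x = 1 from hx]; exact one_mem _, rfl, rfl⟩
  have hα0T : ∀ s ∈ dTor F q, α0 s ∈ dTor F q := fun s hs => torus_of_normalise C hF hid fun y hy => by
    rw [← h1] at hy
    obtain ⟨_, ⟨t, rfl⟩, rfl⟩ := hy
    obtain ⟨u, hu, -, -⟩ := conj_torus C (t := t) hs
    show B0 (α0 s) * δ (B1 t) * (B0 (α0 s))⁻¹ ∈ _
    rw [← hα0, ← map_inv, ← map_mul, ← map_mul, hu, ← h1]
    exact ⟨_, ⟨u, rfl⟩, rfl⟩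
  obtain ⟨d, τ, -, hd⟩ := realise_three C hF hq α0 hα0T
  set d3 : Fin 3 → {a : F // N C a = 1} := ![d 0, d 1, one] with hd3
  let β : MulAut SU[3] := AutPSU.suAut (dgU C d3) τ
  have hβ0 : ∀ s, β (B0 s) = B0 (α0 s) := fun s => by
    show suConj (dgU C d3) τ (B0 s) = _
    rw [suConj_emb C 0 _ d3 τ s, hd s,
      show (fun a : Fin 2 => d3 (blk (n := 3) 0 (by decide) (.inl a))) = d from funext fun a => by
        fin_cases a
        · show d3 0 = d 0; simp [d3]
        · show d3 1 = d 1; simp [d3]]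
  have hβ1 : (B1).range.map β.toMonoidHom = (B1).range := by
    refine Subgroup.eq_of_le_of_card_ge ?_ (le_of_eq (Subgroup.card_map_of_injective β.injective).symm)
    rintro _ ⟨_, ⟨t, rfl⟩, rfl⟩
    exact ⟨_, (suConj_emb C 1 _ d3 τ t).symm⟩
  let δ' : MulAut SU[3] := β⁻¹ * δ
  have hδ0 : ∀ s, δ' (B0 s) = B0 s := fun s => by
    show β.symm (δ (B0 s)) = _
    rw [MulEquiv.symm_apply_eq, hα0, hβ0]
  have hδ1 : (B1).range.map δ'.toMonoidHom = (B1).range := by
    refine Subgroup.eq_of_le_of_card_ge ?_ (le_of_eq (Subgroup.card_map_of_injective δ'.injective).symm)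
    rintro _ ⟨x, hx, rfl⟩
    show β.symm (δ x) ∈ _
    have : δ x ∈ (B1).range.map β.toMonoidHom := by rw [hβ1, ← h1]; exact ⟨x, hx, rfl⟩
    obtain ⟨y, hy, e⟩ := this
    rw [show β.symm (δ x) = y by rw [MulEquiv.symm_apply_eq]; exact e.symm]
    exact hy
  obtain ⟨α1, hα1⟩ := autOf δ' 1 (by decide) hδ1
  obtain ⟨i1, i2, i3⟩ := dq_spec C hF hq
  set i := en (dq C hF hq) 0 0 with hi
  have h2 := two_ne hF hq
  have hi0 : i ≠ 0 := fun e => by rw [e] at i3; simp at i3
  have hcomm : ∀ t u : SU[2], B0 (dq C hF hq) * B1 t * (B0 (dq C hF hq))⁻¹ = B1 u →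
      B0 (dq C hF hq) * B1 (α1 t) * (B0 (dq C hF hq))⁻¹ = B1 (α1 u) := fun t u e => by
    rw [← hα1, ← hα1, ← hδ0 (dq C hF hq), ← map_inv, ← map_mul, ← map_mul, e]
  have hα1T : ∀ s ∈ dTor F q, α1 s ∈ dTor F q := by
    intro s hs
    obtain ⟨u, hu, u0, u1⟩ := conj_torus C (d := dq C hF hq) (t := s) ((mem_dTor C).2 i1)
    have hus : u = s := ext_two C u0 (by rw [u1, (mem_dTor C).1 hs, mul_zero])
    rw [hus] at hu
    obtain ⟨v, hv, v0, v1⟩ := conj_torus C (d := dq C hF hq) (t := α1 s) ((mem_dTor C).2 i1)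
    have hvs : v = α1 s := emb_injective 1 (by decide) (hv.symm.trans (hcomm s s hu))
    rw [hvs, ← hi, i2] at v1
    rw [mem_dTor C]
    have hne : (1 : F) + i ≠ 0 := fun e => h2 (by
      have e' : i = -1 := by linear_combination e
      rw [e'] at i3; linear_combination i3)
    exact (mul_eq_zero.1 (show (1 + i) * en (α1 s) 0 1 = 0 by linear_combination v1)).resolve_left hne
  obtain ⟨d', τ', hτ', hd'⟩ := realise_three C hF hq α1 hα1T
  have hne : ∀ x : {a : F // N C a = 1}, x.1 ≠ 0 := fun x e => by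
    have := x.2
    rw [e] at this
    simp [N] at this
  have hτ1 : ∀ x, τ' x = x := by
    rcases hτ' with h | h
    · exact h
    · exfalso
      obtain ⟨u, hu, u0, u1⟩ := conj_torus C (d := dq C hF hq) (t := wq C) ((mem_dTor C).2 i1)
      obtain ⟨v, hv, v0, v1⟩ := conj_torus C (d := dq C hF hq) (t := α1 (wq C)) ((mem_dTor C).2 i1)
      have hvs : v = α1 u := emb_injective 1 (by decide) (hv.symm.trans (hcomm _ _ hu))
      rw [hvs, hd', hd', ← hi, i2] at v1
      rw [(wq_spec C).2, mul_one, ← hi, i2] at u1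
      have e1 := en_suConj C d' τ' u 0 1
      have e2 := en_suConj C d' τ' (wq C) 0 1
      rw [u1, h, map_neg, i2, neg_neg] at e1
      rw [(wq_spec C).2, map_one, mul_one] at e2
      have : (2 * i) * (d' 0).1 = 0 := by linear_combination (d' 1).1 * v1 - i * e2 - e1
      exact hne _ ((mul_eq_zero.1 this).resolve_left (mul_ne_zero h2 hi0))
  set r : Fin 3 → {a : F // N C a = 1} := ![one, one, ⟨(d' 1).1 * (d' 0).1⁻¹, by
    rw [N_mul, (d' 1).2, one_mul]
    have := (d' 0).2
    rw [N] at this ⊢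
    rw [map_inv₀, ← _root_.mul_inv_rev, mul_comm (C.σ _), this, inv_one]⟩] with hr
  refine ⟨d3, r, τ, fun s => ?_⟩
  let ρ : SU[3] →* SU[3] := suConj (dgU C r) 1
  have htop := gen_two C hF (show 3 ≤ q by omega) (show 2 ≤ 3 by decide) (δ'.toMonoidHom.eqLocus ρ) fun o ho t => by
    show δ' (emb o ho t) = suConj (dgU C r) 1 (emb o ho t)
    obtain rfl | rfl : o = 0 ∨ o = 1 := by omega
    · rw [hδ0, suConj_emb, show (fun a : Fin 2 => r (blk (n := 3) 0 ho (.inl a))) = fun _ => one from funext fun a => by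
          fin_cases a
          · show r 0 = one; simp [r]
          · show r 1 = one; simp [r]]
      congr 1
      refine ext_two C ?_ ?_
      · have h := en_suConj C (fun _ : Fin 2 => one) 1 t 0 0
        simp [one] at h
        exact h.symm
      · have h := en_suConj C (fun _ : Fin 2 => one) 1 t 0 1
        simp [one] at h
        exact h.symm
    · rw [hα1, suConj_emb, hd', show (fun a : Fin 2 => r (blk (n := 3) 1 ho (.inl a))) = ![one, r 2] from
        funext fun a => by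
          fin_cases a
          · show r 1 = one; simp [r]
          · show r 2 = r 2; rfl]
      congr 1
      refine ext_two C ?_ ?_
      · have h := en_suConj C ![one, r 2] 1 t 0 0
        have g := en_suConj C d' τ' t 0 0
        rw [hτ1] at g
        simp [one] at h
        rw [mul_comm] at g
        exact (mul_left_cancel₀ (hne _) g).trans h.symm
      · have h := en_suConj C ![one, r 2] 1 t 0 1
        have g := en_suConj C d' τ' t 0 1
        rw [hτ1] at g
        have h' : en (suConj (dgU C ![one, r 2]) 1 t) 0 1 * ((d' 1).1 * (d' 0).1⁻¹) = 1 * en t 0 1 := h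
        clear h
        rename' h' => h
        have := hne (d' 0)
        have := hne (d' 1)
        field_simp at h
        refine mul_right_cancel₀ (hne (d' 1)) (g.trans ?_)
        linear_combination -h
  have h' : δ' s = ρ s := htop.ge (Subgroup.mem_top s)
  show δ s = β (ρ s)
  rw [← h']
  exact (β.apply_symm_apply _).symm

theorem phan_hom_four {G : Type*} [Group G] {n : ℕ} (hn : 4 ≤ n) (π : ℕ → SU[3] →* G) (u : ℕ → SU[2] →* G)
    (f4 : SU[4] →* G) (hf40 : ∀ s, f4 (T0 s) = π 0 s) (hf41 : ∀ s, f4 (T1 s) = π 1 s)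
    (h0 : ∀ i, i + 3 ≤ n → ∀ s, π i (emb 0 (show 0 + 2 ≤ 3 by omega) s) = u i s)
    (h1 : ∀ i, i + 3 ≤ n → ∀ s, π i (emb 1 (show 1 + 2 ≤ 3 by omega) s) = u (i + 1) s)
    (hc : ∀ i j, i + 2 ≤ j → j + 2 ≤ n → ∀ s t, Commute (u i s) (u j t)) :
    ∃ f : SU[n] →* G, ∀ i (hi : i + 3 ≤ n) (s : SU[3]), f (emb i hi s) = π i s := by
  suffices H : ∀ m, 4 ≤ m → m ≤ n →
      ∃ f : SU[m] →* G, ∀ i (hi : i + 3 ≤ m) (s : SU[3]), f (emb i hi s) = π i s from H n hn le_rfl
  intro m hm
  induction m, hm using Nat.le_induction with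
  | base =>
    intro _
    refine ⟨f4, fun i hi s => ?_⟩
    obtain rfl | rfl : i = 0 ∨ i = 1 := by omega
    exacts [hf40 s, hf41 s]
  | succ m hm ih =>
    intro hmn
    obtain ⟨f0, hf0⟩ := ih (by omega)
    have hcompat : ∀ s : SU[2], f0 (emb (m - 2) (show m - 2 + 2 ≤ m by omega) s) =
        π (m - 2) (emb 0 (show 0 + 2 ≤ 3 by omega) s) := fun s => by
      rw [← emb_emb (m - 3) (show m - 3 + 3 ≤ m by omega) 1 (show 1 + 2 ≤ 3 by omega) (m - 2) _ (by omega) s,
        hf0, h1 _ (by omega), h0 _ (by omega), show m - 3 + 1 = m - 2 by omega]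
    have hcomm : ∀ (s : SU[2]) (t : SU[m - 1]), Commute (π (m - 2) (emb 1 (show 1 + 2 ≤ 3 by omega) s))
        (f0 (emb 0 (show 0 + (m - 1) ≤ m by omega) t)) := by
      intro s t
      set a := π (m - 2) (emb 1 (show 1 + 2 ≤ 3 by omega) s) with ha
      have htop := gen_two C hF (show 3 ≤ q by omega) (show 2 ≤ m - 1 by omega)
        ((Subgroup.centralizer {a}).comap (f0.comp (emb 0 (show 0 + (m - 1) ≤ m by omega)))) fun i hi r => by
        rw [Subgroup.mem_comap, MonoidHom.comp_apply, Subgroup.mem_centralizer_singleton_iff,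
          emb_emb 0 _ i hi i (by omega) (by omega) r,
          ← emb_emb i (show i + 3 ≤ m by omega) 0 (show 0 + 2 ≤ 3 by omega) i _ (by omega) r, hf0, h0 i (by omega),
          ha, h1 _ (by omega), show m - 2 + 1 = m - 1 by omega]
        exact (hc i (m - 1) (by omega) (by omega) r s).eq
      have := Subgroup.mem_comap.1 (htop ▸ Subgroup.mem_top t)
      rw [Subgroup.mem_centralizer_singleton_iff] at this
      exact this.symm
    obtain ⟨f, hfE0, hfE1⟩ := stage C hF (by omega : 3 ≤ m) f0 (π (m - 2)) (by omega) (Or.inr (by omega)) hcompat hcomm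
    refine ⟨f, fun i hi s => ?_⟩
    by_cases hlast : i + 3 ≤ m
    · rw [← emb_emb 0 (show 0 + m ≤ m + 1 by omega) i hlast i hi (by omega) s]
      exact (hfE0 _).trans (hf0 i hlast s)
    · obtain rfl : i = m - 2 := by omega
      exact hfE1 s

theorem ker_central {G : Type*} [Group G] (g : SU[4] →* G) {x y : G} (hx : x ∈ g.range) (hy : y ∈ g.range)
    (hxy : x * y ≠ y * x) : g.ker ≤ Subgroup.center SU[4] := by
  have hs : IsSimpleGroup (Cfsg.PSU 4 F q) := by
    obtain ⟨σ, -, hf, hq'⟩ := UnitaryStd.exists_setup (n := 4) hF (by omega)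
    exact UnitaryStd.isSimpleGroup_psu hf (by decide) (fun h => absurd h (by decide))
  have hn : (g.ker.map (QuotientGroup.mk' (Subgroup.center SU[4]))).Normal :=
    Subgroup.Normal.map inferInstance _ (QuotientGroup.mk'_surjective _)
  rcases hn.eq_bot_or_eq_top with e | e
  · intro k hk
    have : (QuotientGroup.mk' (Subgroup.center SU[4])) k ∈ (⊥ : Subgroup (Cfsg.PSU 4 F q)) := e ▸ ⟨k, hk, rfl⟩
    exact (QuotientGroup.eq_one_iff k).1 (Subgroup.mem_bot.1 this)
  · exfalso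
    have key : ∀ u : SU[4], ∃ z ∈ Subgroup.center SU[4], g u = g z := fun u => by
      obtain ⟨k, hk, hku⟩ : (QuotientGroup.mk' (Subgroup.center SU[4])) u ∈
          g.ker.map (QuotientGroup.mk' (Subgroup.center SU[4])) := e ▸ Subgroup.mem_top _
      exact ⟨k⁻¹ * u, QuotientGroup.eq.1 hku, by rw [map_mul, map_inv, MonoidHom.mem_ker.1 hk, inv_one, one_mul]⟩
    obtain ⟨u, rfl⟩ := hx
    obtain ⟨v, rfl⟩ := hy
    obtain ⟨z, hz, ez⟩ := key u
    obtain ⟨z', -, ez'⟩ := key v
    exact hxy (by rw [ez, ez', ← map_mul, ← map_mul, Subgroup.mem_center_iff.1 hz z'])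

theorem block_inj {G : Type*} [Group G] {f : SU[4] →* G} (hf : f.ker ≤ Subgroup.center SU[4]) {k : ℕ} (o : ℕ)
    (ho : o + k ≤ 4) (hk : k < 4) : Function.Injective (f.comp (emb o ho : SU[k] →* SU[4])) := by
  refine (injective_iff_map_eq_one _).2 fun s hs => emb_injective o ho ?_
  obtain ⟨c, hc⟩ := (AutPSU.mem_center_iff C (by decide) hF _).1 (hf hs)
  obtain ⟨i, hi⟩ : ∃ i : Fin 4, (i : ℕ) < o ∨ o + k ≤ i := by
    by_cases h : o = 0
    · exact ⟨3, Or.inr (by simp; omega)⟩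
    · exact ⟨0, Or.inl (by simp; omega)⟩
  have h1 := congrFun ((hc (bv i)).symm.trans (emb_fix o ho s hi)) i
  simp [bv] at h1
  rw [map_one]
  exact ext_act fun x => by rw [hc, h1, one_smul, act_one]

theorem range_blocks {G : Type*} [Group G] (f : SU[3] →* G) :
    f.range = (f.comp B0).range ⊔ (f.comp B1).range := by
  refine le_antisymm ?_ (sup_le ?_ ?_)
  · have htop := gen_two C hF (show 3 ≤ q by omega) (show 2 ≤ 3 by decide)
      (((f.comp B0).range ⊔ (f.comp B1).range).comap f) fun o ho t => by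
      obtain rfl | rfl : o = 0 ∨ o = 1 := by omega
      · exact Subgroup.mem_sup_left ⟨t, rfl⟩
      · exact Subgroup.mem_sup_right ⟨t, rfl⟩
    rintro _ ⟨x, rfl⟩
    exact htop.ge (Subgroup.mem_top x)
  · rintro _ ⟨x, rfl⟩; exact ⟨_, rfl⟩
  · rintro _ ⟨x, rfl⟩; exact ⟨_, rfl⟩

/-- Three blocks of a map of `SU₄`. -/
def Quad {G : Type*} [Group G] (f : SU[4] →* G) (A B B' : Subgroup G) : Prop :=
  f.ker ≤ Subgroup.center SU[4] ∧ (f.comp E0).range = A ∧ (f.comp E1).range = B ∧ (f.comp E2).range = B'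

theorem quad_adjust {G : Type*} [Group G] {f f' : SU[4] →* G} {A B B' B'' : Subgroup G} (hf : Quad f A B B')
    (hf' : Quad f' B B' B'') : ∃ f'' : SU[4] →* G, Quad f'' B B' B'' ∧ ∀ s, f'' (T0 s) = f (T1 s) := by
  classical
  have i1 := block_inj C hF hq hf.1 1 (show 1 + 3 ≤ 4 by decide) (by decide)
  have i0 := block_inj C hF hq hf'.1 0 (show 0 + 3 ≤ 4 by decide) (by decide)
  have c00 : ∀ t : SU[2], (T0) (B0 t) = E0 t := fun t => emb_emb 0 _ 0 _ 0 _ rfl t
  have c01 : ∀ t : SU[2], (T0) (B1 t) = E1 t := fun t => emb_emb 0 _ 1 _ 1 _ rfl t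
  have c10 : ∀ t : SU[2], (T1) (B0 t) = E1 t := fun t => emb_emb 1 _ 0 _ 1 _ rfl t
  have c11 : ∀ t : SU[2], (T1) (B1 t) = E2 t := fun t => emb_emb 1 _ 1 _ 2 _ rfl t
  have req : (f.comp T1).range = (f'.comp T0).range := by
    rw [range_blocks C hF hq (f.comp T1), range_blocks C hF hq (f'.comp T0)]
    simp only [MonoidHom.comp_assoc]
    rw [show (T1).comp B0 = E1 from MonoidHom.ext c10, show (T1).comp B1 = E2 from MonoidHom.ext c11,
      show (T0).comp B0 = E0 from MonoidHom.ext c00, show (T0).comp B1 = E1 from MonoidHom.ext c01,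
      hf.2.2.1, hf.2.2.2, hf'.2.1, hf'.2.2.1]
  let δ : MulAut SU[3] := (MonoidHom.ofInjective i1).trans
    ((MulEquiv.subgroupCongr req).trans (MonoidHom.ofInjective i0).symm)
  have hδ : ∀ s, f' (T0 (δ s)) = f (T1 s) := fun s => by
    show (f'.comp T0) _ = (f.comp T1) s
    rw [show δ s = (MonoidHom.ofInjective i0).symm (MulEquiv.subgroupCongr req (MonoidHom.ofInjective i1 s)) from rfl,
      ← MonoidHom.ofInjective_apply i0, MulEquiv.apply_symm_apply]
    rfl
  have hblock : ∀ (o : ℕ) (ho : o + 2 ≤ 3), ((f'.comp T0).comp (emb o ho)).range = ((f.comp T1).comp (emb o ho)).range →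
      (emb o ho : SU[2] →* SU[3]).range.map δ.toMonoidHom = (emb o ho : SU[2] →* SU[3]).range := by
    intro o ho e
    refine Subgroup.eq_of_le_of_card_ge ?_ (le_of_eq (Subgroup.card_map_of_injective δ.injective).symm)
    rintro _ ⟨_, ⟨t, rfl⟩, rfl⟩
    obtain ⟨t', ht'⟩ : f (T1 (emb o ho t)) ∈ ((f'.comp T0).comp (emb o ho)).range := by
      rw [e]; exact ⟨t, rfl⟩
    exact ⟨t', i0 (ht'.trans (hδ _).symm)⟩
  obtain ⟨d, r, τ, hd⟩ := block_aut C hF hq δ
    (hblock 0 _ (by
      simp only [MonoidHom.comp_assoc]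
      rw [show (T1).comp B0 = E1 from MonoidHom.ext c10, show (T0).comp B0 = E0 from MonoidHom.ext c00, hf.2.2.1,
        hf'.2.1]))
    (hblock 1 _ (by
      simp only [MonoidHom.comp_assoc]
      rw [show (T1).comp B1 = E2 from MonoidHom.ext c11, show (T0).comp B1 = E1 from MonoidHom.ext c01, hf.2.2.2,
        hf'.2.2.1]))
  let one : {a : F // N C a = 1} := ⟨1, by simp [N]⟩
  let d4 : Fin 4 → {a : F // N C a = 1} := ![d 0, d 1, d 2, one]
  let r4 : Fin 4 → {a : F // N C a = 1} := ![r 0, r 1, r 2, one]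
  let β : MulAut SU[4] := AutPSU.suAut (dgU C d4) τ * AutPSU.suAut (dgU C r4) 1
  have hβ : ∀ (k o : ℕ) (ho : o + k ≤ 4) (s : SU[k]), β (emb o ho s) =
      emb o ho (suConj (dgU C fun a => d4 (blk o ho (.inl a))) τ
        (suConj (dgU C fun a => r4 (blk o ho (.inl a))) 1 s)) := fun k o ho s => by
    show suConj (dgU C d4) τ (suConj (dgU C r4) 1 (emb o ho s)) = _
    rw [suConj_emb, suConj_emb]
  have hβr : ∀ (o : ℕ) (ho : o + 2 ≤ 4), ((f'.comp β.toMonoidHom).comp (emb o ho)).range =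
      (f'.comp (emb o ho : SU[2] →* SU[4])).range := by
    intro o ho
    ext y
    constructor
    · rintro ⟨s, rfl⟩
      exact ⟨_, congrArg f' (hβ 2 o ho s).symm⟩
    · rintro ⟨s, rfl⟩
      refine ⟨(AutPSU.suAut (dgU C fun a => r4 (blk o ho (.inl a))) 1).symm
        ((AutPSU.suAut (dgU C fun a => d4 (blk o ho (.inl a))) τ).symm s), ?_⟩
      show f' (β (emb o ho _)) = f' (emb o ho s)
      rw [hβ]
      congr 2
      show AutPSU.suAut _ τ (AutPSU.suAut _ 1 _) = s
      rw [MulEquiv.apply_symm_apply, MulEquiv.apply_symm_apply]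
  refine ⟨f'.comp β.toMonoidHom, ⟨?_, ?_, ?_, ?_⟩, fun s => ?_⟩
  · intro x hx
    have h1 : β x ∈ Subgroup.center SU[4] := hf'.1 hx
    refine Subgroup.mem_center_iff.2 fun y => β.injective ?_
    rw [map_mul, map_mul]
    exact Subgroup.mem_center_iff.1 h1 _
  · rw [hβr]; exact hf'.2.1
  · rw [hβr]; exact hf'.2.2.1
  · rw [hβr]; exact hf'.2.2.2
  · show f' (β (T0 s)) = _
    rw [hβ, show (fun a : Fin 3 => d4 (blk (n := 4) 0 (by decide) (.inl a))) = d from funext fun a => by
        fin_cases a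
        · show d4 0 = d 0; simp [d4]
        · show d4 1 = d 1; simp [d4]
        · show d4 2 = d 2; simp [d4],
      show (fun a : Fin 3 => r4 (blk (n := 4) 0 (by decide) (.inl a))) = r from funext fun a => by
        fin_cases a
        · show r4 0 = r 0; simp [r4]
        · show r4 1 = r 1; simp [r4]
        · show r4 2 = r 2; simp [r4], ← hd, hδ]

omit C hF hq in
theorem pair_le {G : Type*} [Group G] {V A B : Subgroup G} (hp : Cfsg.IsStandardUnitaryPair V A B F q) :
    A ≤ V ∧ B ≤ V := by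
  rcases hp with ⟨ψ, hA, hB⟩ | ⟨ψ, hA, hB⟩ <;>
  · subst hA hB
    constructor <;>
    · rintro _ ⟨x, -, rfl⟩
      exact SetLike.coe_mem _

omit C in
/-- A weak Phan system over the field with nine elements generates an image of the special unitary group. -/
theorem weak_system_three {G : Type*} [Group G] {n : ℕ} (hn : 4 ≤ n)
    (U : Fin n → Subgroup G) (V : Fin n → Fin n → Subgroup G)
    (h1 : ∀ i j : Fin n, (i : ℕ) + 2 ≤ j → ∀ x ∈ U i, ∀ y ∈ U j, x * y = y * x)
    (h2 : ∀ i j : Fin n, (i : ℕ) + 1 = j → Cfsg.IsStandardUnitaryPair (V i j) (U i) (U j) F q)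
    (hgen : (⨆ i, U i) ⊔ (⨆ (i : Fin n) (j : Fin n) (_ : (i : ℕ) + 1 = j), V i j) = ⊤)
    (h4 : ∀ i j k : Fin n, (i : ℕ) + 1 = j → (j : ℕ) + 1 = k →
      ∃ g : SU[4] →* ↥(V i j ⊔ V j k), Function.Surjective g) :
    ∃ f : SU[n + 1] →* G, Function.Surjective f := by
  obtain ⟨C⟩ := AutPSU.exists_conj hF
  have hgood : ∀ i j : Fin n, (i : ℕ) + 1 = j →
      ∃ π : SU[3] →* G, Function.Injective π ∧ (π.comp B0).range = U i ∧ (π.comp B1).range = U j ∧ V i j ≤ π.range := by
    intro i j hij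
    obtain ⟨π, ⟨hk, hA, hB⟩, hV⟩ := good_of_pair C (h2 i j hij)
    exact ⟨π, (injective_iff_map_eq_one π).2 fun x hx => center_three C hF hq (hk hx), hA, hB, hV⟩
  let W : ℕ → (SU[4] →* G) → Prop := fun i f => ∀ hi : i + 2 < n,
    Quad f (U ⟨i, by omega⟩) (U ⟨i + 1, by omega⟩) (U ⟨i + 2, hi⟩)
  have hex : ∀ i, ∃ f, W i f := fun i => by
    by_cases hi : i + 2 < n
    swap
    · exact ⟨1, fun h => absurd h hi⟩
    set a : Fin n := ⟨i, by omega⟩
    set b : Fin n := ⟨i + 1, by omega⟩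
    set c : Fin n := ⟨i + 2, hi⟩
    obtain ⟨πa, ia, aA, aB, -⟩ := hgood a b rfl
    obtain ⟨πb, ib, bA, bB, -⟩ := hgood b c rfl
    obtain ⟨g0, hg0⟩ := h4 a b c rfl rfl
    set g : SU[4] →* G := (V a b ⊔ V b c).subtype.comp g0 with hg
    have hgr : ∀ {H : Subgroup G}, H ≤ V a b ⊔ V b c → H ≤ g.range := fun hH y hy => by
      obtain ⟨x, hx⟩ := hg0 ⟨y, hH hy⟩
      exact ⟨x, congrArg Subtype.val hx⟩
    have r0 : U a ≤ g.range := hgr ((pair_le (h2 a b rfl)).1.trans le_sup_left)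
    have r1 : U b ≤ g.range := hgr ((pair_le (h2 a b rfl)).2.trans le_sup_left)
    have r2 : U c ≤ g.range := hgr ((pair_le (h2 b c rfl)).2.trans le_sup_right)
    have hker : g.ker ≤ Subgroup.center SU[4] := by
      refine ker_central C hF hq g (x := (πa.comp B0) (dq C hF hq)) (y := (πa.comp B0) (wq C))
        (r0 (by rw [← aA]; exact ⟨_, rfl⟩)) (r0 (by rw [← aA]; exact ⟨_, rfl⟩)) fun e => ?_
      rw [← map_mul, ← map_mul] at e
      have e' := (ia.comp (emb_injective 0 (show 0 + 2 ≤ 3 by decide))) e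
      have := dq_wq C hF hq
      rw [e', mul_inv_cancel_right] at this
      exact m1_ne C hF hq (mul_right_cancel (this.symm.trans (one_mul _).symm))
    obtain ⟨f, fk, f0, f1, f2⟩ := quad_hom C hF hq g hker πa πb ia ib (aA ▸ r0) (aB ▸ r1) (bB ▸ r2) (aB.trans bA.symm)
      (by rw [aA, bB]; exact fun x hx y hy => h1 a c le_rfl x hx y hy)
    exact ⟨f, fun _ => ⟨fk, f0.trans aA, f1.trans aB, f2.trans bB⟩⟩
  have hstep : ∀ i (f : {f // W i f}), ∃ f' : {f' // W (i + 1) f'}, i + 3 < n → ∀ s, f'.1 (T0 s) = f.1 (T1 s) := by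
    rintro i ⟨f, hf⟩
    obtain ⟨f', hf'⟩ := hex (i + 1)
    by_cases hi : i + 3 < n
    · obtain ⟨f'', g, c⟩ := quad_adjust C hF hq (hf (by omega)) (hf' (by omega))
      exact ⟨⟨f'', fun _ => g⟩, fun _ => c⟩
    · exact ⟨⟨f', hf'⟩, fun h => absurd h hi⟩
  let P : (i : ℕ) → {f // W i f} := fun i => Nat.rec ⟨_, (hex 0).choose_spec⟩ (fun i f => (hstep i f).choose) i
  have hP : ∀ i, i + 3 < n → ∀ s, (P (i + 1)).1 (T0 s) = (P i).1 (T1 s) := fun i => (hstep i (P i)).choose_spec
  let π : ℕ → SU[3] →* G := fun i => if i + 2 < n then (P i).1.comp T0 else (P (i - 1)).1.comp T1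
  have hπs : ∀ i, i + 2 < n → ∀ s, π (i + 1) s = (P i).1 (T1 s) := fun i hi s => by
    by_cases h : i + 1 + 2 < n
    · simp only [π, if_pos h]; exact hP i (by omega) s
    · simp only [π, if_neg h]; rfl
  have hπ0 : ∀ i, i + 2 < n → ∀ s, π i s = (P i).1 (T0 s) := fun i hi s => by
    simp only [π, if_pos hi]; rfl
  let u : ℕ → SU[2] →* G := fun i => if i = 0 then (π 0).comp B0 else (π (i - 1)).comp B1
  have hu0 : ∀ i, i + 3 ≤ n + 1 → ∀ s, π i (B0 s) = u i s := by
    rintro (_ | i) hi s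
    · simp [u]
    · show π (i + 1) (B0 s) = π i (B1 s)
      rw [hπs i (by omega), hπ0 i (by omega), emb_emb 1 _ 0 _ 1 (show 1 + 2 ≤ 4 by decide) rfl,
        emb_emb 0 _ 1 _ 1 (show 1 + 2 ≤ 4 by decide) rfl]
  have hu1 : ∀ i, i + 3 ≤ n + 1 → ∀ s, π i (B1 s) = u (i + 1) s := fun i _ s => by simp [u]
  have hrange : ∀ i (hi : i + 1 < n), ((π i).comp B0).range = U ⟨i, by omega⟩ ∧
      ((π i).comp B1).range = U ⟨i + 1, hi⟩ := by
    intro i hi
    by_cases h : i + 2 < n
    · obtain ⟨-, q0, q1, -⟩ := (P i).2 h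
      constructor
      · rw [← q0]; congr 1; ext1 s
        show π i (B0 s) = (P i).1 (E0 s)
        rw [hπ0 i h, emb_emb 0 _ 0 _ 0 _ rfl]
      · rw [← q1]; congr 1; ext1 s
        show π i (B1 s) = (P i).1 (E1 s)
        rw [hπ0 i h, emb_emb 0 _ 1 _ 1 _ rfl]
    · obtain ⟨j, rfl⟩ : ∃ j, i = j + 1 := ⟨i - 1, by omega⟩
      obtain ⟨-, -, q1, q2⟩ := (P j).2 hi
      constructor
      · rw [← q1]; congr 1; ext1 s
        show π (j + 1) (B0 s) = (P j).1 (E1 s)
        rw [hπs j (by omega), emb_emb 1 _ 0 _ 1 _ rfl]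
      · rw [← q2]; congr 1; ext1 s
        show π (j + 1) (B1 s) = (P j).1 (E2 s)
        rw [hπs j (by omega), emb_emb 1 _ 1 _ 2 _ rfl]
  have humem : ∀ i (hi : i < n) s, u i s ∈ U ⟨i, hi⟩ := by
    rintro (_ | i) hi s
    · exact (hrange 0 (by omega)).1 ▸ ⟨s, by simp [u]⟩
    · exact (hrange i hi).2 ▸ ⟨s, by simp [u]⟩
  obtain ⟨f, hf⟩ := phan_hom_four C hF hq (n := n + 1) (by omega) π u (P 0).1
    (fun s => (hπ0 0 (by omega) s).symm) (fun s => (hπs 0 (by omega) s).symm) hu0 hu1 fun i j hij hj s t =>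
    h1 ⟨i, by omega⟩ ⟨j, by omega⟩ hij _ (humem i (by omega) s) _ (humem j (by omega) t)
  refine ⟨f, MonoidHom.range_eq_top.1 (top_le_iff.1 (hgen ▸ ?_))⟩
  have hU : ∀ i, U i ≤ f.range := by
    rintro ⟨i, hi⟩
    rcases i with _ | i
    · rw [← (hrange 0 (by omega)).1]
      rintro _ ⟨s, rfl⟩
      exact ⟨_, hf 0 (by omega) (B0 s)⟩
    · rw [← (hrange i hi).2]
      rintro _ ⟨s, rfl⟩
      exact ⟨_, hf i (by omega) (B1 s)⟩
  refine sup_le (iSup_le hU) (iSup_le fun i => iSup_le fun j => iSup_le fun hij => ?_)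
  obtain ⟨π', -, hA, hB, hV⟩ := hgood i j hij
  refine hV.trans ?_
  rw [range_blocks C hF hq π', hA, hB]
  exact sup_le (hU i) (hU j)

end Cfsg.Agent.Phan
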