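import Cfsg.Agent.Lib.Phan.ThreeLift

/-!
Three consecutive blocks inside a quotient of the special unitary group of rank four over the field with nine
elements are images of the standard blocks.
-/

set_option autoImplicit false
set_option linter.unusedSectionVars false
set_option linter.unusedSimpArgs false
set_option linter.style.show false
set_option maxHeartbeats 1000000

namespace Cfsg.Agent.Phan

open Matrix
open Cfsg.Agent.AutPSU (Conj h act act_mul act_one act_inv_act act_pres ext_act)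

variable {F : Type*} [Field F] [Fintype F] {q : ℕ}

local notation "SU[" n "]" => Cfsg.SU n F q
local notation "B0" => emb (F := F) (q := q) (k := 2) (n := 3) 0 (by decide)
local notation "B1" => emb (F := F) (q := q) (k := 2) (n := 3) 1 (by decide)
local notation "E0" => emb (F := F) (q := q) (k := 2) (n := 4) 0 (by decide)
local notation "E1" => emb (F := F) (q := q) (k := 2) (n := 4) 1 (by decide)
local notation "E2" => emb (F := F) (q := q) (k := 2) (n := 4) 2 (by decide)

variable {G : Type*} [Group G]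

theorem lifts_conj (g : SU[4] →* G) (s : SU[4]) (U : Subgroup G) :
    lifts g U = (lifts (g.comp (MulAut.conj s).toMonoidHom) U).map (MulAut.conj s).toMonoidHom := by
  rw [lifts, lifts, MonoidHom.map_closure]
  congr 1
  ext x
  constructor
  · rintro ⟨hx, hU⟩
    refine ⟨s⁻¹ * x * s, ⟨by rw [show s⁻¹ * x * s = s⁻¹ * x * s⁻¹⁻¹ by group, conj_pow, hx]; group, ?_⟩, ?_⟩
    · show g (s * (s⁻¹ * x * s) * s⁻¹) ∈ U
      rwa [show s * (s⁻¹ * x * s) * s⁻¹ = x by group]
    · show s * (s⁻¹ * x * s) * s⁻¹ = x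
      group
  · rintro ⟨y, ⟨hy, hU⟩, rfl⟩
    refine ⟨?_, hU⟩
    show (s * y * s⁻¹) ^ 3 = 1
    rw [conj_pow, hy, mul_one, mul_inv_cancel]

variable (C : Conj F q) (hF : Fintype.card F = q ^ 2) (hq : q = 3)
include C hF hq

omit hF hq in
theorem act_B0 (s : SU[2]) (x : Fin 3 → F) :
    act (B0 s) x = ![en s 0 0 * x 0 + en s 0 1 * x 1, en s 1 0 * x 0 + en s 1 1 * x 1, x 2] := by
  funext i
  fin_cases i
  · show act (B0 s) x 0 = _
    rw [emb_in 0 _ s x 0 0 (by simp)]
    simp [act, Matrix.mulVec, dotProduct, Fin.sum_univ_two, en]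
  · show act (B0 s) x 1 = _
    rw [emb_in 0 _ s x 1 1 (by simp)]
    simp [act, Matrix.mulVec, dotProduct, Fin.sum_univ_two, en]
  · show act (B0 s) x 2 = _
    rw [emb_out 0 _ s x (Or.inr (by simp))]
    simp

omit hF hq in
theorem act_B1 (s : SU[2]) (x : Fin 3 → F) :
    act (B1 s) x = ![x 0, en s 0 0 * x 1 + en s 0 1 * x 2, en s 1 0 * x 1 + en s 1 1 * x 2] := by
  funext i
  fin_cases i
  · show act (B1 s) x 0 = _
    rw [emb_out 1 _ s x (Or.inl (by simp))]
    simp
  · show act (B1 s) x 1 = _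
    rw [emb_in 1 _ s x 0 1 (by simp)]
    simp [act, Matrix.mulVec, dotProduct, Fin.sum_univ_two, en]
  · show act (B1 s) x 2 = _
    rw [emb_in 1 _ s x 1 2 (by simp)]
    simp [act, Matrix.mulVec, dotProduct, Fin.sum_univ_two, en]

theorem conj_m1 (s : SU[2]) : B1 (m1 C) * B0 s = B0 (dq C hF hq * s * (dq C hF hq)⁻¹) * B1 (m1 C) ∧
    B0 (m1 C) * B1 s = B1 (dq C hF hq * s * (dq C hF hq)⁻¹) * B0 (m1 C) := by
  obtain ⟨a, b⟩ := dq_conj C hF hq s
  set u := dq C hF hq * s * (dq C hF hq)⁻¹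
  obtain ⟨m0, m0'⟩ := m1_spec C
  constructor <;>
  · refine ext_act fun x => ?_
    rw [act_mul, act_mul]
    simp only [act_B0 C, act_B1 C, (en_rel C u).1, (en_rel C u).2, (en_rel C s).1, (en_rel C s).2,
      (en_rel C (m1 C)).1, (en_rel C (m1 C)).2, a, b, m0, m0', map_neg, map_one, map_zero, neg_zero]
    funext i
    fin_cases i <;> simp <;> ring

theorem pair_lifts (g : SU[4] →* G) (hk : g.ker ≤ Subgroup.center SU[4]) (π : SU[3] →* G)
    (hπ : Function.Injective π) (h0 : (π.comp B0).range ≤ g.range) (h1 : (π.comp B1).range ≤ g.range) :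
    ∃ s : SU[4], lifts g (π.comp B0).range = ((MulAut.conj s).toMonoidHom.comp E0).range ∧
      lifts g (π.comp B1).range = ((MulAut.conj s).toMonoidHom.comp E1).range := by
  obtain ⟨x0, y0, c0, hx0, hy0, hxy0, hcc0, hgc0, cx0, cy0⟩ := inv_lift C hF hq g hk (π.comp B0) h0
  obtain ⟨x1, y1, c1, hx1, hy1, hxy1, hcc1, hgc1, cx1, cy1⟩ := inv_lift C hF hq g hk (π.comp B1) h1
  have hm : ∀ o (ho : o + 2 ≤ 3), (emb o ho (m1 C) : SU[3]) ≠ 1 := fun o ho e =>
    m1_ne C hF hq (emb_injective o ho (e.trans (map_one _).symm))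
  have hprod : B0 (m1 C) * B1 (m1 C) ≠ (1 : SU[3]) := fun e => by
    have := congrFun (congrArg (fun u : SU[3] => act u (bv 0)) e) 0
    rw [act_mul, emb_fix 1 _ _ (Or.inl (by simp)), act_one, emb_m1_bv C 0 _ 0 (by simp)] at this
    simp [bv] at this
    exact two_ne hF hq (by linear_combination -this)
  have d0 : ∀ t, g c1 * (π.comp B0) t = (π.comp B0) (dq C hF hq * t * (dq C hF hq)⁻¹) * g c1 := fun t => by
    rw [hgc1]
    show π (B1 (m1 C)) * π (B0 t) = π (B0 _) * π (B1 (m1 C))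
    rw [← map_mul, ← map_mul, (conj_m1 C hF hq t).1]
  have d1 : ∀ t, g c0 * (π.comp B1) t = (π.comp B1) (dq C hF hq * t * (dq C hF hq)⁻¹) * g c0 := fun t => by
    rw [hgc0]
    show π (B0 (m1 C)) * π (B1 t) = π (B1 _) * π (B0 (m1 C))
    rw [← map_mul, ← map_mul, (conj_m1 C hF hq t).2]
  -- the involutions commute
  have hcomm : Commute c0 c1 := by
    obtain ⟨k, hk1, ek⟩ := exists_center C hF hq g hk (u := c1 * x0 * c1⁻¹) (v := x0) (by
      rw [map_mul, map_mul, map_inv, hx0, d0, mul_inv_cancel_right, mul_inv_cancel_right])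
    obtain ⟨k', hk2, ek'⟩ := exists_center C hF hq g hk (u := c1 * y0 * c1⁻¹) (v := c0 * y0) (by
      rw [map_mul, map_mul, map_inv, hy0, d0, mul_inv_cancel_right, dq_wq, map_mul (π.comp B0), map_mul, hgc0, hy0])
    have e1 : c1 * c0 * c1⁻¹ = (c1 * x0 * c1⁻¹) * (c1 * y0 * c1⁻¹) * ((c1 * y0 * c1⁻¹) * (c1 * x0 * c1⁻¹))⁻¹ := by
      rw [show c0 = x0 * y0 * (y0 * x0)⁻¹ by rw [hxy0, mul_inv_cancel_right]]
      group
    have kc : ∀ z, z * k = k * z := Subgroup.mem_center_iff.1 hk1
    have kc' : ∀ z, z * k' = k' * z := Subgroup.mem_center_iff.1 hk2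
    have e2 : x0 * k * (c0 * y0 * k') * (c0 * y0 * k' * (x0 * k))⁻¹ = c0 := by
      have l : x0 * k * (c0 * y0 * k') = (c0 * (x0 * y0)) * (k * k') := by
        rw [← mul_assoc c0 x0 y0, cx0.eq, mul_assoc x0 k, ← mul_assoc k (c0 * y0) k', ← kc (c0 * y0)]
        simp only [mul_assoc]
      have r : c0 * y0 * k' * (x0 * k) = (c0 * (y0 * x0)) * (k * k') := by
        rw [mul_assoc (c0 * y0) k', ← mul_assoc k' x0 k, ← kc' x0, mul_assoc x0 k' k, kc k']
        simp only [mul_assoc]
      rw [l, r, show c0 * (x0 * y0) * (k * k') * (c0 * (y0 * x0) * (k * k'))⁻¹ =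
        c0 * (x0 * y0 * (y0 * x0)⁻¹) * c0⁻¹ by group, hxy0, mul_inv_cancel_right, mul_inv_cancel_right]
    rw [ek, ek', e2] at e1
    exact (mul_inv_eq_iff_eq_mul.1 e1).symm
  obtain ⟨s, hs0, hs1⟩ := inv_frame C hF hq hcc0 hcc1 hcomm
    (noncentral C hF hq g hk hπ h0 h1 (hm 0 (by decide)) hgc0)
    (noncentral C hF hq g hk hπ h0 h1 (hm 1 (by decide)) hgc1)
    (noncentral C hF hq g hk hπ h0 h1 hprod (by
      rw [map_mul, hgc0, hgc1]; exact (map_mul π _ _).symm))
  refine ⟨s, ?_⟩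
  set g' : SU[4] →* G := g.comp (MulAut.conj s).toMonoidHom with hg'
  have hk' : g'.ker ≤ Subgroup.center SU[4] := fun x hx => by
    have := hk (show s * x * s⁻¹ ∈ g.ker from hx)
    have e : x = s⁻¹ * (s * x * s⁻¹) * s := by group
    rw [e, Subgroup.mem_center_iff.1 this, mul_assoc, inv_mul_cancel, mul_one]
    exact this
  have hr' : ∀ {H : Subgroup G}, H ≤ g.range → H ≤ g'.range := fun hH y hy => by
    obtain ⟨z, rfl⟩ := hH hy
    exact ⟨s⁻¹ * z * s, by show g (s * (s⁻¹ * z * s) * s⁻¹) = g z; congr 1; group⟩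
  have tg : ∀ z, g' (s⁻¹ * z * s) = g z := fun z => by show g (s * (s⁻¹ * z * s) * s⁻¹) = g z; congr 1; group
  have tmul : ∀ u v : SU[4], s⁻¹ * u * s * (s⁻¹ * v * s) = s⁻¹ * (u * v) * s := fun u v => by group
  have tcomm : ∀ {u v : SU[4]}, Commute u v → Commute (s⁻¹ * u * s) (s⁻¹ * v * s) := fun {u v} e => by
    show _ = _; rw [tmul, tmul, e.eq]
  have eps : ∀ (o : ℕ) (ho : o + 2 ≤ 4) (p r : Fin 4),
      (∀ i : Fin 4, (i = p ∨ i = r) ↔ ((i : ℕ) < o ∨ o + 2 ≤ (i : ℕ))) →
      ∀ i, act (emb o ho (m1 C) : SU[4]) (bv i) = (if i = p ∨ i = r then (1 : F) else -1) • bv i := by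
    intro o ho p r hiff i
    by_cases hi : i = p ∨ i = r
    · rw [if_pos hi, one_smul, emb_fix o ho _ ((hiff i).1 hi)]
    · rw [if_neg hi, neg_one_smul, emb_m1_bv C o ho i (by rw [hiff] at hi; omega)]
  have main : ∀ (o : ℕ) (ho : o + 2 ≤ 3) (p r : Fin 4) (a : SU[2] →* G) (x y c d : SU[4]),
      a = π.comp (emb o ho) → a.range ≤ g.range → g x = a (dq C hF hq) → g y = a (wq C) → x * y = c * (y * x) →
      g c = a (m1 C) → Commute c x → Commute c y → Commute c d →
      (∀ t, g d * a t = a (dq C hF hq * t * (dq C hF hq)⁻¹) * g d) →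
      p ≠ r → s⁻¹ * c * s = emb o (show o + 2 ≤ 4 by omega) (m1 C) →
      (∀ i : Fin 4, (i = p ∨ i = r) ↔ ((i : ℕ) < o ∨ o + 2 ≤ (i : ℕ))) →
      act (s⁻¹ * d * s) (bv p) = -bv p → act (s⁻¹ * d * s) (bv r) = bv r →
      lifts g a.range = ((MulAut.conj s).toMonoidHom.comp (emb o (show o + 2 ≤ 4 by omega))).range := by
    intro o ho p r a x y c d ha hr hx hy hxy hgc cx cy hcd hd hpr hc hiff hdp hdr
    rw [lifts_conj g s, range_eq_lifts C hF hq hk' a
      (by rw [ha]; exact hπ.comp (emb_injective o ho)) (hr' hr) o (by omega) (fun T hT hTU i hi => by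
        have := fix_lifts C hF hq g' hk' a (x := s⁻¹ * x * s) (y := s⁻¹ * y * s) (c := s⁻¹ * c * s)
          (d := s⁻¹ * d * s) (by rw [tg, hx]) (by rw [tg, hy]) (by rw [tmul, tmul, tmul, hxy]) (by rw [tg, hgc])
          (tcomm cx) (tcomm cy) (tcomm hcd) (by intro t; rw [tg]; exact hd t) p r hpr
          (by rw [hc]; exact eps o _ p r hiff) hdp hdr hT hTU
        rcases (hiff i).2 hi with rfl | rfl
        exacts [this.1, this.2]), ← MonoidHom.range_comp]
  refine ⟨main 0 (by decide) 2 3 _ x0 y0 c0 c1 rfl h0 hx0 hy0 hxy0 hgc0 cx0 cy0 hcomm d0 (by decide) hs0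
      (by decide) ?_ ?_, main 1 (by decide) 0 3 _ x1 y1 c1 c0 rfl h1 hx1 hy1 hxy1 hgc1 cx1 cy1 hcomm.symm d1 (by decide)
      hs1 (by decide) ?_ ?_⟩
  · rw [hs1]; exact emb_m1_bv C 1 _ 2 (by simp)
  · rw [hs1]; exact emb_fix 1 _ _ (Or.inr (by simp))
  · rw [hs0]; exact emb_m1_bv C 0 _ 0 (by simp)
  · rw [hs0]; exact emb_fix 0 _ _ (Or.inr (by simp))

theorem map_lifts (g : SU[4] →* G) (hk : g.ker ≤ Subgroup.center SU[4]) (a : SU[2] →* G) (hr : a.range ≤ g.range) :
    (lifts g a.range).map g = a.range := by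
  refine le_antisymm (Subgroup.map_le_iff_le_comap.2 ((Subgroup.closure_le _).2 fun x hx => hx.2)) ?_
  have hgen : a.range = Subgroup.closure (a '' {s : SU[2] | s ^ 3 = 1}) := by
    rw [MonoidHom.range_eq_map, ← gen_cube C hF hq, MonoidHom.map_closure]
  refine hgen.le.trans ((Subgroup.closure_le _).2 ?_)
  rintro _ ⟨s, hs, rfl⟩
  obtain ⟨x, hx, hgx⟩ := lift_exists C hF hq g hk (hr ⟨s, rfl⟩)
    (by rw [← map_pow, show s ^ 3 = 1 from hs, map_one] : a s ^ 3 = 1)
  exact ⟨x, Subgroup.subset_closure ⟨hx, by rw [hgx]; exact ⟨s, rfl⟩⟩, hgx⟩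

/-- Three consecutive blocks in a quotient of `SU₄` are images of standard blocks. -/
theorem quad_hom (g : SU[4] →* G) (hk : g.ker ≤ Subgroup.center SU[4]) (πa πb : SU[3] →* G)
    (ha : Function.Injective πa) (hb : Function.Injective πb) (a0 : (πa.comp B0).range ≤ g.range)
    (a1 : (πa.comp B1).range ≤ g.range) (b1 : (πb.comp B1).range ≤ g.range)
    (heq : (πa.comp B1).range = (πb.comp B0).range)
    (hc : ∀ x ∈ (πa.comp B0).range, ∀ y ∈ (πb.comp B1).range, Commute x y) :
    ∃ f : SU[4] →* G, f.ker ≤ Subgroup.center SU[4] ∧ (f.comp E0).range = (πa.comp B0).range ∧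
      (f.comp E1).range = (πa.comp B1).range ∧ (f.comp E2).range = (πb.comp B1).range := by
  obtain ⟨s, sa0, sa1⟩ := pair_lifts C hF hq g hk πa ha a0 a1
  obtain ⟨s', sb0, sb1⟩ := pair_lifts C hF hq g hk πb hb (heq ▸ a1) b1
  set f : SU[4] →* G := g.comp (MulAut.conj s).toMonoidHom with hf
  set r := s⁻¹ * s' with hr
  have key : ∀ (o : ℕ) (ho : o + 2 ≤ 4) (a : SU[2] →* G), a.range ≤ g.range →
      lifts g a.range = ((MulAut.conj s).toMonoidHom.comp (emb o ho)).range → (f.comp (emb o ho)).range = a.range := by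
    intro o ho a har hL
    rw [hf, MonoidHom.comp_assoc, MonoidHom.range_comp, ← hL, map_lifts C hF hq g hk a har]
  have hker : f.ker ≤ Subgroup.center SU[4] := fun x hx => by
    have := hk (show s * x * s⁻¹ ∈ g.ker from hx)
    have e : x = s⁻¹ * (s * x * s⁻¹) * s := by group
    rw [e, Subgroup.mem_center_iff.1 this, mul_assoc, inv_mul_cancel, mul_one]
    exact this
  refine ⟨f, hker, key 0 _ _ a0 sa0, key 1 _ _ a1 sa1, key 2 (by decide) _ b1 ?_⟩
  rw [sb1]
  suffices H : ((MulAut.conj r).toMonoidHom.comp E1).range = (E2 : SU[2] →* SU[4]).range by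
    rw [MonoidHom.range_comp (MulAut.conj s).toMonoidHom, ← H, ← MonoidHom.range_comp, ← MonoidHom.comp_assoc]
    congr 2
    ext1 x
    show s' * x * s'⁻¹ = s * (r * x * r⁻¹) * s⁻¹
    rw [hr]; group
  have hcent : ∀ t t', Commute (E0 t) (r * E1 t' * r⁻¹) := by
    have hle : lifts g (πb.comp B1).range ≤ Subgroup.centralizer (lifts g (πa.comp B0).range : Set SU[4]) := by
      refine (Subgroup.closure_le _).2 fun T' hT' => Subgroup.mem_centralizer_iff.2 fun z hz => ?_
      induction hz using Subgroup.closure_induction with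
      | mem T hT => exact lift_comm C hF hq g hk hT'.1 (hc _ hT.2 _ hT'.2)
      | one => simp
      | mul u v _ _ i1 i2 => exact (Commute.mul_left i1 i2)
      | inv u _ i1 => exact (Commute.inv_left i1)
    intro t t'
    have m0 : s * E0 t * s⁻¹ ∈ lifts g (πa.comp B0).range := sa0.ge ⟨t, rfl⟩
    have m2 : s' * E1 t' * s'⁻¹ ∈ lifts g (πb.comp B1).range := sb1.ge ⟨t', rfl⟩
    have e := Subgroup.mem_centralizer_iff.1 (hle m2) _ m0
    show E0 t * (r * E1 t' * r⁻¹) = r * E1 t' * r⁻¹ * E0 t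
    have := congrArg (fun z => s⁻¹ * z * s) e
    rw [hr]
    refine (?_ : _ = _).trans (this.trans ?_) <;> group
  set c' := r * E1 (m1 C) * r⁻¹ with hc'
  have hc'2 : c' * c' = 1 := by
    rw [hc', show r * E1 (m1 C) * r⁻¹ * (r * E1 (m1 C) * r⁻¹) = r * (E1 (m1 C) * E1 (m1 C)) * r⁻¹ by group, ← map_mul,
      m1_sq, map_one]
    group
  obtain ⟨d1, d2, d3⟩ := dq_spec C hF hq
  have h2 := two_ne hF hq
  set i := en (dq C hF hq) 0 0 with hi
  have hi1 : i ≠ 1 := fun e => h2 (by rw [e] at d3; linear_combination d3)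
  have hi0 : i ≠ 0 := fun e => by rw [e] at d3; simp at d3
  have actE0 : ∀ (t : SU[2]) (x : Fin 4 → F), act (E0 t) x =
      ![en t 0 0 * x 0 + en t 0 1 * x 1, en t 1 0 * x 0 + en t 1 1 * x 1, x 2, x 3] := fun t x => by
    funext k
    fin_cases k
    · show act (E0 t) x 0 = _
      rw [emb_in 0 _ t x 0 0 (by simp)]; simp [act, Matrix.mulVec, dotProduct, Fin.sum_univ_two, en]
    · show act (E0 t) x 1 = _
      rw [emb_in 0 _ t x 1 1 (by simp)]; simp [act, Matrix.mulVec, dotProduct, Fin.sum_univ_two, en]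
    · show act (E0 t) x 2 = _
      rw [emb_out 0 _ t x (Or.inr (by simp))]; simp
    · show act (E0 t) x 3 = _
      rw [emb_out 0 _ t x (Or.inr (by simp))]; simp
  have e_i : act (E0 (dq C hF hq)) (bv 0) = i • (bv 0 : Fin 4 → F) := by
    rw [actE0]
    funext k
    fin_cases k <;> simp [bv, hi, d1, (en_rel C (dq C hF hq)).1]
  have e_w : act (E0 (wq C)) (bv 0) = -(bv 1 : Fin 4 → F) := by
    rw [actE0]
    funext k
    fin_cases k <;> simp [bv, (wq_spec C).1, (wq_spec C).2, (en_rel C (wq C)).1]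
  set y := act c' (bv 0) with hy
  have ey : act (E0 (dq C hF hq)) y = i • y := by
    rw [hy, ← act_mul, (hcent _ _).eq, act_mul, e_i, AutPSU.act_smul]
  rw [actE0] at ey
  have y1 : y 1 = 0 := by
    have := congrFun ey 1
    simp [(en_rel C (dq C hF hq)).1, (en_rel C (dq C hF hq)).2, d1, d2] at this
    refine this.resolve_left fun e => mul_ne_zero h2 hi0 ?_
    rw [← hi, d2] at e
    linear_combination -e
  have yo : ∀ k : Fin 4, 2 ≤ (k : ℕ) → y k = 0 := fun k hk => by
    have := congrFun ey k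
    have hne : k = 2 ∨ k = 3 := by omega
    rcases hne with rfl | rfl <;>
    · simp at this
      exact (mul_eq_zero.1 (show (i - 1) * _ = 0 by linear_combination -this)).resolve_left (sub_ne_zero.2 hi1)
  have c0 : act c' (bv 0) = y 0 • (bv 0 : Fin 4 → F) := by
    rw [← hy]
    funext k
    fin_cases k
    · simp [bv]
    · simpa [bv] using y1
    · simpa [bv] using yo 2 le_rfl
    · simpa [bv] using yo 3 (by decide)
  have c1 : act c' (bv 1) = y 0 • (bv 1 : Fin 4 → F) := by
    rw [show (bv 1 : Fin 4 → F) = -act (E0 (wq C)) (bv 0) by rw [e_w, neg_neg], ← neg_one_smul F, AutPSU.act_smul,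
      ← act_mul, ← (hcent _ _).eq, act_mul, c0, AutPSU.act_smul, smul_comm]
  have hμ : y 0 * y 0 = 1 := by
    have := congrFun (show act (c' * c') (bv 0) = (bv 0 : Fin 4 → F) by rw [hc'2, act_one]) 0
    rw [act_mul, c0, AutPSU.act_smul, c0, smul_smul] at this
    simpa [bv] using this
  have fixer : ∀ k : Fin 4, act c' (bv k) = bv k → ∀ t, act (r * E1 t * r⁻¹) (bv k) = bv k := by
    intro k hk t
    set w := act r⁻¹ (bv k) with hw
    have hfix : act (E1 (m1 C)) w = w := by
      rw [hc', act_mul, act_mul] at hk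
      have := congrArg (act r⁻¹) hk
      rwa [act_inv_act] at this
    have z : ∀ j : Fin 4, 1 ≤ (j : ℕ) → (j : ℕ) < 3 → w j = 0 := fun j j1 j3 => by
      have := congrFun hfix j
      rw [emb_in 1 _ _ w ⟨(j : ℕ) - 1, by omega⟩ j (by simp; omega), act_m1, Pi.neg_apply,
        show (⟨1 + ((j : ℕ) - 1), by omega⟩ : Fin 4) = j from Fin.ext (by simp; omega)] at this
      exact (mul_eq_zero.1 (show (2 : F) * w j = 0 by linear_combination -this)).resolve_left h2
    have hE : act (E1 t) w = w := by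
      have := lin_ext C {0, 3} (v := w) (fun j hj => by
          fin_cases j
          · exact absurd (Or.inl rfl) hj
          · exact z 1 (by simp) (by simp)
          · exact z 2 (by simp) (by simp)
          · exact absurd (Or.inr rfl) hj) 1 (s := E1 t) fun j hj => by
          rw [one_smul]; exact emb_fix 1 _ _ (by rcases hj with rfl | rfl <;> simp)
      simpa using this
    rw [act_mul, act_mul, ← hw, hE, hw, AutPSU.act_act_inv]
  have range_of : ∀ (o : ℕ) (ho : o + 2 ≤ 4),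
      (∀ k : Fin 4, (k : ℕ) < o ∨ o + 2 ≤ (k : ℕ) → act c' (bv k) = bv k) →
      ((MulAut.conj r).toMonoidHom.comp E1).range = (emb o ho : SU[2] →* SU[4]).range := by
    intro o ho hk'
    refine Subgroup.eq_of_le_of_card_ge ?_ (le_of_eq ?_)
    · rintro _ ⟨t, rfl⟩
      exact emb_range o ho C _ fun k hk'' => fixer k (hk' k hk'') t
    · rw [← Nat.card_congr (MonoidHom.ofInjective (emb_injective o ho)).toEquiv, ← Nat.card_congr
        (MonoidHom.ofInjective (f := (MulAut.conj r).toMonoidHom.comp E1)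
          ((MulAut.conj r).injective.comp (emb_injective 1 _))).toEquiv]
  rcases mul_self_eq_one_iff.1 hμ with h1 | h1
  · rw [h1, one_smul] at c0 c1
    refine range_of 2 _ fun k hk' => ?_
    rcases (show k = 0 ∨ k = 1 by omega) with rfl | rfl
    exacts [c0, c1]
  · exfalso
    rw [h1, neg_one_smul] at c0 c1
    obtain ⟨ng, hng⟩ := exists_neg_four C (q := q)
    set e := c' * E0 (m1 C) with he
    have efix : ∀ k : Fin 4, (k : ℕ) < 2 ∨ 2 + 2 ≤ (k : ℕ) → act e (bv k) = bv k := fun k hk' => by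
      rw [he, act_mul, emb_m1_bv C 0 _ k (by omega), ← neg_one_smul F, AutPSU.act_smul, neg_one_smul]
      rcases (show k = 0 ∨ k = 1 by omega) with rfl | rfl
      · rw [c0, neg_neg]
      · rw [c1, neg_neg]
    have cm : Commute c' (E0 (m1 C)) := (hcent _ _).symm
    have he2 : e * e = 1 := by
      rw [he, show c' * E0 (m1 C) * (c' * E0 (m1 C)) = c' * (E0 (m1 C) * c') * E0 (m1 C) by group, ← cm.eq,
        show c' * (c' * E0 (m1 C)) * E0 (m1 C) = c' * c' * (E0 (m1 C) * E0 (m1 C)) by group, hc'2, ← map_mul, m1_sq,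
        map_one, one_mul]
    have hm0 : E0 (m1 C) * E0 (m1 C) = (1 : SU[4]) := by rw [← map_mul, m1_sq, map_one]
    by_cases h1' : e = 1
    · have hc0' : c' = E0 (m1 C) := by
        rw [he] at h1'
        exact (eq_inv_of_mul_eq_one_left h1').trans (inv_eq_of_mul_eq_one_right hm0)
      have hR := range_of 0 (by decide) fun k hk' => by rw [hc0']; exact emb_fix 0 _ _ hk'
      obtain ⟨t', ht'⟩ : E0 (wq C) ∈ ((MulAut.conj r).toMonoidHom.comp E1).range := by
        rw [hR]; exact ⟨wq C, rfl⟩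
      have hcm : Commute (E0 (dq C hF hq)) (E0 (wq C)) := by
        rw [← ht']; exact hcent _ t'
      have hdw : dq C hF hq * wq C = wq C * dq C hF hq := emb_injective 0 _ (by rw [map_mul, map_mul]; exact hcm.eq)
      have := dq_wq C hF hq
      rw [hdw, mul_inv_cancel_right] at this
      exact m1_ne C hF hq (mul_right_cancel (this.symm.trans (one_mul _).symm))
    · have hE := invo_fix C hF hq he2 h1' 2 (by decide) efix
      have hcng : c' = ng := by
        rw [show c' = e * E0 (m1 C) by rw [he, mul_assoc, hm0, mul_one], hE]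
        refine ext_bv fun k => ?_
        rw [act_mul, hng]
        rcases (show (k : ℕ) < 2 ∨ 2 ≤ (k : ℕ) by omega) with hk' | hk'
        · rw [emb_m1_bv C 0 _ k (by omega), ← neg_one_smul F, AutPSU.act_smul, emb_fix 2 _ _ (Or.inl hk'), neg_one_smul]
        · rw [emb_fix 0 _ _ (Or.inr (by omega)), emb_m1_bv C 2 _ k (by omega)]
      have h6 : act c' (act r (bv 0)) = act r (bv 0) := by
        rw [hc', act_mul, act_mul, act_inv_act, emb_fix 1 _ _ (Or.inl (by simp))]
      have h7 : act r (bv 0) = -act r (bv 0) := h6.symm.trans (by rw [hcng, hng])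
      have h8 : act r (bv 0) = 0 := funext fun k => by
        have := congrFun h7 k
        rw [Pi.neg_apply] at this
        exact (mul_eq_zero.1 (show (2 : F) * act r (bv 0) k = 0 by linear_combination this)).resolve_left h2
      refine AutPSU.act_ne_zero r (fun e0 => ?_) h8
      have := congrFun e0 (0 : Fin 4)
      simp [bv] at this

end Cfsg.Agent.Phan
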