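import Cfsg.Agent.Lib.Phan.ThreeBasic

/-!
The special unitary group of rank two over the field with nine elements.
-/

set_option autoImplicit false
set_option linter.unusedSectionVars false
set_option linter.unusedSimpArgs false
set_option linter.style.show false
set_option linter.style.haveILetI false
set_option maxHeartbeats 1000000

namespace Cfsg.Agent.Phan

open Matrix
open Cfsg.Agent.AutPSU (Conj h act act_mul act_one act_inv_act act_pres ext_act)

variable {F : Type*} [Field F] [Fintype F] {q : ℕ}

local notation "SU[" n "]" => Cfsg.SU n F q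

variable (C : Conj F q) (hF : Fintype.card F = q ^ 2) (hq : q = 3)
include C hF hq

theorem N_four (x : F) : N C x = x ^ 4 := by rw [N, C.apply_eq, ← pow_succ', hq]

theorem exists_i : ∃ a : F, N C a = 1 ∧ C.σ a = -a ∧ a * a = -1 := by
  classical
  obtain ⟨a, ha, hane⟩ : ∃ a : F, N C a = 1 ∧ C.σ a ≠ a := by
    by_contra! hh
    have h1 : Nat.card {a : F // N C a = 1} = q + 1 := by
      have := Hermitian.card_norm_fibre (σ := C.σ.toRingHom)
        (fun e => C.ne_one.elim fun μ hμ => hμ (RingHom.congr_fun e μ)) C.invol (map_one _) one_ne_zero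
      rwa [card_fixed C hF] at this
    have h2 : Nat.card {a : F // N C a = 1} ≤ Nat.card {a : F // a ∈ ({1, -1} : Finset F)} :=
      Nat.card_le_card_of_injective (fun a => ⟨a.1, by
        have := a.2
        rw [N, hh a.1 a.2, ← pow_two, sq_eq_one_iff] at this
        simpa using this⟩) fun a b e => Subtype.ext (congrArg (fun z => z.1) e :)
    rw [h1, Nat.card_eq_fintype_card, Fintype.card_coe] at h2
    have := Finset.card_le_two (a := (1 : F)) (b := -1)
    omega
  have h4 : a ^ 4 = 1 := (N_four C hF hq a).symm.trans ha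
  have hs : C.σ a = a ^ 3 := by rw [C.apply_eq, hq]
  have : (a * a - 1) * (a * a + 1) = 0 := by linear_combination h4
  rcases mul_eq_zero.1 this with e | e
  · exact absurd (by rw [hs]; linear_combination a * e) hane
  · exact ⟨a, ha, by rw [hs]; linear_combination a * e, by linear_combination e⟩

/-- A generator of the torus. -/
noncomputable def dq : SU[2] :=
  (exists_two C (a := (exists_i C hF hq).choose) (b := 0)
    (by rw [(exists_i C hF hq).choose_spec.1]; simp [N])).choose

omit hF hq in
/-- The exchange element. -/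
noncomputable def wq : SU[2] := (exists_two C (a := 0) (b := 1) (by simp [N])).choose

omit hF hq in
theorem wq_spec : en (wq C) 0 0 = 0 ∧ en (wq C) 0 1 = 1 :=
  (exists_two C (a := 0) (b := 1) (by simp [N])).choose_spec

theorem dq_spec : en (dq C hF hq) 0 1 = 0 ∧ C.σ (en (dq C hF hq) 0 0) = -en (dq C hF hq) 0 0 ∧
    en (dq C hF hq) 0 0 * en (dq C hF hq) 0 0 = -1 := by
  have h1 := (exists_two C (a := (exists_i C hF hq).choose) (b := 0)
    (by rw [(exists_i C hF hq).choose_spec.1]; simp [N])).choose_spec
  change en (dq C hF hq) 0 0 = _ ∧ en (dq C hF hq) 0 1 = 0 at h1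
  rw [h1.1]
  exact ⟨h1.2, (exists_i C hF hq).choose_spec.2.1, (exists_i C hF hq).choose_spec.2.2⟩

omit hF hq in
theorem wq_sq : wq C * wq C = m1 C := by
  obtain ⟨a, b⟩ := wq_spec C
  refine ext_two C ?_ ?_ <;>
    simp [en_mul2, a, b, (en_rel C (wq C)).1, (en_rel C (wq C)).2, (m1_spec C).1, (m1_spec C).2]

theorem dq_sq : dq C hF hq * dq C hF hq = m1 C := by
  obtain ⟨a, b, c⟩ := dq_spec C hF hq
  refine ext_two C ?_ ?_
  · rw [en_mul2, a, (m1_spec C).1, zero_mul, add_zero]; exact c
  · rw [en_mul2, a, (m1_spec C).2, (en_rel C (dq C hF hq)).2]; ring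

/-- Conjugation by the torus generator. -/
theorem dq_conj (s : SU[2]) : en (dq C hF hq * s * (dq C hF hq)⁻¹) 0 0 = en s 0 0 ∧
    en (dq C hF hq * s * (dq C hF hq)⁻¹) 0 1 = -en s 0 1 := by
  obtain ⟨a, b, c⟩ := dq_spec C hF hq
  obtain ⟨i00, i01, i10, i11⟩ := en_inv (dq C hF hq)
  obtain ⟨r10, r11⟩ := en_rel C (dq C hF hq)
  simp only [en_mul2, i00, i01, i10, i11, r10, r11, a, b, map_zero, neg_zero, mul_zero, zero_mul, add_zero, zero_add]
  exact ⟨by linear_combination (-(en s 0 0)) * c, by linear_combination (en s 0 1) * c⟩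

theorem dq_wq : dq C hF hq * wq C * (dq C hF hq)⁻¹ = m1 C * wq C := by
  obtain ⟨a, b⟩ := dq_conj C hF hq (wq C)
  obtain ⟨w0, w1⟩ := wq_spec C
  refine ext_two C ?_ ?_
  · rw [a, en_mul2, (m1_spec C).2, w0]; ring
  · rw [b, en_mul2, (m1_spec C).1, (m1_spec C).2, w1]; ring

theorem m1_ne : m1 C ≠ 1 := fun e => by
  have h0 := (m1_spec C).1
  rw [e] at h0
  simp [en] at h0
  exact two_ne hF hq (by linear_combination h0)

omit hF hq in
/-- The trace. -/
theorem sq_eq (s : SU[2]) (i j : Fin 2) :
    en (s * s) i j = (en s 0 0 + en s 1 1) * en s i j - if i = j then 1 else 0 := by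
  have hd := (s : Matrix.SpecialLinearGroup (Fin 2) F).2
  rw [Matrix.det_fin_two] at hd
  change en s 0 0 * en s 1 1 - en s 0 1 * en s 1 0 = 1 at hd
  rw [en_mul2]
  fin_cases i <;> fin_cases j <;> simp
  · linear_combination -hd
  · ring
  · ring
  · linear_combination -hd

theorem trace_cases (s : SU[2]) :
    s * s = m1 C ∨ s * s * s = 1 ∨ s * s * s = m1 C := by
  set t := en s 0 0 + en s 1 1 with ht
  have hfix : C.σ t = t := by rw [ht, (en_rel C s).2, map_add, C.invol, add_comm]
  rw [C.apply_eq, hq] at hfix
  have h3 := three_zero hF hq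
  have : t * ((t - 1) * (t + 1)) = 0 := by linear_combination hfix
  rcases mul_eq_zero.1 this with e | e
  · left
    refine ext_two C ?_ ?_
    · rw [sq_eq C, ← ht, e, (m1_spec C).1]; simp
    · rw [sq_eq C, ← ht, e, (m1_spec C).2]; simp
  · have hcube : ∀ j : Fin 2, en (s * s * s) 0 j = (t * t - 1) * en s 0 j - if (0 : Fin 2) = j then t else 0 := by
      intro j
      rw [en_mul2, sq_eq C, sq_eq C, ← ht]
      fin_cases j
      · simp
        have := sq_eq C s 0 0
        rw [en_mul2, ← ht] at this
        simp at this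
        linear_combination t * this
      · simp
        have := sq_eq C s 0 1
        rw [en_mul2, ← ht] at this
        simp at this
        linear_combination t * this
    rcases mul_eq_zero.1 e with e | e
    · right; right
      refine ext_two C ?_ ?_
      · rw [hcube, sub_eq_zero.1 e, (m1_spec C).1]; simp
      · rw [hcube, sub_eq_zero.1 e, (m1_spec C).2]; simp
    · right; left
      have e' : t = -1 := by linear_combination e
      refine ext_two C ?_ ?_
      · rw [hcube, e']; simp [en]
      · rw [hcube, e']; simp [en]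

theorem pow_twelve (s : SU[2]) : s ^ 12 = 1 := by
  have hm := m1_sq C
  rcases trace_cases C hF hq s with e | e | e
  · rw [show s ^ 12 = (s * s) * (s * s) * ((s * s) * (s * s)) * ((s * s) * (s * s)) by simp only [pow_succ, pow_zero, one_mul, mul_assoc], e, hm, one_mul, one_mul]
  · rw [show s ^ 12 = (s * s * s) * (s * s * s) * ((s * s * s) * (s * s * s)) by simp only [pow_succ, pow_zero, one_mul, mul_assoc], e, one_mul, one_mul]
  · rw [show s ^ 12 = (s * s * s) * (s * s * s) * ((s * s * s) * (s * s * s)) by simp only [pow_succ, pow_zero, one_mul, mul_assoc], e, hm, one_mul]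

theorem pow_four_shape {s : SU[2]} (hs : s ^ 4 = 1) : en s 0 1 = 0 ∨ en s 0 0 = 0 := by
  rcases trace_cases C hF hq s with e | e | e
  · have htr : en s 0 0 + C.σ (en s 0 0) = 0 ∨ en s 0 1 = 0 := by
      have h1 := sq_eq C s 0 1
      rw [e, (m1_spec C).2, (en_rel C s).2] at h1
      simpa [eq_comm] using mul_eq_zero.1 (show (en s 0 0 + C.σ (en s 0 0)) * en s 0 1 = 0 by
        simpa using h1.symm)
    rcases htr with htr | htr
    · refine or_iff_not_imp_left.2 fun hb => ?_
      by_contra ha
      have hA : en s 0 0 ^ 2 = -1 := by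
        have hs3 : C.σ (en s 0 0) = en s 0 0 ^ 3 := (C.apply_eq _).trans (congrArg (en s 0 0 ^ ·) hq)
        rw [hs3] at htr
        have : en s 0 0 * (1 + en s 0 0 ^ 2) = 0 := by linear_combination htr
        linear_combination (mul_eq_zero.1 this).resolve_left ha
      have := en_det C s
      rw [show N C (en s 0 0) = en s 0 0 ^ 4 from N_four C hF hq _, show en s 0 0 ^ 4 = (en s 0 0 ^ 2) ^ 2 by ring,
        hA] at this
      exact hb ((N_eq_zero C).1 (by linear_combination this))
    · exact Or.inl htr
  · have : s = 1 := by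
      rw [show s ^ 4 = s * s * s * s by simp only [pow_succ, pow_zero, one_mul, mul_assoc], e, one_mul] at hs
      exact hs
    exact Or.inl (by rw [this]; simp [en])
  · have : s = m1 C := by
      rw [show s ^ 4 = s * s * s * s by simp only [pow_succ, pow_zero, one_mul, mul_assoc], e] at hs
      exact (eq_inv_of_mul_eq_one_right hs).trans (inv_eq_of_mul_eq_one_right (m1_sq C))
    exact Or.inl (by rw [this]; exact (m1_spec C).2)

theorem mem_quat {s : SU[2]} (hs : s ^ 4 = 1) : s ∈ Subgroup.closure ({dq C hF hq, wq C} : Set SU[2]) := by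
  set Q := Subgroup.closure ({dq C hF hq, wq C} : Set SU[2])
  have hd : dq C hF hq ∈ Q := Subgroup.subset_closure (Or.inl rfl)
  have hw : wq C ∈ Q := Subgroup.subset_closure (Or.inr rfl)
  obtain ⟨d1, d2, d3⟩ := dq_spec C hF hq
  have key : ∀ u : SU[2], en u 0 1 = 0 → u ∈ Q := by
    intro u hu
    set i := en (dq C hF hq) 0 0
    have hN := en_det C u
    rw [hu, show N C (0 : F) = 0 by simp [N], add_zero, show N C (en u 0 0) = _ from N_four C hF hq _] at hN
    have hh : (en u 0 0 * en u 0 0 - 1) * (en u 0 0 * en u 0 0 + 1) = 0 := by linear_combination hN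
    have hm : m1 C ∈ Q := dq_sq C hF hq ▸ mul_mem hd hd
    rcases mul_eq_zero.1 hh with e | e
    · rcases mul_self_eq_one_iff.1 (sub_eq_zero.1 e) with e | e
      · rw [show u = 1 from ext_two C (by simpa [en] using e) (by simpa [en] using hu)]; exact one_mem _
      · rw [show u = m1 C from ext_two C (e.trans (m1_spec C).1.symm) (hu.trans (m1_spec C).2.symm)]; exact hm
    · have : (en u 0 0 - i) * (en u 0 0 + i) = 0 := by linear_combination e - d3
      rcases mul_eq_zero.1 this with e | e
      · rw [show u = dq C hF hq from ext_two C (sub_eq_zero.1 e) (hu.trans d1.symm)]; exact hd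
      · rw [show u = m1 C * dq C hF hq from ext_two C
          (by rw [en_mul2, (m1_spec C).1, (m1_spec C).2]; linear_combination e)
          (by rw [en_mul2, (m1_spec C).2, d1, hu]; ring)]
        exact mul_mem hm hd
  rcases pow_four_shape C hF hq hs with e | e
  · exact key s e
  · have h1 : s * wq C ∈ Q := key _ (by rw [en_mul2, e, (en_rel C (wq C)).2, (wq_spec C).1, map_zero]; ring)
    have := mul_mem h1 (inv_mem hw)
    rwa [mul_inv_cancel_right] at this

/-- Elements of order three generate. -/
theorem gen_cube : Subgroup.closure {s : SU[2] | s ^ 3 = 1} = ⊤ := by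
  classical
  haveI : Fact (Nat.Prime 3) := ⟨Nat.prime_three⟩
  set σ := C.σ.toRingHom with hσ
  have hne : σ ≠ RingHom.id F := fun e => C.ne_one.elim fun μ hμ => hμ (RingHom.congr_fun e μ)
  have hfix : Nat.card (Hermitian.fixed σ) = q := card_fixed C hF
  haveI := Fintype.ofFinite (Hermitian.fixed σ)
  obtain ⟨e⟩ := SU2.exists_equiv_SU2 (K := Hermitian.fixed σ) hne C.invol C.apply_eq hfix
    (by rw [← Nat.card_eq_fintype_card]; exact hfix)
  refine eq_top_iff.2 fun s _ => ?_
  have hmem : e s ∈ Subgroup.closure {t : SpecialLinearGroup (Fin 2) (Hermitian.fixed σ) | t ^ 3 = 1} := by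
    refine Subgroup.closure_mono ?_ (ClassicalSL.closure_elemTransvections.ge (Subgroup.mem_top (e s)))
    rintro _ ⟨i, j, hij, c, rfl⟩
    refine Subtype.ext ?_
    rw [Matrix.SpecialLinearGroup.coe_pow, pow_three]
    show _ = (1 : Matrix (Fin 2) (Fin 2) (Hermitian.fixed σ))
    rw [show ((SpecialLinearGroup.transvection hij c : SpecialLinearGroup (Fin 2) (Hermitian.fixed σ)) :
        Matrix (Fin 2) (Fin 2) (Hermitian.fixed σ)) = Matrix.transvection i j c from rfl,
      Matrix.transvection_mul_transvection_same _ _ hij, Matrix.transvection_mul_transvection_same _ _ hij,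
      show c + (c + c) = 0 from Subtype.ext (by
        show (c : F) + (c + c) = 0
        have := three_zero hF hq
        linear_combination (c : F) * this)]
    simp
  have h2 := Subgroup.mem_map_of_mem e.symm.toMonoidHom hmem
  rw [MonoidHom.map_closure] at h2
  refine Subgroup.closure_mono ?_ (by simpa using h2)
  rintro _ ⟨t, ht, rfl⟩
  show (e.symm t) ^ 3 = 1
  rw [← map_pow, show t ^ 3 = 1 from ht, map_one]

end Cfsg.Agent.Phan
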