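import Cfsg.Agent.Lib.Phan.Normalise

/-!
Special unitary groups over the field with four elements: transitivity, generation and the two standard blocks.
-/

set_option autoImplicit false
set_option linter.unusedSectionVars false
set_option linter.unusedSimpArgs false
set_option linter.style.show false
set_option maxHeartbeats 1000000

namespace Cfsg.Agent.Phan.Two

open Matrix
open Cfsg.Agent.AutPSU (Conj h act act_mul act_one act_inv_act act_pres ext_act add_left add_right smul_left
  smul_right sub_left sub_right self_fixed eq_zero_comm)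

variable {F : Type*} [Field F] [Fintype F]

local notation "SU[" n "]" => Cfsg.SU n F 2
local notation "𝕙" => h (q := 2)

variable (C : Conj F 2) (hF : Fintype.card F = 2 ^ 2)

section field

include C hF

theorem two_zero : (2 : F) = 0 := by
  have h4 : ((Fintype.card F : ℕ) : F) = 0 := FiniteField.cast_card_eq_zero F
  rw [hF] at h4
  push_cast at h4
  exact mul_self_eq_zero.1 (by linear_combination h4)

theorem add_self (x : F) : x + x = 0 := by rw [← two_mul, two_zero C hF, zero_mul]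

theorem neg_eq (x : F) : -x = x := neg_eq_of_add_eq_zero_left (add_self C hF x)

theorem cube {x : F} (hx : x ≠ 0) : x ^ 3 = 1 := by
  have := FiniteField.pow_card_sub_one_eq_one x hx
  rwa [hF] at this

theorem sigma_sq (x : F) : C.σ x = x ^ 2 := C.apply_eq x

theorem N_ne {x : F} (hx : x ≠ 0) : N C x = 1 := by
  rw [N, sigma_sq C hF, ← pow_succ', cube C hF hx]

theorem self_cases {n : ℕ} (v : Fin n → F) : 𝕙 v v = 0 ∨ 𝕙 v v = 1 := by
  have h1 := self_fixed C v
  rw [sigma_sq C hF] at h1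
  rcases eq_or_ne (𝕙 v v) 0 with e | e
  · exact Or.inl e
  · exact Or.inr (mul_right_cancel₀ e (by rw [one_mul, ← pow_two]; exact h1))

theorem exists_omega : ∃ ω : F, ω ≠ 0 ∧ ω ≠ 1 ∧ ω ^ 3 = 1 ∧ ω ^ 2 + ω + 1 = 0 := by
  classical
  obtain ⟨ω, hω⟩ : ∃ ω : F, ω ∉ ({0, 1} : Finset F) := by
    by_contra! hc
    have h1 : (Finset.univ : Finset F) ⊆ {0, 1} := fun x _ => hc x
    have h2 := (Finset.card_le_card h1).trans Finset.card_le_two
    rw [Finset.card_univ, hF] at h2
    omega
  simp only [Finset.mem_insert, Finset.mem_singleton, not_or] at hω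
  refine ⟨ω, hω.1, hω.2, cube C hF hω.1, ?_⟩
  have : (ω - 1) * (ω ^ 2 + ω + 1) = 0 := by linear_combination cube C hF hω.1
  exact (mul_eq_zero.1 this).resolve_left (sub_ne_zero.2 hω.2)

end field

section gen

include C hF

/-- Moving one coordinate vector with another one fixed. -/
theorem stab_move {k : ℕ} (hk : 2 ≤ k) {u : Fin (k + 1) → F} (hu : 𝕙 u u = 1)
    (hue : 𝕙 u (bv (Fin.last k)) = 0) (j : Fin (k + 1)) (hj : (j : ℕ) < k) :
    ∃ t : SU[k], act (emb 0 (show 0 + k ≤ k + 1 by omega) t : SU[k + 1]) (bv j) = u := by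
  obtain ⟨s, hs⟩ := exists_su (q := 2) C (show 2 < k + 1 by omega)
    (x := ![bv (Fin.last k), bv j]) (y := ![bv (Fin.last k), u])
    (gram_pair C hF (bv_unit C _) (bv_unit C _) (bv_orth C (fun e => by rw [← e] at hj; simp at hj)))
    (gram_pair C hF (bv_unit C _) hu ((eq_zero_comm C).1 hue))
  obtain ⟨t, ht⟩ := emb_range (F := F) (q := 2) 0 (show 0 + k ≤ k + 1 by omega) C s fun i hi => by
    obtain rfl : i = Fin.last k := Fin.ext (by simp; omega)
    exact hs 0
  exact ⟨t, by rw [ht]; exact hs 1⟩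

/-- The orthogonality graph has diameter two. -/
theorem exists_middle {n : ℕ} (hn : 4 ≤ n) {e v : Fin n → F} (he : 𝕙 e e = 1) :
    ∃ y : Fin n → F, 𝕙 y y = 1 ∧ 𝕙 y e = 0 ∧ 𝕙 y v = 0 := by
  obtain ⟨y, y1, y2, y3⟩ := perp2 C hF hn he (w := v - 𝕙 v e • e)
    (by rw [sub_left C, smul_left C, he, mul_one, sub_self])
  refine ⟨y, y1, y2, ?_⟩
  rw [show v = (v - 𝕙 v e • e) + 𝕙 v e • e by abel, add_right C, smul_right C, y3, y2]
  ring

/-- The stabiliser of a coordinate vector and one element moving it generate. -/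
theorem gen_step {k : ℕ} (hk : 3 ≤ k) (H : Subgroup SU[k + 1])
    (h0 : ∀ s : SU[k], emb 0 (show 0 + k ≤ k + 1 by omega) s ∈ H) (w : SU[k + 1]) (hw : w ∈ H)
    (hwe : act w (bv (Fin.last k)) = bv ⟨k - 1, by omega⟩) : H = ⊤ := by
  set e : Fin (k + 1) → F := bv (Fin.last k) with he
  have step : ∀ g ∈ H, ∀ u, 𝕙 u u = 1 → 𝕙 u (act g e) = 0 → ∃ g' ∈ H, act g' e = u := by
    intro g hg u hu hue
    obtain ⟨t, ht⟩ := stab_move C hF (show 2 ≤ k by omega) (u := act g⁻¹ u) (by rw [act_pres]; exact hu)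
      (by rw [h_act_left, inv_inv]; exact hue) ⟨k - 1, by omega⟩ (show k - 1 < k by omega)
    refine ⟨g * (emb 0 _ t * w), mul_mem hg (mul_mem (h0 t) hw), ?_⟩
    rw [act_mul, act_mul, hwe, ht, AutPSU.act_act_inv]
  refine Subgroup.eq_top_iff' H |>.2 fun x => ?_
  have hxu : 𝕙 (act x e) (act x e) = 1 := by rw [act_pres]; exact bv_unit C _
  obtain ⟨y, y1, y2, y3⟩ := exists_middle C hF (show 4 ≤ k + 1 by omega) (e := e) (v := act x e) (bv_unit C _)
  obtain ⟨g, hg, hge⟩ := step 1 (one_mem H) y y1 (by rw [act_one]; exact y2)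
  obtain ⟨g', hg', hge'⟩ := step g hg (act x e) hxu (by rw [hge]; exact (eq_zero_comm C).1 y3)
  obtain ⟨t, ht⟩ := emb_range (F := F) (q := 2) 0 (show 0 + k ≤ k + 1 by omega) C (g'⁻¹ * x) fun i hi => by
    obtain rfl : i = Fin.last k := Fin.ext (by simp; omega)
    rw [act_mul, ← he, ← hge', act_inv_act]
  have h1 : g'⁻¹ * x ∈ H := ht ▸ h0 t
  simpa using mul_mem hg' h1

/-- The blocks of three generate. -/
theorem gen_three : ∀ {k : ℕ}, 3 ≤ k → ∀ (H : Subgroup SU[k]),
    (∀ (i : ℕ) (hi : i + 3 ≤ k) (s : SU[3]), emb i hi s ∈ H) → H = ⊤ := by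
  intro k hk
  induction k, hk using Nat.le_induction with
  | base =>
    intro H hH
    refine Subgroup.eq_top_iff' H |>.2 fun s => ?_
    have := hH 0 le_rfl s
    convert this using 1
    exact ext_act fun v => funext fun x => by rw [emb_in 0 _ s v x x (by simp)]; simp
  | succ k hk ih =>
    intro H hH
    have h0 : ∀ s : SU[k], emb 0 (show 0 + k ≤ k + 1 by omega) s ∈ H := fun s => by
      have := ih (H.comap (emb 0 (show 0 + k ≤ k + 1 by omega))) fun i hi r => by
        rw [Subgroup.mem_comap, emb_emb 0 _ i hi i (by omega) (by omega) r]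
        exact hH i (by omega) r
      exact Subgroup.mem_comap.1 (this ▸ Subgroup.mem_top s)
    obtain ⟨r, hr⟩ := exists_map_one C hF (n := 3) (by omega) (bv_unit C (2 : Fin 3)) (bv_unit C 1)
    exact gen_step C hF hk H h0 _ (hH (k - 2) (by omega) r)
      (emb_bv_eq (k - 2) _ r 2 1 _ _ (by simp; omega) (by simp; omega) hr)

end gen

end Cfsg.Agent.Phan.Two
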