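import Cfsg.Agent.Lib.Phan.TwoBase

/-!
A covering of the orthogonality graph of unit vectors over the field with four elements in which triangles lift,
and, in dimension six, the squares split by a non-degenerate three-space lift, is trivial.
-/

set_option autoImplicit false
set_option linter.unusedSectionVars false
set_option linter.unusedSimpArgs false
set_option linter.style.show false
set_option maxHeartbeats 1000000

namespace Cfsg.Agent.Phan.Two

open Cfsg.Agent.AutPSU (Conj h isHerm add_left add_right smul_left smul_right sub_left sub_right zero_left zero_right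
  self_fixed eq_zero_comm)

variable {F : Type*} [Field F] [Fintype F] {n : ℕ}

local notation "𝕙" => h (q := 2)

/-- A covering of the orthogonality graph. -/
structure Cov (C : Conj F 2) (n : ℕ) (X : Type*) where
  p : X → Fin n → F
  Adj : X → X → Prop
  orth : ∀ {x y}, Adj x y → 𝕙 (p x) (p y) = 0
  unit : ∀ x, 𝕙 (p x) (p x) = 1
  symm : ∀ {x y}, Adj x y → Adj y x
  lift : ∀ x v, 𝕙 v v = 1 → 𝕙 (p x) v = 0 → ∃ y, Adj x y ∧ p y = v
  uniq : ∀ {x y y'}, Adj x y → Adj x y' → p y = p y' → y = y'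
  tri : ∀ {x y z}, Adj x y → Adj y z → 𝕙 (p x) (p z) = 0 → Adj x z
  bad : n = 6 → ∀ {x y z y' z'} (f : Fin 3 → Fin n → F) (co : Fin 3 → F), ON (q := 2) f → f 2 = p x →
    p z = ∑ i, co i • f i → (∀ i, 𝕙 (p y) (f i) = 0) → (∀ i, 𝕙 (p y') (f i) = 0) →
    Adj x y → Adj y z → Adj x y' → Adj y' z' → p z = p z' → z = z'

namespace Cov

variable {C : Conj F 2} {X : Type*} (K : Cov C n X)

/-- A square lifts to a square. -/
def Sq (a c b d : Fin n → F) : Prop :=
  ∀ x y z y' z', K.p x = a → K.p y = b → K.p y' = d → K.p z = c → K.p z' = c →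
    K.Adj x y → K.Adj y z → K.Adj x y' → K.Adj y' z' → z = z'

variable {a b c d : Fin n → F}

theorem sq_orth (hbd : 𝕙 b d = 0) : K.Sq a c b d := by
  intro x y z y' z' hx hy hy' hz hz' xy yz xy' yz'
  have h1 : K.Adj y y' := K.tri (K.symm xy) xy' (by rw [hy, hy', hbd])
  have h2 : K.Adj y z' := K.tri h1 yz' (by rw [hz', ← hz]; exact K.orth yz)
  exact K.uniq yz h2 (hz.trans hz'.symm)

theorem sq_rot (hdc : 𝕙 d c = 0) (hc : 𝕙 c c = 1) (S : K.Sq a c b d) :
    K.Sq b d a c := by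
  intro x y z y' z' hx hy hy' hz hz' xy yz xy' yz'
  obtain ⟨w, zw, hw⟩ := K.lift z c hc (by rw [hz]; exact hdc)
  have e : y' = w := S y x y' z w hy hx hz hy' hw (K.symm xy) xy' yz zw
  exact K.uniq (K.symm (e ▸ zw)) yz' (hz.trans hz'.symm)

/-- A square with a vertex orthogonal to all its vertices lifts. -/
theorem sq_common {e : Fin n → F} (he : 𝕙 e e = 1) (ea : 𝕙 e a = 0) (eb : 𝕙 e b = 0) (ec : 𝕙 e c = 0)
    (ed : 𝕙 e d = 0) : K.Sq a c b d := by
  intro x y z y' z' hx hy hy' hz hz' xy yz xy' yz'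
  obtain ⟨E, xE, hE⟩ := K.lift x e he (by rw [hx]; exact (eq_zero_comm C).1 ea)
  have h1 : K.Adj E y := K.tri (K.symm xE) xy (by rw [hE, hy, eb])
  have h2 : K.Adj E z := K.tri h1 yz (by rw [hE, hz, ec])
  have h3 : K.Adj E y' := K.tri (K.symm xE) xy' (by rw [hE, hy', ed])
  have h4 : K.Adj E z' := K.tri h3 yz' (by rw [hE, hz', ec])
  exact K.uniq h2 h4 (hz.trans hz'.symm)

variable (hF : Fintype.card F = 2 ^ 2) (hn : 5 ≤ n)
include hF hn

/-- Every square lifts. -/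
theorem sq_all (ha : 𝕙 a a = 1) (hb : 𝕙 b b = 1) (hc : 𝕙 c c = 1) (hd : 𝕙 d d = 1) (hab : 𝕙 a b = 0)
    (had : 𝕙 a d = 0) (hbc : 𝕙 b c = 0) (hdc : 𝕙 d c = 0) : K.Sq a c b d := by
  have hba := (eq_zero_comm C).1 hab
  have hcd := (eq_zero_comm C).1 hdc
  have hda := (eq_zero_comm C).1 had
  have hcb := (eq_zero_comm C).1 hbc
  by_cases hbd : 𝕙 b d = 0
  · exact K.sq_orth hbd
  by_cases hac : 𝕙 a c = 0
  · exact K.sq_rot hcd hd (K.sq_orth hac)
  obtain ⟨α, hα, hα'⟩ : ∃ α, 𝕙 c a = α ∧ N C α = 1 :=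
    ⟨_, rfl, N_ne C hF fun e => hac ((eq_zero_comm C).1 e)⟩
  obtain ⟨β, hβ, hβ'⟩ : ∃ β, 𝕙 d b = β ∧ N C β = 1 :=
    ⟨_, rfl, N_ne C hF fun e => hbd ((eq_zero_comm C).1 e)⟩
  obtain ⟨r, hr⟩ : ∃ v, v = c - α • a := ⟨_, rfl⟩
  obtain ⟨r', hr'⟩ : ∃ v, v = d - β • b := ⟨_, rfl⟩
  have ra : 𝕙 r a = 0 := by rw [hr, sub_left C, smul_left C, ha, hα, mul_one, sub_self]
  have rb : 𝕙 r b = 0 := by rw [hr, sub_left C, smul_left C, hcb, hab, mul_zero, sub_zero]
  have rr : 𝕙 r r = 0 := by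
    rw [hr, sub_left C, smul_left C, sub_right C, sub_right C, smul_right C, smul_right C, hc, hα,
      AutPSU.symm C c a, hα, ha]
    rw [N] at hα'
    linear_combination -hα'
  have r'a : 𝕙 r' a = 0 := by rw [hr', sub_left C, smul_left C, hda, hba, mul_zero, sub_zero]
  have r'b : 𝕙 r' b = 0 := by rw [hr', sub_left C, smul_left C, hb, hβ, mul_one, sub_self]
  have r'r' : 𝕙 r' r' = 0 := by
    rw [hr', sub_left C, smul_left C, sub_right C, sub_right C, smul_right C, smul_right C, hd, hβ,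
      AutPSU.symm C d b, hβ, hb]
    rw [N] at hβ'
    linear_combination -hβ'
  have r'r : 𝕙 r' r = 0 := by
    rw [hr', hr, sub_left C, smul_left C, sub_right C, sub_right C, smul_right C, smul_right C, hdc, hda, hbc, hba]
    ring
  have hd' : d = β • b + r' := by rw [hr']; abel
  have hc' : c = α • a + r := by rw [hr]; abel
  have finish : ∀ e, 𝕙 e e = 1 → 𝕙 e a = 0 → 𝕙 e b = 0 → 𝕙 e r = 0 → 𝕙 e r' = 0 → K.Sq a c b d :=
    fun e he ea eb er er' => K.sq_common he ea eb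
      (by rw [hc', add_right C, smul_right C, ea, er, mul_zero, add_zero])
      (by rw [hd', add_right C, smul_right C, eb, er', mul_zero, add_zero])
  by_cases hr'0 : r' = 0
  · obtain ⟨e, e1, ea, eb, er⟩ := perp3 C hF (by omega) ha hb hab ra rb (Or.inl hn)
    exact finish e e1 ea eb er (by rw [hr'0, zero_right C])
  by_cases hdep : ∃ t : F, r = t • r'
  · obtain ⟨t, ht⟩ := hdep
    obtain ⟨e, e1, ea, eb, er⟩ := perp3 C hF (by omega) ha hb hab r'a r'b (Or.inl hn)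
    exact finish e e1 ea eb (by rw [ht, smul_right C, er, mul_zero]) er
  -- a non-degenerate three-space through a and c
  obtain ⟨s', sa', sb', rs', sr', ss'⟩ := exists_iso_partner C hF ha hb hab r'a r'b hr'0 r'r'
  obtain ⟨lam, hlam⟩ : ∃ v, v = 𝕙 r s' := ⟨_, rfl⟩
  obtain ⟨w, hw⟩ : ∃ v, v = r - lam • r' := ⟨_, rfl⟩
  have w0 : w ≠ 0 := fun e => hdep ⟨lam, sub_eq_zero.1 (by rw [← hw]; exact e)⟩
  have wa : 𝕙 w a = 0 := by rw [hw, sub_left C, smul_left C, ra, r'a, mul_zero, sub_zero]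
  have wb : 𝕙 w b = 0 := by rw [hw, sub_left C, smul_left C, rb, r'b, mul_zero, sub_zero]
  have rr'' : 𝕙 r r' = 0 := (eq_zero_comm C).1 r'r
  have wr' : 𝕙 w r' = 0 := by rw [hw, sub_left C, smul_left C, rr'', r'r', mul_zero, sub_zero]
  have ws' : 𝕙 w s' = 0 := by rw [hw, sub_left C, smul_left C, rs', mul_one, hlam, sub_self]
  have ww : 𝕙 w w = 0 := by
    rw [hw, sub_left C, smul_left C, sub_right C, sub_right C, smul_right C, smul_right C, rr, rr'', r'r, r'r']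
    ring
  have har' := (eq_zero_comm C).1 r'a
  have hbr' := (eq_zero_comm C).1 r'b
  have has' := (eq_zero_comm C).1 sa'
  have hbs' := (eq_zero_comm C).1 sb'
  have hg4 : ∀ co : Fin 4 → F, (∀ j, ∑ i, co i * 𝕙 (![a, b, r', s'] i) (![a, b, r', s'] j) = 0) → co = 0 := by
    intro co hco
    have e0 := hco 0
    have e1 := hco 1
    have e2 := hco 2
    have e3 := hco 3
    simp [Fin.sum_univ_four, ha, hb, hab, hba, r'a, r'b, har', hbr', sa', sb', has', hbs', rs', sr', r'r', ss']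
      at e0 e1 e2 e3
    funext i; fin_cases i
    exacts [e0, e1, e3, e2]
  have hh := isHerm (n := n) C
  obtain ⟨hdim, hW, -⟩ := hh.orth_spec hg4
  have hwW : w ∈ hh.orth ![a, b, r', s'] := hh.mem_orth.2 fun i => by fin_cases i <;> assumption
  obtain ⟨y, hy⟩ : ∃ y : hh.orth ![a, b, r', s'], 𝕙 w y.1 ≠ 0 := by
    by_contra! hcon
    exact w0 (congrArg Subtype.val (hW.nondeg ⟨w, hwW⟩ hcon) :)
  have ym := hh.mem_orth.1 y.2
  obtain ⟨s0, hs0⟩ : ∃ v, v = C.σ (𝕙 w y.1)⁻¹ • y.1 := ⟨_, rfl⟩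
  have s0a : 𝕙 s0 a = 0 := by rw [hs0, smul_left C]; exact mul_eq_zero_of_right _ (ym 0)
  have s0b : 𝕙 s0 b = 0 := by rw [hs0, smul_left C]; exact mul_eq_zero_of_right _ (ym 1)
  have s0r' : 𝕙 s0 r' = 0 := by rw [hs0, smul_left C]; exact mul_eq_zero_of_right _ (ym 2)
  have s0s' : 𝕙 s0 s' = 0 := by rw [hs0, smul_left C]; exact mul_eq_zero_of_right _ (ym 3)
  have ws0 : 𝕙 w s0 = 1 := by rw [hs0, smul_right C, C.invol, inv_mul_cancel₀ hy]
  obtain ⟨t, ht⟩ := exists_trace C (x := 𝕙 s0 s0) (self_fixed C s0)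
  obtain ⟨s, hs⟩ : ∃ v, v = s0 + t • w := ⟨_, rfl⟩
  have sa : 𝕙 s a = 0 := by rw [hs, add_left C, smul_left C, s0a, wa, mul_zero, add_zero]
  have sb : 𝕙 s b = 0 := by rw [hs, add_left C, smul_left C, s0b, wb, mul_zero, add_zero]
  have sr'0 : 𝕙 s r' = 0 := by rw [hs, add_left C, smul_left C, s0r', wr', mul_zero, add_zero]
  have ss'0 : 𝕙 s s' = 0 := by rw [hs, add_left C, smul_left C, s0s', ws', mul_zero, add_zero]
  have hws : 𝕙 w s = 1 := by rw [hs, add_right C, smul_right C, ws0, ww, mul_zero, add_zero]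
  have hsw : 𝕙 s w = 1 := by rw [AutPSU.symm C w, hws, map_one]
  have hss : 𝕙 s s = 0 := by
    rw [hs, add_left C, add_right C, add_right C, smul_left C, smul_left C, smul_right C, smul_right C, ws0, ww,
      AutPSU.symm C w s0, ws0, map_one]
    linear_combination ht + 𝕙 s0 s0 * two_zero C hF
  have hr_eq : r = w + lam • r' := by rw [hw]; abel
  have rs : 𝕙 r s = 1 := by
    rw [hr_eq, add_left C, smul_left C, hws, (eq_zero_comm C).1 sr'0, mul_zero, add_zero]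
  have sr : 𝕙 s r = 1 := by rw [AutPSU.symm C r, rs, map_one]
  have haw := (eq_zero_comm C).1 wa
  have hbw := (eq_zero_comm C).1 wb
  have hr'w := (eq_zero_comm C).1 wr'
  have hs'w := (eq_zero_comm C).1 ws'
  have has := (eq_zero_comm C).1 sa
  have hbs := (eq_zero_comm C).1 sb
  have hr's := (eq_zero_comm C).1 sr'0
  have hs's := (eq_zero_comm C).1 ss'0
  have hg6 : ∀ co : Fin 6 → F,
      (∀ j, ∑ i, co i * 𝕙 (![a, b, r', s', w, s] i) (![a, b, r', s', w, s] j) = 0) → co = 0 := by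
    intro co hco
    have e0 := hco 0
    have e1 := hco 1
    have e2 := hco 2
    have e3 := hco 3
    have e4 := hco 4
    have e5 := hco 5
    simp [Fin.sum_univ_six, ha, hb, hab, hba, r'a, r'b, har', hbr', sa', sb', has', hbs', rs', sr', r'r', ss', wa,
      wb, wr', ws', ww, haw, hbw, hr'w, hs'w, sa, sb, sr'0, ss'0, has, hbs, hr's, hs's, hws, hsw, hss]
      at e0 e1 e2 e3 e4 e5
    funext i; fin_cases i
    exacts [e0, e1, e3, e2, e5, e4]
  have hli := (isHerm (n := n) C).linearIndependent_of_gram hg6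
  have h6 : 6 ≤ n := by
    have := hli.fintype_card_le_finrank
    rwa [Module.finrank_fintype_fun_eq_card, Fintype.card_fin, Fintype.card_fin] at this
  rcases Nat.lt_or_ge 6 n with h7 | h7
  · obtain ⟨e, e1, eo⟩ := exists_perp_unit C ![a, b, r', s', w, s] hg6 h7
    refine finish e e1 (eo 0) (eo 1) ?_ (eo 2)
    rw [hr_eq, add_right C, smul_right C, show 𝕙 e w = 0 from eo 4, show 𝕙 e r' = 0 from eo 2, mul_zero, add_zero]
  · obtain ⟨ω, -, -, h3, hp⟩ := exists_omega C hF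
    have h2 := two_zero C hF
    set f : Fin 3 → Fin n → F := ![r + ω • s, r + ω ^ 2 • s, a] with hf
    have hsig : C.σ ω = ω ^ 2 := sigma_sq C hF ω
    have hrs' : 𝕙 a r = 0 := (eq_zero_comm C).1 ra
    have has2 := (eq_zero_comm C).1 sa
    have hON : ON (q := 2) f := by
      intro i j
      fin_cases i <;> fin_cases j <;>
        simp [f, add_left C, add_right C, smul_left C, smul_right C, rr, rs, sr, hss, ra, hrs', sa, has2, ha,
          hsig, map_pow] <;> grind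
    have hcf : c = ∑ i, ![ω ^ 2, ω, α] i • f i := by
      rw [Fin.sum_univ_three, hc']
      funext k
      simp [f]
      grind
    have perp : ∀ u, 𝕙 u a = 0 → 𝕙 u r = 0 → 𝕙 u s = 0 → ∀ i, 𝕙 u (f i) = 0 := by
      intro u ua ur us i
      fin_cases i <;> simp [f, add_right C, smul_right C, ua, ur, us]
    intro x y z y' z' hx hy hy' hz hz' xy yz xy' yz'
    refine K.bad (by omega) f ![ω ^ 2, ω, α] hON (by rw [hx]; rfl) (by rw [hz]; exact hcf)
      (by rw [hy]; exact perp b hba ((eq_zero_comm C).1 rb) hbs) (by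
        rw [hy']
        refine perp d hda ?_ ?_
        · rw [hd', add_left C, smul_left C, (eq_zero_comm C).1 rb, r'r, mul_zero, add_zero]
        · rw [hd', add_left C, smul_left C, hbs, hr's, mul_zero, add_zero])
      xy yz xy' yz' (hz.trans hz'.symm)

/-- Paths of length three shorten. -/
theorem apex {x y z w : X} (xy : K.Adj x y) (yz : K.Adj y z) (zw : K.Adj z w) :
    ∃ y', K.Adj x y' ∧ K.Adj y' w := by
  obtain ⟨av, hx⟩ : ∃ v, K.p x = v := ⟨_, rfl⟩
  obtain ⟨cv, hz⟩ : ∃ v, K.p z = v := ⟨_, rfl⟩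
  obtain ⟨dv, hw⟩ : ∃ v, K.p w = v := ⟨_, rfl⟩
  have cu : 𝕙 cv cv = 1 := hz ▸ K.unit z
  have du : 𝕙 dv dv = 1 := hw ▸ K.unit w
  have cd : 𝕙 cv dv = 0 := by rw [← hz, ← hw]; exact K.orth zw
  have dc := (eq_zero_comm C).1 cd
  obtain ⟨t, ht⟩ : ∃ v, v = av - 𝕙 av cv • cv - 𝕙 av dv • dv := ⟨_, rfl⟩
  obtain ⟨e, e1, ec, ed, et⟩ := perp3 C hF (show 4 ≤ n by omega) cu du cd (w := t)
    (by rw [ht, sub_left C, sub_left C, smul_left C, smul_left C, cu, dc]; ring)
    (by rw [ht, sub_left C, sub_left C, smul_left C, smul_left C, cd, du]; ring) (Or.inl hn)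
  have ea : 𝕙 e av = 0 := by
    rw [show av = t + 𝕙 av cv • cv + 𝕙 av dv • dv by rw [ht]; abel, add_right C, add_right C, smul_right C,
      smul_right C, et, ec, ed]
    ring
  obtain ⟨Y, xY, hY⟩ := K.lift x e e1 (by rw [hx]; exact (eq_zero_comm C).1 ea)
  obtain ⟨Z, YZ, hZ⟩ := K.lift Y cv cu (by rw [hY]; exact ec)
  have e2 : z = Z := K.sq_all hF hn (K.unit x) (K.unit y) (K.unit z) (K.unit Y) (K.orth xy) (K.orth xY) (K.orth yz)
    (by rw [hY, hz]; exact ec) x y z Y Z rfl rfl rfl rfl (hZ.trans hz.symm) xy yz xY YZ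
  subst e2
  exact ⟨Y, xY, K.tri YZ zw (by rw [hY, hw]; exact ed)⟩

/-- The covering is trivial on a component. -/
theorem exists_section (x0 : X) :
    ∃ R : Set X, x0 ∈ R ∧ (∀ x y, x ∈ R → K.Adj x y → y ∈ R) ∧
      (∀ x y, x ∈ R → y ∈ R → K.p x = K.p y → x = y) ∧ (∀ v, 𝕙 v v = 1 → ∃ x ∈ R, K.p x = v) := by
  refine ⟨{z | ∃ y, K.Adj x0 y ∧ K.Adj y z}, ?_, ?_, ?_, ?_⟩
  · obtain ⟨g, g1, g2, -⟩ := perp2 C hF (show 4 ≤ n by omega) (K.unit x0) (zero_left C (K.p x0))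
    obtain ⟨Y, xY, -⟩ := K.lift x0 g g1 ((eq_zero_comm C).1 g2)
    exact ⟨Y, xY, K.symm xY⟩
  · rintro z w ⟨y, xy, yz⟩ zw
    exact K.apex hF hn xy yz zw
  · rintro z z' ⟨y, xy, yz⟩ ⟨y', xy', yz'⟩ e
    exact K.sq_all hF hn (K.unit x0) (K.unit y) (K.unit z) (K.unit y') (K.orth xy) (K.orth xy') (K.orth yz)
      (by rw [e]; exact K.orth yz') x0 y z y' z' rfl rfl rfl rfl e.symm xy yz xy' yz'
  · intro v hv
    obtain ⟨g, g1, ge, gv⟩ := exists_middle C hF (show 4 ≤ n by omega) (e := K.p x0) (v := v) (K.unit x0)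
    obtain ⟨Y, xY, hY⟩ := K.lift x0 g g1 ((eq_zero_comm C).1 ge)
    obtain ⟨z, Yz, hz⟩ := K.lift Y v hv (by rw [hY]; exact gv)
    exact ⟨z, ⟨Y, xY, Yz⟩, hz⟩

end Cov

end Cfsg.Agent.Phan.Two
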