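import Cfsg.Agent.Lib.Phan.TwoSmall

/-!
Three commuting tori elements and three involutions of `SU₄(2)` satisfying the relations of the standard blocks are
the images of the standard ones under an automorphism.
-/

set_option autoImplicit false
set_option linter.unusedSectionVars false
set_option linter.unusedSimpArgs false
set_option linter.style.show false
set_option maxHeartbeats 1000000

namespace Cfsg.Agent.Phan.Two

open Matrix
open Cfsg.Agent.AutPSU (Conj h act act_mul act_one act_inv_act act_pres ext_act suConj sm add_left add_right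
  smul_left smul_right sub_left sub_right self_fixed eq_zero_comm)

variable {F : Type*} [Field F] [Fintype F]

local notation "SU[" n "]" => Cfsg.SU n F 2
local notation "𝕙" => h (q := 2)
local notation "T3" => ZMod 3 × ZMod 3 × ZMod 3

/-- The reflections on weights. -/
def refl3 (j : Fin 3) (a : T3) : T3 :=
  ![(-a.1, a.1 + a.2.1, a.2.2), (a.1 + a.2.1, -a.2.1, a.2.1 + a.2.2), (a.1, a.2.1 + a.2.2, -a.2.2)] j

/-- Coordinates of a weight. -/
def co3 (a : T3) (j : Fin 3) : ZMod 3 := ![a.1, a.2.1, a.2.2] j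

/-- Closure step. -/
def step3 (s : Finset T3) : Finset T3 := s ∪ Finset.univ.biUnion fun j => s.image (refl3 j)

theorem orbit3 : ∀ a : T3, a ≠ 0 → 5 ≤ (step3 (step3 (step3 (step3 {a})))).card ∨
    (1, 0, 0) ∈ step3 (step3 (step3 (step3 {a}))) ∨ (2, 0, 0) ∈ step3 (step3 (step3 (step3 {a}))) := by
  decide +kernel

variable (C : Conj F 2) (hF : Fintype.card F = 2 ^ 2)
include C hF

local notation "ω" => om C hF

/-- Powers of the cube root. -/
noncomputable def pz (a : ZMod 3) : F := ω ^ a.val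

theorem pz_add (a b : ZMod 3) : pz C hF (a + b) = pz C hF a * pz C hF b := by
  obtain ⟨-, -, h3, -⟩ := om_spec C hF
  rw [pz, pz, pz, ← pow_add, pow_eq_pow_mod (a.val + b.val) h3, ZMod.val_add]

theorem pz_zero : pz C hF 0 = 1 := by rw [pz, ZMod.val_zero, pow_zero]

theorem pz_ne (a : ZMod 3) : pz C hF a ≠ 0 := pow_ne_zero _ (om_spec C hF).1

theorem pz_inj {a b : ZMod 3} (h : pz C hF a = pz C hF b) : a = b := by
  obtain ⟨h0, h1, -, -⟩ := om_spec C hF
  obtain ⟨h2, h2'⟩ := om_sq_ne C hF
  have hv : ∀ c : ZMod 3, c = 0 ∨ c = 1 ∨ c = 2 := by decide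
  have e0 : (0 : ZMod 3).val = 0 := rfl
  have e1 : (1 : ZMod 3).val = 1 := rfl
  have e2 : (2 : ZMod 3).val = 2 := rfl
  rcases hv a with rfl | rfl | rfl <;> rcases hv b with rfl | rfl | rfl <;> simp only [pz, e0, e1, e2] at h <;>
    first
    | rfl
    | simp [h1, h1.symm, h2, h2.symm, h2', h2'.symm] at h

theorem pz_sigma (a : ZMod 3) : C.σ (pz C hF a) = pz C hF (-a) := by
  rw [sigma_sq C hF, pow_two, ← pz_add, show a + a = -a by revert a; decide]

theorem pz_cube (a : ZMod 3) : pz C hF a ^ 3 = 1 := cube C hF (pz_ne C hF a)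

theorem three_eq_one : (3 : F) = 1 := by linear_combination two_zero C hF

/-- A projection onto an eigenspace. -/
noncomputable def proj {n : ℕ} (D : SU[n]) (a : ZMod 3) (v : Fin n → F) : Fin n → F :=
  v + pz C hF (-a) • act D v + pz C hF (-a - a) • act D (act D v)

theorem proj_eigen {n : ℕ} {D : SU[n]} (hD : D ^ 3 = 1) (a : ZMod 3) (v : Fin n → F) :
    act D (proj C hF D a v) = pz C hF a • proj C hF D a v := by
  have h3 : act D (act D (act D v)) = v := by
    rw [← act_mul, ← act_mul, ← pow_two, ← pow_succ, hD, act_one]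
  have e1 : pz C hF a * pz C hF (-a) = 1 := by rw [← pz_add, add_neg_cancel, pz_zero]
  have e2 : pz C hF a * pz C hF (-a - a) = pz C hF (-a) := by rw [← pz_add]; congr 1; ring
  have e3 : pz C hF a = pz C hF (-a - a) := by congr 1; exact (by decide : ∀ x : ZMod 3, x = -x - x) a
  simp only [proj, AutPSU.act_add, AutPSU.act_smul, h3, smul_add, smul_smul, e1, e2, one_smul]
  rw [← e3]
  abel

theorem proj_sum {n : ℕ} (D : SU[n]) (v : Fin n → F) :
    proj C hF D 0 v + proj C hF D 1 v + proj C hF D 2 v = v := by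
  obtain ⟨-, -, h3, hp⟩ := om_spec C hF
  funext i
  simp only [proj, pz, Pi.add_apply, Pi.smul_apply, smul_eq_mul]
  have e0 : (-(0 : ZMod 3)).val = 0 := rfl
  have e0' : (-(0 : ZMod 3) - 0).val = 0 := rfl
  have e1 : (-(1 : ZMod 3)).val = 2 := rfl
  have e1' : (-(1 : ZMod 3) - 1).val = 1 := rfl
  have e2 : (-(2 : ZMod 3)).val = 1 := rfl
  have e2' : (-(2 : ZMod 3) - 2).val = 2 := rfl
  rw [e0, e0', e1, e1', e2, e2']
  linear_combination (act D v i + act D (act D v) i) * hp + v i * two_zero C hF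

/-- A common eigenvector of a given weight. -/
def IsWt (D : Fin 3 → SU[4]) (v : Fin 4 → F) (a : T3) : Prop :=
  v ≠ 0 ∧ ∀ j, act (D j) v = pz C hF (co3 a j) • v

omit C hF in
/-- The relations of the standard blocks. -/
structure Rels (D W : Fin 3 → SU[4]) : Prop where
  D3 : ∀ j, D j ^ 3 = 1
  W2 : ∀ j, W j * W j = 1
  WD : ∀ j, W j * D j * W j = (D j)⁻¹
  r01 : W 0 * D 1 * W 0 = D 0 * D 1
  r10 : W 1 * D 0 * W 1 = D 0 * D 1
  r12 : W 1 * D 2 * W 1 = D 1 * D 2
  r21 : W 2 * D 1 * W 2 = D 1 * D 2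
  r02 : Commute (W 0) (D 2)
  r20 : Commute (W 2) (D 0)
  DD : ∀ i j, Commute (D i) (D j)

section quad

variable {D W : Fin 3 → ↥(Cfsg.SU 4 F 2)} (R : Rels D W)
include R

theorem wt_refl {v : Fin 4 → F} {a : T3} (hv : IsWt C hF D v a) (j : Fin 3) :
    IsWt C hF D (act (W j) v) (refl3 j a) := by
  refine ⟨AutPSU.act_ne_zero _ hv.1, fun i => ?_⟩
  have key : ∀ (c : ZMod 3), act (W j * D i * W j) v = pz C hF c • v →
      act (D i) (act (W j) v) = pz C hF c • act (W j) v := by
    intro c hc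
    rw [← act_mul, ← AutPSU.act_smul, ← hc, ← act_mul, show W j * (W j * D i * W j) = (W j * W j) * D i * W j by
      group, R.W2, one_mul]
  have hinv : ∀ k, act (D k)⁻¹ v = pz C hF (-co3 a k) • v := fun k => by
    refine AutPSU.act_inj (D k) ?_
    rw [AutPSU.act_act_inv, AutPSU.act_smul, hv.2 k, smul_smul, ← pz_add, neg_add_cancel, pz_zero, one_smul]
  have hprod : ∀ k l, act (D k * D l) v = pz C hF (co3 a k + co3 a l) • v := fun k l => by
    rw [act_mul, hv.2 l, AutPSU.act_smul, hv.2 k, smul_smul, ← pz_add, add_comm]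
  refine key _ ?_
  fin_cases j <;> fin_cases i
  · show act (W 0 * D 0 * W 0) v = _; rw [R.WD, hinv]; rfl
  · show act (W 0 * D 1 * W 0) v = _; rw [R.r01, hprod]; rfl
  · show act (W 0 * D 2 * W 0) v = _; rw [R.r02.eq, mul_assoc, R.W2, mul_one, hv.2]; rfl
  · show act (W 1 * D 0 * W 1) v = _; rw [R.r10, hprod]; rfl
  · show act (W 1 * D 1 * W 1) v = _; rw [R.WD, hinv]; rfl
  · show act (W 1 * D 2 * W 1) v = _; rw [R.r12, hprod]; rfl
  · show act (W 2 * D 0 * W 2) v = _; rw [R.r20.eq, mul_assoc, R.W2, mul_one, hv.2]; rfl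
  · show act (W 2 * D 1 * W 2) v = _; rw [R.r21, hprod]; rfl
  · show act (W 2 * D 2 * W 2) v = _; rw [R.WD, hinv]; rfl

theorem exists_wt (hne : D 0 ≠ 1) : ∃ v a, IsWt C hF D v a ∧ a ≠ 0 := by
  obtain ⟨v, a, hv, ha⟩ : ∃ (v : Fin 4 → F) (a : ZMod 3), proj C hF (D 0) a v ≠ 0 ∧ a ≠ 0 := by
    by_contra! hc
    refine hne (ext_act fun v => ?_)
    have e1 : proj C hF (D 0) 1 v = 0 := by
      by_contra h
      exact absurd (hc v 1 h) (by decide)
    have e2 : proj C hF (D 0) 2 v = 0 := by
      by_contra h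
      exact absurd (hc v 2 h) (by decide)
    have hs := proj_sum C hF (D 0) v
    rw [e1, e2, add_zero, add_zero] at hs
    have he := proj_eigen C hF (R.D3 0) 0 v
    rw [hs, pz_zero, one_smul] at he
    rw [act_one]; exact he
  have refine1 : ∀ (j : Fin 3) (u : Fin 4 → F), u ≠ 0 → ∃ b u', u' ≠ 0 ∧ act (D j) u' = pz C hF b • u' ∧
      ∀ i c, act (D i) u = pz C hF c • u → act (D i) u' = pz C hF c • u' := by
    intro j u hu
    obtain ⟨b, hb⟩ : ∃ b, proj C hF (D j) b u ≠ 0 := by
      by_contra! hc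
      exact hu (by rw [← proj_sum C hF (D j) u, hc, hc, hc, add_zero, add_zero])
    refine ⟨b, _, hb, proj_eigen C hF (R.D3 j) b u, fun i c hc => ?_⟩
    have h1 : act (D i) (act (D j) u) = pz C hF c • act (D j) u := by
      rw [← act_mul, (R.DD i j).eq, act_mul, hc, AutPSU.act_smul]
    have h2 : act (D i) (act (D j) (act (D j) u)) = pz C hF c • act (D j) (act (D j) u) := by
      rw [← act_mul, (R.DD i j).eq, act_mul, h1, AutPSU.act_smul]
    simp only [proj, AutPSU.act_add, AutPSU.act_smul, hc, h1, h2, smul_add, smul_comm (pz C hF c)]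
  obtain ⟨b, u, hu, hub, hk⟩ := refine1 1 _ hv
  obtain ⟨c, w, hw, hwc, hk'⟩ := refine1 2 _ hu
  refine ⟨w, (a, b, c), ⟨hw, fun j => ?_⟩, fun e => ha (congrArg Prod.fst e)⟩
  fin_cases j
  · exact hk' 0 a (hk 0 a (proj_eigen C hF (R.D3 0) a v))
  · exact hk' 1 b hub
  · exact hwc

theorem wt_indep {ι : Type*} [Fintype ι] (v : ι → Fin 4 → F) (a : ι → T3) (hv : ∀ i, IsWt C hF D (v i) (a i))
    (ha : Function.Injective a) : LinearIndependent F v := by
  classical
  refine Fintype.linearIndependent_iff.2 fun g hg k => ?_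
  let L : Fin 3 → (Fin 4 → F) →ₗ[F] (Fin 4 → F) := fun j =>
    { toFun := fun x => proj C hF (D j) (co3 (a k) j) x
      map_add' := fun x y => by simp only [proj, AutPSU.act_add, smul_add]; abel
      map_smul' := fun c x => by
        simp only [proj, AutPSU.act_smul, smul_add, RingHom.id_apply, smul_comm (c : F)] }
  have hL : ∀ j i, L j (v i) = if co3 (a i) j = co3 (a k) j then v i else 0 := by
    intro j i
    show proj C hF (D j) (co3 (a k) j) (v i) = _
    simp only [proj, (hv i).2, AutPSU.act_smul, smul_smul, ← pz_add]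
    by_cases h : co3 (a i) j = co3 (a k) j
    · rw [if_pos h, h, neg_add_cancel, pz_zero, show ∀ x : ZMod 3, -x - x + (x + x) = 0 by decide, pz_zero,
        one_smul]
      funext l
      simp only [Pi.add_apply]
      linear_combination v i l * two_zero C hF
    · rw [if_neg h]
      obtain ⟨d, hd, hd'⟩ : ∃ d : ZMod 3, d ≠ 0 ∧ co3 (a i) j = co3 (a k) j + d :=
        ⟨co3 (a i) j - co3 (a k) j, sub_ne_zero.2 h, by abel⟩
      rw [hd', show ∀ x : ZMod 3, -x + (x + d) = d by intro x; abel,
        show ∀ x : ZMod 3, -x - x + ((x + d) + (x + d)) = d + d by intro x; abel]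
      have hne : pz C hF d ≠ 1 := fun e => hd (pz_inj C hF (e.trans (pz_zero C hF).symm))
      have hsum : 1 + pz C hF d + pz C hF (d + d) = 0 := by
        have : (pz C hF d - 1) * (1 + pz C hF d + pz C hF (d + d)) = 0 := by
          rw [pz_add]; linear_combination pz_cube C hF d
        exact (mul_eq_zero.1 this).resolve_left (sub_ne_zero.2 hne)
      funext l
      simp only [Pi.add_apply, Pi.smul_apply, Pi.zero_apply, smul_eq_mul]
      linear_combination v i l * hsum
  have h := congrArg (fun x => L 2 (L 1 (L 0 x))) hg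
  simp only [map_sum, map_smul, map_zero, hL] at h
  rw [Finset.sum_eq_single k] at h
  · simp only [if_true] at h
    simp only [hL, if_true] at h
    exact (smul_eq_zero.1 h).resolve_right (hv k).1
  · intro i _ hi
    have hne := fun e => hi (ha e)
    by_cases h0 : co3 (a i) 0 = co3 (a k) 0
    · by_cases h1 : co3 (a i) 1 = co3 (a k) 1
      · by_cases h2 : co3 (a i) 2 = co3 (a k) 2
        · exact absurd (Prod.ext h0 (Prod.ext h1 h2)) hne
        · simp [hL, h0, h1, h2]
      · simp [hL, h0, h1]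
    · simp [hL, h0]
  · simp

/-- The standard position. -/
theorem quad (hne : D 0 ≠ 1) :
    ∃ β : SU[4] →* SU[4], Function.Bijective β ∧
      (∀ (j : Fin 3), β (emb (j : ℕ) (show (j : ℕ) + 2 ≤ 4 by omega) (dd C hF)) = D j) ∧
      ∀ (j : Fin 3), β (emb (j : ℕ) (show (j : ℕ) + 2 ≤ 4 by omega) (ww C hF)) = W j := by
  classical
  have hrefl := fun {v : Fin 4 → F} {a : T3} (hv : IsWt C hF D v a) j =>
    wt_refl C hF R hv j
  have hindep := fun {ι : Type} [Fintype ι] (v : ι → Fin 4 → F) (a : ι → T3) hv ha =>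
    wt_indep C hF R v a hv ha
  obtain ⟨v0, a0, hv0, ha0⟩ := exists_wt C hF R hne
  have hstep : ∀ s : Finset T3, (∀ b ∈ s, ∃ v, IsWt C hF D v b) → ∀ b ∈ step3 s, ∃ v, IsWt C hF D v b := by
    intro s hs b hb
    simp only [step3, Finset.mem_union, Finset.mem_biUnion, Finset.mem_univ, true_and, Finset.mem_image] at hb
    rcases hb with hb | ⟨j, c, hc, rfl⟩
    · exact hs b hb
    · obtain ⟨v, hv⟩ := hs c hc
      exact ⟨_, hrefl hv j⟩
  have hall := hstep _ (hstep _ (hstep _ (hstep {a0} fun b hb => ⟨v0, by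
    rw [Finset.mem_singleton] at hb; rwa [hb]⟩)))
  obtain ⟨ε, hε, v, hv⟩ : ∃ ε : ZMod 3, (ε = 1 ∨ ε = 2) ∧ ∃ v, IsWt C hF D v (ε, 0, 0) := by
    rcases orbit3 a0 ha0 with h | h | h
    · exfalso
      choose vv hvv using hall
      have := (hindep (fun b : {x // x ∈ step3 (step3 (step3 (step3 {a0})))} => vv b.1 b.2) (fun b => b.1)
        (fun b => hvv b.1 b.2) Subtype.val_injective).fintype_card_le_finrank
      rw [Fintype.card_coe, Module.finrank_fintype_fun_eq_card, Fintype.card_fin] at this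
      omega
    · exact ⟨1, Or.inl rfl, hall _ h⟩
    · exact ⟨2, Or.inr rfl, hall _ h⟩
  let wts : Fin 4 → T3 := ![(ε, 0, 0), (-ε, ε, 0), (0, -ε, ε), (0, 0, -ε)]
  let e : Fin 4 → Fin 4 → F :=
    ![v, act (W 0) v, act (W 1) (act (W 0) v), act (W 2) (act (W 1) (act (W 0) v))]
  have hε0 : ε ≠ 0 := by rcases hε with rfl | rfl <;> decide
  have hwts : Function.Injective wts := by
    rcases hε with rfl | rfl <;> decide
  have he : ∀ k, IsWt C hF D (e k) (wts k) := by
    have h0 : IsWt C hF D (e 0) (wts 0) := hv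
    have h1 : IsWt C hF D (e 1) (wts 1) := by
      have := hrefl h0 0
      simpa [wts, refl3, e] using this
    have h2 : IsWt C hF D (e 2) (wts 2) := by
      have := hrefl h1 1
      simpa [wts, refl3, e] using this
    have h3 : IsWt C hF D (e 3) (wts 3) := by
      have := hrefl h2 2
      simpa [wts, refl3, e] using this
    intro k; fin_cases k
    exacts [h0, h1, h2, h3]
  have hli := hindep e wts he hwts
  have hspan : ∀ x, x ∈ Submodule.span F (Set.range e) := fun x =>
    (hli.span_eq_top_of_card_eq_finrank (by simp)).ge Submodule.mem_top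
  have horth : ∀ k l, k ≠ l → 𝕙 (e k) (e l) = 0 := by
    intro k l hkl
    obtain ⟨j, hj⟩ : ∃ j, co3 (wts k) j ≠ co3 (wts l) j := by
      by_contra! hc
      exact hkl (hwts (Prod.ext (hc 0) (Prod.ext (hc 1) (hc 2))))
    have h1 := act_pres (D j) (e k) (e l)
    rw [(he k).2, (he l).2, smul_left C, smul_right C, pz_sigma, ← mul_assoc, ← pz_add] at h1
    by_contra hne0
    have := mul_right_cancel₀ hne0 (h1.trans (one_mul _).symm)
    exact hj (by
      have := pz_inj C hF (this.trans (pz_zero C hF).symm)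
      rwa [← sub_eq_add_neg, sub_eq_zero] at this)
  have hzero : ∀ x, (∀ l, 𝕙 x (e l) = 0) → x = 0 := by
    intro x hx
    refine AutPSU.nondeg C fun w => ?_
    induction hspan w using Submodule.span_induction with
    | mem y hy => obtain ⟨l, rfl⟩ := hy; exact hx l
    | zero => exact AutPSU.zero_right C x
    | add y z _ _ hy hz => rw [add_right C, hy, hz, add_zero]
    | smul c y _ hy => rw [smul_right C, hy, mul_zero]
  have hunit : ∀ k, 𝕙 (e k) (e k) = 1 := by
    intro k
    refine (self_cases C hF (e k)).resolve_left fun h0 => (he k).1 (hzero _ fun l => ?_)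
    by_cases hl : k = l
    · rw [← hl]; exact h0
    · exact horth k l hl
  set M : Matrix (Fin 4) (Fin 4) F := Matrix.of fun i k => e k i with hM
  have hMv : ∀ x : Fin 4 → F, M *ᵥ x = ∑ k, x k • e k := fun x => by
    funext i
    simp [M, Matrix.mulVec, dotProduct, Finset.sum_apply, mul_comm]
  have hMp : ∀ x y : Fin 4 → F, 𝕙 (M *ᵥ x) (M *ᵥ y) = 𝕙 x y := by
    intro x y
    rw [hMv, hMv]
    simp [Fin.sum_univ_four, add_left C, add_right C, smul_left C, smul_right C, horth, hunit]
    show _ = ∑ i, x i * y i ^ 2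
    rw [Fin.sum_univ_four, ← C.apply_eq, ← C.apply_eq, ← C.apply_eq, ← C.apply_eq]
  have hdet : M.det ≠ 0 := by
    intro e0
    obtain ⟨u, hu, hu0⟩ := Matrix.exists_mulVec_eq_zero_iff.2 e0
    refine hu (AutPSU.nondeg C fun w => ?_)
    rw [← hMp, hu0, AutPSU.zero_left C]
  let g : Cfsg.GU 4 F 2 := ⟨Matrix.GeneralLinearGroup.mkOfDetNeZero M hdet, fun x y => hMp x y⟩
  let τ : F ≃+* F := if ε = 1 then 1 else C.σ
  have hτ : ∀ b : ZMod 3, τ (pz C hF b) = pz C hF (ε * b) := by
    intro b
    rcases hε with rfl | rfl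
    · simp [τ]
    · rw [show τ = C.σ from if_neg (by decide), pz_sigma]
      congr 1
      revert b; decide
  have hsm : ∀ k, sm (g : GL (Fin 4) F) τ (bv k) = e k := by
    intro k
    rw [sm, show ((τ : F → F) ∘ (bv k : Fin 4 → F)) = bv k from funext fun i => by
      by_cases hi : i = k
      · subst hi; simp [bv]
      · simp [bv, hi]]
    show M *ᵥ bv k = e k
    rw [bv, Matrix.mulVec_single_one]
    rfl
  have hext : ∀ s t : SU[4], (∀ k, act s (e k) = act t (e k)) → s = t := by
    intro s t hst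
    refine ext_act fun x => ?_
    induction hspan x using Submodule.span_induction with
    | mem y hy => obtain ⟨l, rfl⟩ := hy; exact hst l
    | zero => rw [AutPSU.act_zero, AutPSU.act_zero]
    | add y z _ _ hy hz => rw [AutPSU.act_add, AutPSU.act_add, hy, hz]
    | smul c y _ hy => rw [AutPSU.act_smul, AutPSU.act_smul, hy]
  have hfix : ∀ j k, refl3 j (wts k) = wts k → act (W j) (e k) = e k := by
    intro j k hjk
    have hw := hrefl (he k) j
    rw [hjk] at hw
    set w := act (W j) (e k) with hwdef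
    have hwl : ∀ l, l ≠ k → 𝕙 w (e l) = 0 := by
      intro l hl
      obtain ⟨i, hi⟩ : ∃ i, co3 (wts k) i ≠ co3 (wts l) i := by
        by_contra! hc
        exact hl (hwts (Prod.ext (hc 0) (Prod.ext (hc 1) (hc 2)))).symm
      have h1 := act_pres (D i) w (e l)
      rw [hw.2, (he l).2, smul_left C, smul_right C, pz_sigma, ← mul_assoc, ← pz_add] at h1
      by_contra hne0
      have := pz_inj C hF ((mul_right_cancel₀ hne0 (h1.trans (one_mul _).symm)).trans (pz_zero C hF).symm)
      rw [← sub_eq_add_neg, sub_eq_zero] at this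
      exact hi this
    obtain ⟨c, hc⟩ : ∃ c : F, w = c • e k := ⟨𝕙 w (e k), sub_eq_zero.1 (hzero _ fun l => by
      rw [sub_left C, smul_left C]
      by_cases hl : l = k
      · rw [hl, hunit, mul_one, sub_self]
      · rw [hwl l hl, horth k l (Ne.symm hl), mul_zero, sub_zero])⟩
    have hcc : act (W j) w = e k := by rw [hwdef, ← act_mul, R.W2, act_one]
    rw [hc, AutPSU.act_smul, ← hwdef, hc, smul_smul] at hcc
    have h2 : c * c = 1 := by
      have := congrArg (fun x => 𝕙 x (e k)) hcc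
      simpa [smul_left C, hunit] using this
    have hc0 : c ≠ 0 := left_ne_zero_of_mul_eq_one h2
    have hc1 : c = 1 := by linear_combination cube C hF hc0 - c * h2
    rw [hc, hc1, one_smul]
  refine ⟨suConj g τ, Finite.injective_iff_bijective.1 fun s t hst => ?_, fun j => hext _ _ fun k => ?_,
    fun j => hext _ _ fun k => ?_⟩
  · refine ext_act fun x => AutPSU.sm_inj (g : GL (Fin 4) F) τ ?_
    rw [← AutPSU.act_suConj, ← AutPSU.act_suConj, hst]
  · rw [← hsm k, AutPSU.act_suConj, D_act, AutPSU.sm_smul, hsm, (he k).2]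
    congr 1
    have hom : ω = pz C hF 1 := by rw [pz, show (1 : ZMod 3).val = 1 from rfl, pow_one]
    have hom2 : ω ^ 2 = pz C hF 2 := by rw [pz, show (2 : ZMod 3).val = 2 from rfl]
    have h1 : τ ω = pz C hF ε := by rw [hom, hτ, mul_one]
    have h2 : τ (ω ^ 2) = pz C hF (-ε) := by
      rw [hom2, hτ]; congr 1; rcases hε with rfl | rfl <;> decide
    fin_cases j <;> fin_cases k <;> simp [wt, wts, co3, pz_zero] <;> first
      | exact h1
      | exact h2
      | simpa using h2
  · obtain ⟨k', hk'⟩ : ∃ k' : Fin 4, (k : ℕ) = (j : ℕ) ∧ (k' : ℕ) = (j : ℕ) + 1 ∨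
        (k : ℕ) = (j : ℕ) + 1 ∧ (k' : ℕ) = (j : ℕ) ∨
        ((k : ℕ) < (j : ℕ) ∨ (j : ℕ) + 2 ≤ k) ∧ (k' : ℕ) = k := by
      revert j k; decide
    rw [← hsm k, AutPSU.act_suConj, W_act C hF (j : ℕ) _ k k' hk', hsm, hsm]
    have hinvo : ∀ x y, act (W j) x = y → act (W j) y = x := fun x y h => by
      rw [← h, ← act_mul, R.W2, act_one]
    fin_cases j <;> fin_cases k <;> fin_cases k' <;> simp at hk' <;> first
      | rfl
      | exact (hinvo _ _ rfl).symm
      | exact (hfix _ _ (by simp [refl3, wts])).symm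

end quad

end Cfsg.Agent.Phan.Two
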