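import Cfsg.Agent.Lib.Phan.TwoBase

/-!
The special unitary groups of degree two and three over the field with four elements.
-/

set_option autoImplicit false
set_option linter.unusedSectionVars false
set_option linter.unusedSimpArgs false
set_option linter.style.show false
set_option linter.unusedTactic false
set_option linter.unreachableTactic false
set_option maxHeartbeats 1000000

namespace Cfsg.Agent.Phan.Two

open Matrix
open Cfsg.Agent.AutPSU (Conj h act act_mul act_one act_inv_act act_pres ext_act suConj sm add_left add_right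
  smul_left smul_right sub_left sub_right self_fixed eq_zero_comm)

variable {F : Type*} [Field F] [Fintype F]

local notation "SU[" n "]" => Cfsg.SU n F 2
local notation "𝕙" => h (q := 2)
local notation "B0" => emb (F := F) (q := 2) (k := 2) (n := 3) 0 (by decide)
local notation "B1" => emb (F := F) (q := 2) (k := 2) (n := 3) 1 (by decide)

variable (C : Conj F 2) (hF : Fintype.card F = 2 ^ 2)
include C hF

/-- A cube root of unity. -/
noncomputable def om : F := (exists_omega C hF).choose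

local notation "ω" => om C hF

theorem om_spec : ω ≠ 0 ∧ ω ≠ 1 ∧ ω ^ 3 = 1 ∧ ω ^ 2 + ω + 1 = 0 := (exists_omega C hF).choose_spec

theorem om_sq_ne : ω ^ 2 ≠ 1 ∧ ω ^ 2 ≠ ω := by
  obtain ⟨h0, h1, h3, -⟩ := om_spec C hF
  exact ⟨fun e => h1 (by linear_combination h3 - ω * e), fun e => h1 (mul_left_cancel₀ h0 (by linear_combination e))⟩

theorem field_cases {x : F} (hx : x ≠ 0) : x = 1 ∨ x = ω ∨ x = ω ^ 2 := by
  obtain ⟨-, -, h3, hp⟩ := om_spec C hF
  have h : (x - 1) * ((x - ω) * (x - ω ^ 2)) = 0 := by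
    linear_combination cube C hF hx + (ω * x - x ^ 2) * hp - h3
  rcases mul_eq_zero.1 h with e | e
  · exact Or.inl (sub_eq_zero.1 e)
  · rcases mul_eq_zero.1 e with e | e
    · exact Or.inr (Or.inl (sub_eq_zero.1 e))
    · exact Or.inr (Or.inr (sub_eq_zero.1 e))

/-- The diagonal generator of the two dimensional group. -/
noncomputable def dd : SU[2] :=
  (exists_two C (a := ω) (b := 0) (by rw [N_ne C hF (om_spec C hF).1, N_zero C, add_zero])).choose

/-- The swap. -/
noncomputable def ww (C : Conj F 2) (_ : Fintype.card F = 2 ^ 2) : SU[2] :=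
  (exists_two C (a := (0 : F)) (b := 1) (by rw [N_zero C, N_one C, zero_add])).choose

theorem dd_spec : en (dd C hF) 0 0 = ω ∧ en (dd C hF) 0 1 = 0 ∧ en (dd C hF) 1 0 = 0 ∧
    en (dd C hF) 1 1 = ω ^ 2 := by
  obtain ⟨h1, h2⟩ : en (dd C hF) 0 0 = ω ∧ en (dd C hF) 0 1 = 0 :=
    (exists_two C (a := ω) (b := 0) (by rw [N_ne C hF (om_spec C hF).1, N_zero C, add_zero])).choose_spec
  exact ⟨h1, h2, by rw [(en_rel C _).1, h2, map_zero, neg_zero], by rw [(en_rel C _).2, h1, C.apply_eq]⟩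

theorem ww_spec : en (ww C hF) 0 0 = 0 ∧ en (ww C hF) 0 1 = 1 ∧ en (ww C hF) 1 0 = 1 ∧
    en (ww C hF) 1 1 = 0 := by
  obtain ⟨h1, h2⟩ : en (ww C hF) 0 0 = 0 ∧ en (ww C hF) 0 1 = 1 :=
    (exists_two C (a := (0 : F)) (b := 1) (by rw [N_zero C, N_one C, zero_add])).choose_spec
  exact ⟨h1, h2, by rw [(en_rel C _).1, h2, map_one, neg_eq C hF], by rw [(en_rel C _).2, h1, map_zero]⟩

theorem two_cases (s : SU[2]) :
    en s 0 1 = 0 ∧ en s 0 0 ≠ 0 ∨ en s 0 0 = 0 ∧ en s 0 1 ≠ 0 := by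
  have hd := en_det C s
  by_cases ha : en s 0 0 = 0
  · exact Or.inr ⟨ha, fun hb => by rw [ha, hb, N_zero C, add_zero] at hd; exact zero_ne_one hd⟩
  · refine Or.inl ⟨?_, ha⟩
    by_contra hb
    rw [N_ne C hF ha, N_ne C hF hb, add_self C hF] at hd
    exact zero_ne_one hd

theorem two_diag {s : SU[2]} (hb : en s 0 1 = 0) (ha : en s 0 0 ≠ 0) :
    s = 1 ∨ s = dd C hF ∨ s = dd C hF * dd C hF := by
  obtain ⟨d0, d1, d2, -⟩ := dd_spec C hF
  rcases field_cases C hF ha with e | e | e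
  · exact Or.inl (ext_two C (by simp [e, en]) (by simp [hb, en]))
  · exact Or.inr (Or.inl (ext_two C (e.trans d0.symm) (hb.trans d1.symm)))
  · refine Or.inr (Or.inr (ext_two C ?_ ?_))
    · rw [en_mul2, d0, d1, zero_mul, add_zero, e, pow_two]
    · rw [en_mul2, d1, mul_zero, zero_mul, add_zero, hb]

theorem two_anti {s : SU[2]} (ha : en s 0 0 = 0) :
    (∃ t, (t = 1 ∨ t = dd C hF ∨ t = dd C hF * dd C hF) ∧ s = t * ww C hF) ∧ s * s = 1 := by
  obtain ⟨w0, w1, w2, w3⟩ := ww_spec C hF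
  have hb : en s 0 1 ≠ 0 := by
    rcases two_cases C hF s with ⟨-, h⟩ | ⟨-, h⟩
    · exact absurd ha h
    · exact h
  obtain ⟨t, t0, t1⟩ := exists_two C (a := en s 0 1) (b := 0) (by rw [N_ne C hF hb, N_zero C, add_zero])
  refine ⟨⟨t, two_diag C hF t1 (by rwa [t0]), ext_two C ?_ ?_⟩, ext_two C ?_ ?_⟩
  · rw [en_mul2, t1, w0, mul_zero, zero_mul, add_zero, ha]
  · rw [en_mul2, t1, t0, w1, mul_one, zero_mul, add_zero]
  · have := en_det C s
    rw [ha, N_zero C, zero_add, N] at this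
    rw [en_mul2, ha, (en_rel C s).1, mul_zero, zero_add, neg_eq C hF, this]
    simp [en]
  · rw [en_mul2, ha, (en_rel C s).2, ha, map_zero, zero_mul, mul_zero, add_zero]
    simp [en]

theorem two_inv {s : SU[2]} (hs : s * s = 1) (h1 : s ≠ 1) : en s 0 0 = 0 := by
  rcases two_cases C hF s with ⟨hb, ha⟩ | ⟨ha, -⟩
  · exfalso
    refine h1 (ext_two C ?_ (by simp [hb, en]))
    have h00 : en (s * s) 0 0 = 1 := by rw [hs]; simp [en]
    rw [en_mul2, hb, zero_mul, add_zero] at h00
    have e : en s 0 0 = 1 := by linear_combination cube C hF ha - en s 0 0 * h00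
    simp [e, en]
  · exact ha

theorem two_three {s : SU[2]} (hs : s ^ 3 = 1) (h1 : s ≠ 1) : s = dd C hF ∨ s = dd C hF * dd C hF := by
  rcases two_cases C hF s with ⟨hb, ha⟩ | ⟨ha, -⟩
  · exact (two_diag C hF hb ha).resolve_left h1
  · exact absurd (by rwa [pow_succ, pow_two, (two_anti C hF ha).2, one_mul] at hs) h1

theorem gen_two (H : Subgroup SU[2]) (h1 : dd C hF ∈ H) (h2 : ww C hF ∈ H) : H = ⊤ := by
  have hd : ∀ t : SU[2], (t = 1 ∨ t = dd C hF ∨ t = dd C hF * dd C hF) → t ∈ H := by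
    rintro t (rfl | rfl | rfl)
    exacts [one_mem H, h1, mul_mem h1 h1]
  refine Subgroup.eq_top_iff' H |>.2 fun s => ?_
  rcases two_cases C hF s with ⟨hb, ha⟩ | ⟨ha, -⟩
  · exact hd s (two_diag C hF hb ha)
  · obtain ⟨⟨t, ht, rfl⟩, -⟩ := two_anti C hF ha
    exact mul_mem (hd t ht) h2

theorem dd_three : dd C hF ^ 3 = 1 := by
  obtain ⟨d0, d1, d2, -⟩ := dd_spec C hF
  have e : ∀ i j, en (dd C hF ^ 3) i j = en (dd C hF * dd C hF * dd C hF) i j := fun i j => by
    rw [pow_succ, pow_two]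
  refine ext_two C ?_ ?_
  · rw [e, en_mul2, en_mul2, en_mul2, d0, d1, d2]
    simp [en]
    linear_combination (om_spec C hF).2.2.1
  · rw [e, en_mul2, en_mul2, en_mul2, d0, d1, d2]
    simp [en]

theorem dd_ne : dd C hF ≠ 1 := fun e => (om_spec C hF).2.1 (by
  rw [← (dd_spec C hF).1, e]; simp [en])

theorem ww_sq : ww C hF * ww C hF = 1 := (two_anti C hF (ww_spec C hF).1).2

theorem ww_ne : ww C hF ≠ 1 := fun e => by
  have := (ww_spec C hF).1
  rw [e] at this
  simp [en] at this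

section blocks

variable {n : ℕ}

omit C hF in
theorem emb_bv_smul {k : ℕ} (o : ℕ) (ho : o + k ≤ n) (s : SU[k]) (a b : Fin k) (i j : Fin n) (c : F)
    (hi : (i : ℕ) = o + a) (hj : (j : ℕ) = o + b) (hs : act s (bv a) = c • bv b) :
    act (emb o ho s : SU[n]) (bv i) = c • bv j := by
  funext x
  by_cases hx : (x : ℕ) < o ∨ o + k ≤ x
  · rw [emb_out o ho s _ hx]
    have h1 : x ≠ i := fun e => by rw [e, hi] at hx; omega
    have h2 : x ≠ j := fun e => by rw [e, hj] at hx; omega
    simp [bv, h1, h2]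
  · rw [emb_in o ho s _ (⟨(x : ℕ) - o, by omega⟩) x (by simp; omega),
      show (fun c : Fin k => (bv i : Fin n → F) ⟨o + c, by omega⟩) = bv a from funext fun c => by
        simp [bv, Pi.single_apply, Fin.ext_iff, hi], hs]
    simp only [bv, Pi.smul_apply, Pi.single_apply, Fin.ext_iff]
    congr 1
    refine if_congr ?_ rfl rfl
    omega

theorem act_dd (a : Fin 2) : act (dd C hF) (bv a) = (if a = 0 then ω else ω ^ 2) • bv a := by
  obtain ⟨d0, d1, d2, d3⟩ := dd_spec C hF
  funext b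
  rw [act_bv]
  fin_cases a <;> fin_cases b <;> simp [bv, d0, d1, d2, d3]

theorem act_ww : act (ww C hF) (bv 0) = bv 1 ∧ act (ww C hF) (bv 1) = bv 0 := by
  obtain ⟨w0, w1, w2, w3⟩ := ww_spec C hF
  constructor <;> funext b <;> rw [act_bv] <;> fin_cases b <;> simp [bv, w0, w1, w2, w3]

/-- Weights of the standard diagonal element. -/
noncomputable def wt (o : ℕ) (j : Fin n) : F :=
  if (j : ℕ) = o then ω else if (j : ℕ) = o + 1 then ω ^ 2 else 1

theorem D_act (o : ℕ) (ho : o + 2 ≤ n) (j : Fin n) :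
    act (emb o ho (dd C hF) : SU[n]) (bv j) = wt C hF o j • bv j := by
  by_cases hj : (j : ℕ) < o ∨ o + 2 ≤ j
  · rw [emb_fix o ho _ hj, wt, if_neg (by omega), if_neg (by omega), one_smul]
  · rcases (show (j : ℕ) = o + (0 : Fin 2) ∨ (j : ℕ) = o + (1 : Fin 2) by simp; omega) with e | e
    · rw [emb_bv_smul o ho _ 0 0 j j _ e e (act_dd C hF 0)]
      simp [wt] at e ⊢
      simp [e]
    · rw [emb_bv_smul o ho _ 1 1 j j _ e e (act_dd C hF 1)]
      simp [wt] at e ⊢
      simp [e]

theorem W_act (o : ℕ) (ho : o + 2 ≤ n) (j j' : Fin n)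
    (hj : (j : ℕ) = o ∧ (j' : ℕ) = o + 1 ∨ (j : ℕ) = o + 1 ∧ (j' : ℕ) = o ∨
      ((j : ℕ) < o ∨ o + 2 ≤ j) ∧ (j' : ℕ) = j) :
    act (emb o ho (ww C hF) : SU[n]) (bv j) = bv j' := by
  rcases hj with ⟨a, b⟩ | ⟨a, b⟩ | ⟨a, b⟩
  · exact emb_bv_eq o ho _ 0 1 j j' (by simpa using a) (by simpa using b) (act_ww C hF).1
  · exact emb_bv_eq o ho _ 1 0 j j' (by simpa using a) (by simpa using b) (act_ww C hF).2
  · rw [emb_fix o ho _ a, Fin.ext b.symm]

/-- The relations of two adjacent blocks. -/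
theorem rel_std (o : ℕ) (ho : o + 3 ≤ n) :
    let D : (i : ℕ) → i + 2 ≤ n → SU[n] := fun i hi => emb i hi (dd C hF)
    let W : (i : ℕ) → i + 2 ≤ n → SU[n] := fun i hi => emb i hi (ww C hF)
    W o (by omega) * D (o + 1) (by omega) * W o (by omega) = D o (by omega) * D (o + 1) (by omega) ∧
    W (o + 1) (by omega) * D o (by omega) * W (o + 1) (by omega) = D o (by omega) * D (o + 1) (by omega) ∧
    Commute (D o (by omega)) (D (o + 1) (by omega)) := by
  intro D W
  obtain ⟨-, -, h3, -⟩ := om_spec C hF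
  refine ⟨ext_bv fun j => ?_, ext_bv fun j => ?_, ext_bv fun j => ?_⟩
  · obtain ⟨j', hj⟩ : ∃ j' : Fin n, (j : ℕ) = o ∧ (j' : ℕ) = o + 1 ∨ (j : ℕ) = o + 1 ∧ (j' : ℕ) = o ∨
        ((j : ℕ) < o ∨ o + 2 ≤ j) ∧ (j' : ℕ) = j := by
      by_cases h : (j : ℕ) < o ∨ o + 2 ≤ j
      · exact ⟨j, Or.inr (Or.inr ⟨h, rfl⟩)⟩
      · by_cases h' : (j : ℕ) = o
        · exact ⟨⟨o + 1, by omega⟩, Or.inl ⟨h', rfl⟩⟩
        · exact ⟨⟨o, by omega⟩, Or.inr (Or.inl ⟨by omega, rfl⟩)⟩
    simp only [D, W, act_mul, W_act C hF o _ j j' hj, D_act, AutPSU.act_smul,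
      W_act C hF o (by omega) j' j (by omega), smul_smul]
    congr 1
    rcases hj with ⟨a, b⟩ | ⟨a, b⟩ | ⟨a, b⟩ <;> simp only [wt] <;> split_ifs <;> first
      | omega
      | ring1
      | linear_combination (1 : F) * h3
      | linear_combination -(1 : F) * h3
      | linear_combination ω * h3
      | linear_combination -ω * h3
  · obtain ⟨j', hj⟩ : ∃ j' : Fin n, (j : ℕ) = o + 1 ∧ (j' : ℕ) = o + 1 + 1 ∨
        (j : ℕ) = o + 1 + 1 ∧ (j' : ℕ) = o + 1 ∨ ((j : ℕ) < o + 1 ∨ o + 1 + 2 ≤ j) ∧ (j' : ℕ) = j := by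
      by_cases h : (j : ℕ) < o + 1 ∨ o + 1 + 2 ≤ j
      · exact ⟨j, Or.inr (Or.inr ⟨h, rfl⟩)⟩
      · by_cases h' : (j : ℕ) = o + 1
        · exact ⟨⟨o + 1 + 1, by omega⟩, Or.inl ⟨h', rfl⟩⟩
        · exact ⟨⟨o + 1, by omega⟩, Or.inr (Or.inl ⟨by omega, rfl⟩)⟩
    simp only [D, W, act_mul, W_act C hF (o + 1) _ j j' hj, D_act, AutPSU.act_smul,
      W_act C hF (o + 1) (by omega) j' j (by omega), smul_smul]
    congr 1
    rcases hj with ⟨a, b⟩ | ⟨a, b⟩ | ⟨a, b⟩ <;> simp only [wt] <;> split_ifs <;> first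
      | omega
      | ring1
      | linear_combination (1 : F) * h3
      | linear_combination -(1 : F) * h3
      | linear_combination ω * h3
      | linear_combination -ω * h3
  · simp only [D, act_mul, D_act, AutPSU.act_smul, smul_smul, mul_comm]

end blocks

section three

theorem unit_cases {v : Fin 3 → F} (hv : 𝕙 v v = 1) :
    (∃ i, ∀ j, j ≠ i → v j = 0) ∨ ∀ j, v j ≠ 0 := by
  by_contra! hc
  obtain ⟨h1, j, hj⟩ := hc
  have hN : ∀ k, v k ≠ 0 → v k * v k ^ 2 = 1 := fun k hk => by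
    rw [← pow_succ']; exact cube C hF hk
  change ∑ k, v k * v k ^ 2 = 1 at hv
  rw [Fin.sum_univ_three] at hv
  fin_cases j
  · obtain ⟨k, hk, hk'⟩ := h1 1
    obtain ⟨l, hl, hl'⟩ := h1 2
    have e1 : v 1 ≠ 0 := by fin_cases l <;> simp_all
    have e2 : v 2 ≠ 0 := by fin_cases k <;> simp_all
    rw [hN 1 e1, hN 2 e2] at hv
    simp_all [add_self C hF]
  · obtain ⟨k, hk, hk'⟩ := h1 0
    obtain ⟨l, hl, hl'⟩ := h1 2
    have e1 : v 0 ≠ 0 := by fin_cases l <;> simp_all
    have e2 : v 2 ≠ 0 := by fin_cases k <;> simp_all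
    rw [hN 0 e1, hN 2 e2] at hv
    simp_all [add_self C hF]
  · obtain ⟨k, hk, hk'⟩ := h1 0
    obtain ⟨l, hl, hl'⟩ := h1 1
    have e1 : v 0 ≠ 0 := by fin_cases l <;> simp_all
    have e2 : v 1 ≠ 0 := by fin_cases k <;> simp_all
    rw [hN 0 e1, hN 1 e2] at hv
    simp_all [add_self C hF]

/-- An involution of the group of degree three lies in a block. -/
theorem invo_block {y : SU[3]} (hy : y * y = 1) (h1 : y ≠ 1) :
    ∃ i : Fin 3, act y (bv i) = bv i := by
  have hinv : y⁻¹ = y := inv_eq_of_mul_eq_one_right hy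
  have hsym : ∀ i j, en y i j = C.σ (en y j i) := fun i j => by
    rw [← act_bv, ← act_bv, ← h_bv_right C (act y (bv j)) i, ← h_bv_left C (act y (bv i)) j, h_act_left, hinv]
  have hcol : ∀ j, (∃ i, ∀ k, k ≠ i → en y k j = 0) ∨ ∀ k, en y k j ≠ 0 := fun j => by
    have h := unit_cases C hF (v := act y (bv j)) (by rw [act_pres]; exact bv_unit C j)
    simpa only [act_bv] using h
  by_cases hfull : ∀ k j, en y k j ≠ 0
  · exfalso
    have hd : ∀ i, en y i i = 1 := fun i => by
      have := hsym i i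
      rw [sigma_sq C hF] at this
      exact (mul_left_cancel₀ (hfull i i) (by rw [mul_one, ← pow_two]; exact this.symm))
    have h02 : en (y * y) 0 2 = 0 := by rw [hy]; simp [en]
    rw [show en (y * y) 0 2 = ∑ k, en y 0 k * en y k 2 from rfl, Fin.sum_univ_three, hd 0, hd 2, one_mul,
      mul_one, add_comm (en y 0 2), add_assoc, add_self C hF, add_zero] at h02
    exact mul_ne_zero (hfull 0 1) (hfull 1 2) h02
  · push Not at hfull
    obtain ⟨k0, j0, h0⟩ := hfull
    have hmono : ∀ j, ∃ i, ∀ k, k ≠ i → en y k j = 0 := by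
      intro j
      refine (hcol j).resolve_right fun hf => ?_
      obtain ⟨i, hi⟩ := (hcol j0).resolve_right fun hf0 => hf0 k0 h0
      have horth : 𝕙 (act y (bv j0)) (act y (bv j)) = 0 := by
        rw [act_pres, h_bv C, if_neg]
        rintro rfl
        exact hf k0 h0
      have hne : en y i j0 ≠ 0 := fun e => AutPSU.act_ne_zero y (x := bv j0) (by
          intro e'; simpa [bv] using congrFun e' j0) (funext fun k => by
          rw [act_bv]
          by_cases hk : k = i
          · rw [hk]; exact e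
          · exact hi k hk)
      change ∑ k, act y (bv j0) k * act y (bv j) k ^ 2 = 0 at horth
      rw [Finset.sum_eq_single i (fun k _ hk => by rw [act_bv, hi k hk, zero_mul]) (by simp), act_bv, act_bv]
        at horth
      exact (mul_eq_zero.1 horth).elim hne (pow_ne_zero 2 (hf i))
    choose π hπ using hmono
    have hfix : ∀ j, π j = j → act y (bv j) = bv j := by
      intro j e
      have hu : 𝕙 (act y (bv j)) (act y (bv j)) = 1 := by rw [act_pres]; exact bv_unit C j
      have hne : en y j j ≠ 0 := by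
        intro e0
        have : act y (bv j) = 0 := funext fun k => by
          rw [act_bv]
          by_cases hk : k = j
          · rw [hk]; exact e0
          · exact hπ j k (by rwa [e])
        rw [this, AutPSU.zero_left C] at hu
        exact zero_ne_one hu
      have := hsym j j
      rw [sigma_sq C hF] at this
      have h11 : en y j j = 1 := mul_left_cancel₀ hne (by rw [mul_one, ← pow_two]; exact this.symm)
      funext k
      rw [act_bv]
      by_cases hk : k = j
      · subst hk; rw [h11]; simp [bv]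
      · rw [hπ j k (by rwa [e])]; simp [bv, hk]
    have hinvπ : ∀ j, π (π j) = j := fun j => by
      by_contra hne
      have h1 := hπ (π j) j (fun e => hne e.symm)
      rw [hsym] at h1
      have h2 : act y (bv j) = 0 := funext fun k => by
        rw [act_bv]
        by_cases hk : k = π j
        · rw [hk]; exact (map_eq_zero C.σ).1 h1
        · exact hπ j k hk
      exact AutPSU.act_ne_zero y (x := bv j) (fun e' => by simpa [bv] using congrFun e' j) h2
    obtain ⟨j, hj⟩ : ∃ j, π j = j := by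
      have hall : ∀ π : Fin 3 → Fin 3, (∀ j, π (π j) = j) → ∃ j, π j = j := by decide
      exact hall π hinvπ
    exact ⟨j, hfix j hj⟩

theorem mem_of_invo (H : Subgroup SU[3]) (h0 : ∀ s, B0 s ∈ H) (h1 : ∀ s, B1 s ∈ H) {y : SU[3]} (hy : y * y = 1) :
    y ∈ H := by
  by_cases hy1 : y = 1
  · rw [hy1]; exact one_mem H
  obtain ⟨i, hi⟩ := invo_block C hF hy hy1
  fin_cases i
  · obtain ⟨t, rfl⟩ := emb_range (F := F) (q := 2) 1 (show 1 + 2 ≤ 3 by decide) C y fun k hk => by
      obtain rfl : k = 0 := Fin.ext (show (k : ℕ) = 0 by omega)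
      exact hi
    exact h1 t
  · set w := B0 (ww C hF) with hw
    have hw01 : act w (bv (0 : Fin 3)) = bv 1 := W_act C hF 0 _ 0 1 (by simp)
    have hww : w * w = 1 := by rw [hw, ← map_mul, ww_sq, map_one]
    have hw10 : act w (bv (1 : Fin 3)) = bv 0 := by rw [← hw01, ← act_mul, hww, act_one]
    obtain ⟨t, ht⟩ := emb_range (F := F) (q := 2) 1 (show 1 + 2 ≤ 3 by decide) C (w * y * w) fun k hk => by
      obtain rfl : k = 0 := Fin.ext (show (k : ℕ) = 0 by omega)
      rw [act_mul, act_mul, hw01, show act y (bv (1 : Fin 3)) = bv 1 from hi, hw10]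
    have : y = w * B1 t * w := by
      rw [ht, show w * (w * y * w) * w = (w * w) * y * (w * w) by group, hww, one_mul, mul_one]
    rw [this]
    exact mul_mem (mul_mem (h0 _) (h1 t)) (h0 _)
  · obtain ⟨t, rfl⟩ := emb_range (F := F) (q := 2) 0 (show 0 + 2 ≤ 3 by decide) C y fun k hk => by
      obtain rfl : k = 2 := Fin.ext (show (k : ℕ) = 2 by omega)
      exact hi
    exact h0 t

theorem exists_fourier : ∀ d : F, d ≠ 0 → ∃ K : SU[3], K ^ 4 = 1 ∧
    act K (bv 2) = ![d⁻¹, d⁻¹ * ω ^ 2, ω] := by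
  obtain ⟨h0, h1, h3, hp⟩ := om_spec C hF
  have h2 := two_zero C hF
  obtain ⟨K0, hK⟩ := AutPSU.exists_SU (n := 3) (q := 2) (!![1, 1, 1; 1, ω, ω ^ 2; 1, ω ^ 2, ω] : Matrix _ _ F)
    (by
      simp [Matrix.det_fin_three]
      grind) (by
      intro u v
      show ∑ i, _ = ∑ i, _
      simp [Fin.sum_univ_three, Matrix.mulVec, dotProduct]
      grind)
  have hK2 : ∀ x, act K0 (act K0 x) = ![x 0, x 2, x 1] := fun x => by
    rw [hK, hK]
    funext i
    fin_cases i <;> simp [Fin.sum_univ_three, Matrix.mulVec, dotProduct] <;> grind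
  have hK4 : K0 ^ 4 = 1 := ext_act fun x => by
    rw [pow_succ, pow_succ, pow_two, act_mul, act_mul, act_mul, hK2, hK2, act_one]
    funext i; fin_cases i <;> simp
  intro d hd
  let a : {a : F // N C a = 1} := ⟨d, N_ne C hF hd⟩
  let one : {a : F // N C a = 1} := ⟨1, N_one C⟩
  refine ⟨suConj (dgU C ![one, one, a]) 1 K0, by rw [← map_pow, hK4, map_one], funext fun i => ?_⟩
  have e := en_suConj C ![one, one, a] 1 K0 i 2
  have e' : en K0 i 2 = ![1, ω ^ 2, ω] i := by
    rw [← act_bv, hK, bv, Matrix.mulVec_single_one]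
    fin_cases i <;> simp
  rw [act_bv]
  rw [e', show (![one, one, a] 2).1 = d from rfl, show ((1 : F ≃+* F) : F → F) = id from rfl] at e
  fin_cases i
  · simp [one, a] at e ⊢; field_simp at e ⊢; linear_combination e
  · simp [one, a] at e ⊢; field_simp at e ⊢; linear_combination e
  · simp [one, a] at e ⊢; exact mul_right_cancel₀ hd (e.trans (mul_comm _ _))

/-- The two blocks and the elements of order dividing four generate. -/
theorem gen_four (H : Subgroup SU[3]) (h0 : ∀ s, B0 s ∈ H) (h1 : ∀ s, B1 s ∈ H)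
    (h4 : ∀ x : SU[3], x ^ 4 = 1 → x ∈ H) : H = ⊤ := by
  obtain ⟨o0, -, o3, -⟩ := om_spec C hF
  have scale : ∀ r : Fin 3 → F, r 0 * r 1 * r 2 = 1 → ∃ t ∈ H, ∀ x i, act t x i = r i * x i := by
    intro r hr
    have r0 : r 0 ≠ 0 := left_ne_zero_of_mul (left_ne_zero_of_mul_eq_one hr)
    have r01 : r 0 * r 1 ≠ 0 := left_ne_zero_of_mul_eq_one hr
    obtain ⟨s0, a0, b0⟩ := exists_two C (a := r 0) (b := 0) (by rw [N_ne C hF r0, N_zero C, add_zero])
    obtain ⟨s1, a1, b1⟩ := exists_two C (a := r 0 * r 1) (b := 0) (by rw [N_ne C hF r01, N_zero C, add_zero])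
    have act2 : ∀ (s : SU[2]) (a : F), en s 0 0 = a → en s 0 1 = 0 → ∀ y, act s y 0 = a * y 0 ∧
        act s y 1 = C.σ a * y 1 := by
      intro s a ha hb y
      have hc : en s 1 0 = 0 := by rw [(en_rel C s).1, hb, map_zero, neg_zero]
      have hd : en s 1 1 = C.σ a := by rw [(en_rel C s).2, ha]
      constructor
      · show ((s : Matrix.SpecialLinearGroup (Fin 2) F).1 *ᵥ y) 0 = _
        simp [Matrix.mulVec, dotProduct, Fin.sum_univ_two, ha, hb]
      · show ((s : Matrix.SpecialLinearGroup (Fin 2) F).1 *ᵥ y) 1 = _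
        simp [Matrix.mulVec, dotProduct, Fin.sum_univ_two, hc, hd]
    refine ⟨B0 s0 * B1 s1, mul_mem (h0 _) (h1 _), fun x i => ?_⟩
    rw [act_mul]
    have c0 := cube C hF r0
    fin_cases i
    · rw [emb_in 0 _ s0 _ 0 _ (by simp), (act2 s0 _ a0 b0 _).1, emb_out 1 _ s1 _ (Or.inl (by simp))]
      simp
    · rw [emb_in 0 _ s0 _ 1 _ (by simp), (act2 s0 _ a0 b0 _).2,
        emb_in 1 _ s1 _ 0 _ (by simp), (act2 s1 _ a1 b1 _).1, sigma_sq C hF]
      simp
      linear_combination (r 1 * x 1) * c0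
    · rw [emb_out 0 _ s0 _ (Or.inr (by simp)), emb_in 1 _ s1 _ 1 _ (by simp), (act2 s1 _ a1 b1 _).2,
        sigma_sq C hF]
      simp
      refine Or.inl ?_
      linear_combination r 2 * cube C hF r01 - (r 0 * r 1) ^ 2 * hr
  refine Subgroup.eq_top_iff' H |>.2 fun x => ?_
  suffices hu : ∃ u ∈ H, act u (bv 2) = act x (bv 2) by
    obtain ⟨u, hu, e⟩ := hu
    obtain ⟨t, ht⟩ := emb_range (F := F) (q := 2) 0 (show 0 + 2 ≤ 3 by decide) C (u⁻¹ * x) fun k hk => by
      obtain rfl : k = 2 := Fin.ext (show (k : ℕ) = 2 by omega)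
      rw [act_mul, ← e, act_inv_act]
    have := mul_mem hu (h0 t)
    rwa [ht, mul_inv_cancel_left] at this
  set v := act x (bv (2 : Fin 3)) with hv
  have hvu : 𝕙 v v = 1 := by rw [hv, act_pres]; exact bv_unit C _
  rcases unit_cases C hF hvu with ⟨i, hi⟩ | hf
  · have hvi : v i ≠ 0 := by
      intro e
      have : v = 0 := funext fun k => by by_cases hk : k = i; exacts [hk ▸ e, hi k hk]
      rw [this, AutPSU.zero_left C] at hvu
      exact zero_ne_one hvu
    obtain ⟨u, hu, hui⟩ : ∃ u ∈ H, act u (bv 2) = (bv i : Fin 3 → F) := by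
      have e1 : act (B1 (ww C hF)) (bv (2 : Fin 3)) = bv 1 := W_act C hF 1 _ 2 1 (by simp)
      have e0 : act (B0 (ww C hF)) (bv (1 : Fin 3)) = bv 0 := W_act C hF 0 _ 1 0 (by simp)
      fin_cases i
      · exact ⟨_, mul_mem (h0 (ww C hF)) (h1 (ww C hF)), by rw [act_mul, e1]; exact e0⟩
      · exact ⟨_, h1 (ww C hF), e1⟩
      · exact ⟨1, one_mem H, act_one _⟩
    obtain ⟨t, ht, htx⟩ := scale (fun k => if k = i then v i else if k = i + 1 then (v i)⁻¹ else 1)
      (by fin_cases i <;> simp_all)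
    refine ⟨t * u, mul_mem ht hu, funext fun k => ?_⟩
    rw [act_mul, hui, htx]
    by_cases hk : k = i
    · subst hk; simp [bv]
    · simp [bv, hk, hi k hk]
  · set d := v 0 * v 1 * v 2 with hd
    have hd0 : d ≠ 0 := mul_ne_zero (mul_ne_zero (hf 0) (hf 1)) (hf 2)
    obtain ⟨K, hK4, hK⟩ := exists_fourier C hF d hd0
    obtain ⟨t, ht, htx⟩ := scale (fun k => v k * ((![d⁻¹, d⁻¹ * ω ^ 2, ω] : Fin 3 → F) k)⁻¹) (by
      simp
      field_simp
      have hc := cube C hF hd0
      simp only [d] at hc ⊢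
      linear_combination hc - o3)
    refine ⟨t * K, mul_mem ht (h4 K hK4), funext fun k => ?_⟩
    rw [act_mul, hK, htx]
    fin_cases k <;> simp [o0, hd0] <;> field_simp

/-- Maps agreeing on the generators of the two blocks agree. -/
theorem hom_ext {G : Type*} [Group G] (φ ψ : SU[3] →* G) (hψ : Function.Injective ψ) (hr : φ.range ≤ ψ.range)
    (d0 : φ (B0 (dd C hF)) = ψ (B0 (dd C hF))) (w0 : φ (B0 (ww C hF)) = ψ (B0 (ww C hF)))
    (d1 : φ (B1 (dd C hF)) = ψ (B1 (dd C hF))) (w1 : φ (B1 (ww C hF)) = ψ (B1 (ww C hF))) : φ = ψ := by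
  let δ : SU[3] →* SU[3] := (MonoidHom.ofInjective hψ).symm.toMonoidHom.comp
    (φ.codRestrict ψ.range fun x => hr ⟨x, rfl⟩)
  have hδ : ∀ x, ψ (δ x) = φ x := fun x => by
    show ψ ((MonoidHom.ofInjective hψ).symm _) = _
    rw [← MonoidHom.ofInjective_apply hψ, MulEquiv.apply_symm_apply]
    rfl
  have hblk : ∀ (o : ℕ) (ho : o + 2 ≤ 3), φ (emb o ho (dd C hF)) = ψ (emb o ho (dd C hF)) →
      φ (emb o ho (ww C hF)) = ψ (emb o ho (ww C hF)) → ∀ s : SU[2], δ (emb o ho s) = emb o ho s := by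
    intro o ho a b s
    have := gen_two C hF ((δ.comp (emb o ho)).eqLocus (emb o ho)) (hψ ((hδ _).trans a)) (hψ ((hδ _).trans b))
    exact this.ge (Subgroup.mem_top s)
  have f0 := hblk 0 (by decide) d0 w0
  have f1 := hblk 1 (by decide) d1 w1
  have finv : ∀ y : SU[3], y * y = 1 → δ y = y := fun y hy =>
    mem_of_invo C hF (δ.eqLocus (MonoidHom.id _)) f0 f1 hy
  have hinvw : ∀ (o : ℕ) (ho : o + 2 ≤ 3), (emb o ho (dd C hF * ww C hF) : SU[3]) * emb o ho (dd C hF * ww C hF) = 1 ∧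
      (emb o ho (ww C hF) : SU[3]) * emb o ho (ww C hF) = 1 := by
    intro o ho
    obtain ⟨w0', w1', w2', -⟩ := ww_spec C hF
    obtain ⟨-, d1', -, -⟩ := dd_spec C hF
    rw [← map_mul, ← map_mul, ww_sq, map_one, (two_anti C hF (s := dd C hF * ww C hF) (by
      rw [en_mul2, w0', d1', mul_zero, zero_mul, add_zero])).2, map_one]
    exact ⟨rfl, rfl⟩
  have hcs : ∀ x, x⁻¹ * δ x ∈ Subgroup.center SU[3] := by
    intro x
    have hc : ∀ y : SU[3], y * y = 1 → Commute (x⁻¹ * δ x) y := fun y hy => by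
      have h2 : δ (x * y * x⁻¹) = x * y * x⁻¹ :=
        finv _ (by rw [show x * y * x⁻¹ * (x * y * x⁻¹) = x * (y * y) * x⁻¹ by group, hy, mul_one, mul_inv_cancel])
      rw [map_mul, map_mul, map_inv, finv y hy] at h2
      show x⁻¹ * δ x * y = y * (x⁻¹ * δ x)
      calc x⁻¹ * δ x * y = x⁻¹ * (δ x * y * (δ x)⁻¹) * δ x := by group
        _ = x⁻¹ * (x * y * x⁻¹) * δ x := by rw [h2]
        _ = y * (x⁻¹ * δ x) := by group
    set c := x⁻¹ * δ x
    have cw : ∀ (o : ℕ) (ho : o + 2 ≤ 3), Commute c (emb o ho (ww C hF)) ∧ Commute c (emb o ho (dd C hF)) := by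
      intro o ho
      refine ⟨hc _ (hinvw o ho).2, ?_⟩
      have := (hc _ (hinvw o ho).1).mul_right (hc _ (hinvw o ho).2)
      rwa [map_mul, mul_assoc, (hinvw o ho).2, mul_one] at this
    have diag : ∀ j k : Fin 3, k ≠ j → act c (bv j) k = 0 := by
      intro j k hk
      have key : ∀ (o : ℕ) (ho : o + 2 ≤ 3), (wt C hF o k - wt C hF o j) * act c (bv j) k = 0 := by
        intro o ho
        have e := congrArg (fun s => act s (bv j) k) (cw o ho).2.eq
        simp only [act_mul, D_act, AutPSU.act_smul, Pi.smul_apply, smul_eq_mul] at e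
        have hexp : act (emb o ho (dd C hF) : SU[3]) (act c (bv j)) k = wt C hF o k * act c (bv j) k := by
          have hy : ∀ y : Fin 3 → F, y = ∑ i, y i • bv i := fun y => by
            funext i; simp [bv, Finset.sum_apply, Pi.single_apply]
          conv_lhs => rw [hy (act c (bv j))]
          simp [Fin.sum_univ_three, AutPSU.act_add, AutPSU.act_smul, D_act]
          fin_cases k <;> simp [bv, mul_comm]
        rw [hexp] at e
        rw [sub_mul, e, sub_self]
      obtain ⟨h0', h1', -, -⟩ := om_spec C hF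
      obtain ⟨h2', h3'⟩ := om_sq_ne C hF
      have k0 := key 0 (by decide)
      have k1 := key 1 (by decide)
      have h3'' := h3'.symm
      have h1'' := Ne.symm h1'
      have h2'' := h2'.symm
      fin_cases j <;> fin_cases k <;> simp_all [wt, sub_eq_zero]
    have hact : ∀ j : Fin 3, act c (bv j) = en c j j • bv j := fun j => funext fun k => by
      by_cases hk : k = j
      · subst hk; rw [act_bv]; simp [bv]
      · rw [diag j k hk]; simp [bv, hk]
    have sw : ∀ (o : ℕ) (ho : o + 2 ≤ 3) (j j' : Fin 3), (j : ℕ) = o → (j' : ℕ) = o + 1 → en c j j = en c j' j' := by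
      intro o ho j j' hj hj'
      have e := congrArg (fun s => act s (bv j) j') (cw o ho).1.eq
      simp only [act_mul, W_act C hF o ho j j' (Or.inl ⟨hj, hj'⟩), hact, AutPSU.act_smul] at e
      simpa [bv] using e.symm
    have e01 := sw 0 (by decide) 0 1 rfl rfl
    have e12 := sw 1 (by decide) 1 2 rfl rfl
    refine (AutPSU.mem_center_iff C (by decide) hF c).2 ⟨en c 0 0, fun y => ?_⟩
    have hy : y = ∑ i, y i • bv i := by funext i; simp [bv, Finset.sum_apply, Pi.single_apply]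
    conv_lhs => rw [hy]
    conv_rhs => rw [hy]
    simp [Fin.sum_univ_three, AutPSU.act_add, AutPSU.act_smul, hact, smul_smul, e01, e12, mul_comm]
  have htop := gen_four C hF (δ.eqLocus (MonoidHom.id _)) f0 f1 fun x hx => by
    show δ x = x
    have hz := hcs x
    set c := x⁻¹ * δ x with hcdef
    have e4 : c ^ 4 = 1 := by
      have h := congrArg δ hx
      rw [map_pow, map_one, show δ x = x * c by rw [hcdef, mul_inv_cancel_left],
        Commute.mul_pow (Subgroup.mem_center_iff.1 hz x : Commute x c), hx, one_mul] at h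
      exact h
    have hc1 : c = 1 := by
      obtain ⟨l, hl⟩ := (AutPSU.mem_center_iff C (by decide) hF c).1 hz
      have h4' := AutPSU.act_pow_scalar hl 4 (bv 0)
      rw [e4, act_one] at h4'
      have h5 : l ^ 4 = 1 := by simpa [bv] using (congrFun h4' 0).symm
      have hl0 : l ≠ 0 := fun e0 => by simp [e0] at h5
      have hl1 : l = 1 := by linear_combination h5 - l * cube C hF hl0
      exact ext_act fun y => by rw [hl, hl1, one_smul, act_one]
    exact (inv_mul_eq_one.1 hc1).symm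
  ext x
  rw [← hδ x, show δ x = x from htop.ge (Subgroup.mem_top x)]

end three

end Cfsg.Agent.Phan.Two
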