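import Cfsg.Agent.Lib.Phan.TwoCover
import Cfsg.Agent.Lib.Phan.TwoSmall

/-!
Over the field with four elements the amalgam of a vector stabiliser and a block of four completes to the special
unitary group.
-/

set_option autoImplicit false
set_option linter.unusedSectionVars false
set_option linter.unusedSimpArgs false
set_option linter.style.show false
set_option maxHeartbeats 2000000

namespace Cfsg.Agent.Phan.Two

open Matrix
open Cfsg.Agent.AutPSU (Conj h act act_mul act_one act_inv_act act_pres ext_act isHerm add_left add_right smul_left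
  smul_right sub_left sub_right zero_left self_fixed eq_zero_comm)

variable {F : Type*} [Field F] [Fintype F]

local notation "SU[" n "]" => Cfsg.SU n F 2
local notation "𝕙" => h (q := 2)

variable (C : Conj F 2) (hF : Fintype.card F = 2 ^ 2)
include C hF

/-- One step of the completion. -/
theorem stage {G : Type*} [Group G] {m : ℕ} (hm4 : 4 ≤ m) (f0 : SU[m] →* G) (f4 : SU[4] →* G)
    (hcompat4 : ∀ s : SU[3], f4 (emb 0 (show 0 + 3 ≤ 4 by omega) s) =
      f0 (emb (m - 3) (show m - 3 + 3 ≤ m by omega) s))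
    (hcomm4 : ∀ (s : SU[2]) (t : SU[m - 1]),
      Commute (S := G) (f4 (emb 2 (show 2 + 2 ≤ 4 by omega) s)) (f0 (emb 0 (show 0 + (m - 1) ≤ m by omega) t)))
    (h6 : m = 5 → ∀ (s t : SU[3]), Commute (S := G) (f4 (emb 1 (show 1 + 3 ≤ 4 by omega) s))
      (f0 (emb 0 (show 0 + 3 ≤ m by omega) t))) :
    ∃ f : SU[m + 1] →* G, (∀ s, f (E0 m s) = f0 s) ∧
      ∀ s, f (emb (m - 3) (show m - 3 + 4 ≤ m + 1 by omega) s) = f4 s := by
  have hm : 3 ≤ m := by omega
  have h14 : (1 : ℕ) + 3 ≤ 4 := by omega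
  have h04 : (0 : ℕ) + 3 ≤ 4 := by omega
  have hm34 : m - 3 + 4 ≤ m + 1 := by omega
  let f1 : SU[3] →* G := f4.comp (emb 1 h14)
  have hcompat : ∀ s : SU[2], f0 (emb (m - 2) (show m - 2 + 2 ≤ m by omega) s) =
      f1 (emb 0 (show 0 + 2 ≤ 3 by omega) s) := fun s => by
    show _ = f4 (emb 1 h14 (emb 0 _ s))
    rw [emb_emb 1 h14 0 _ 1 (show 1 + 2 ≤ 4 by omega) rfl, ← emb_emb 0 h04 1 (show 1 + 2 ≤ 3 by omega) 1 _ rfl,
      hcompat4, emb_emb (m - 3) _ 1 _ (m - 2) (show m - 2 + 2 ≤ m by omega) (by omega)]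
  have hcomm : ∀ (s : SU[2]) (t : SU[m - 1]),
      Commute (S := G) (f1 (emb 1 (show 1 + 2 ≤ 3 by omega) s)) (f0 (emb 0 (show 0 + (m - 1) ≤ m by omega) t)) :=
    fun s t => by
      show Commute (f4 (emb 1 h14 (emb 1 _ s))) _
      rw [emb_emb 1 h14 1 _ 2 (show 2 + 2 ≤ 4 by omega) rfl]
      exact hcomm4 s t
  set Γ := Gam hm f0 f1 (w3 C hF) with hΓ
  have h12 : (1 : ℕ) + 2 ≤ 3 := by omega
  have h02 : (0 : ℕ) + 2 ≤ 3 := by omega
  have hm2 : m - 2 + 2 ≤ m := by omega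
  have hm1 : 0 + (m - 1) ≤ m := by omega
  let eM : Fin (m + 1) → F := bv (Fin.last m)
  let i1 : Fin (m + 1) := ⟨m - 1, by omega⟩
  let i2 : Fin (m + 1) := ⟨m - 2, by omega⟩
  -- the pairs
  have mem0 : ∀ t, ((E0 m).prod f0) t ∈ Γ := fun t => Subgroup.subset_closure (Or.inl ⟨t, rfl⟩)
  have key0 : ∀ s : SU[2], ((E1 m hm).prod f1) (emb 0 h02 s) = ((E0 m).prod f0) (emb (m - 2) hm2 s) := fun s =>
    Prod.ext (by
      show E1 m hm (emb 0 h02 s) = E0 m (emb (m - 2) hm2 s)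
      rw [E1, E0, emb_emb (m - 2) _ 0 h02 (m - 2) (by omega) (by omega),
        emb_emb 0 _ (m - 2) hm2 (m - 2) (by omega) (by omega)]) (hcompat s).symm
  let ψ : SU[4] →* SU[m + 1] × G := (emb (m - 3) hm34).prod f4
  have key4 : ∀ s : SU[3], ψ (emb 0 h04 s) = ((E0 m).prod f0) (emb (m - 3) (by omega) s) := fun s =>
    Prod.ext (by
      show emb (m - 3) hm34 (emb 0 h04 s) = E0 m (emb (m - 3) _ s)
      rw [E0, emb_emb (m - 3) hm34 0 h04 (m - 3) (show m - 3 + 3 ≤ m + 1 by omega) rfl,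
        emb_emb 0 _ (m - 3) _ (m - 3) _ (by omega)]) (hcompat4 s)
  have key41 : ∀ s : SU[3], ψ (emb 1 h14 s) = ((E1 m hm).prod f1) s := fun s =>
    Prod.ext (by
      show emb (m - 3) hm34 (emb 1 h14 s) = E1 m hm s
      rw [E1, emb_emb (m - 3) hm34 1 h14 (m - 2) _ (by omega)]) rfl
  have w43 : act (emb 1 h14 (w3 C hF) : SU[4]) (bv (Fin.last 3)) = bv (⟨3 - 1, by omega⟩ : Fin 4) :=
    emb_bv_eq 1 h14 (w3 C hF) 2 1 _ _ (by simp) (by simp) (w3_bv C hF).1
  have mem4 : ∀ k, ψ k ∈ Γ := by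
    have := gen_step C hF (k := 3) le_rfl (Γ.comap ψ)
      (fun s => by rw [Subgroup.mem_comap]; exact (key4 s).symm ▸ mem0 _) (emb 1 h14 (w3 C hF))
      (by rw [Subgroup.mem_comap, key41]; exact Subgroup.subset_closure (Or.inr rfl)) w43
    exact fun k => Subgroup.mem_comap.1 (this ▸ Subgroup.mem_top k)
  have mem1 : ∀ k, ((E1 m hm).prod f1) k ∈ Γ := fun k => key41 k ▸ mem4 _
  let g0 : SU[m] → Γ := fun t => ⟨_, mem0 t⟩
  let g1 : SU[3] →* Γ := ((E1 m hm).prod f1).codRestrict Γ mem1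
  let S : Subgroup Γ := ((E0 m).prod f0).range.subgroupOf Γ
  let x0 : Γ ⧸ S := QuotientGroup.mk 1
  have hx0 : ∀ γ : Γ, γ • x0 = QuotientGroup.mk γ := fun γ => by
    show QuotientGroup.mk (γ * 1) = _; rw [mul_one]
  have hfix : ∀ t, g0 t • x0 = x0 := fun t => by
    rw [hx0]; exact QuotientGroup.eq.2 (by rw [mul_one]; exact inv_mem ⟨t, rfl⟩)
  have hE0 : ∀ t : SU[m], act (E0 m t) eM = eM := fun t => emb_fix 0 _ t (Or.inr (by simp))
  -- the projection
  let p : Γ ⧸ S → Fin (m + 1) → F := fun x => Quotient.liftOn' x (fun γ => act γ.1.1 eM) fun γ δ e => by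
    obtain ⟨t, ht⟩ := QuotientGroup.leftRel_apply.1 e
    have h1 : (γ⁻¹ * δ : Γ).1.1 = E0 m t := by
      have := congrArg Prod.fst ht
      exact this.symm
    show act γ.1.1 eM = act δ.1.1 eM
    rw [show δ.1.1 = γ.1.1 * E0 m t by rw [← h1]; simp, act_mul, hE0]
  have pmk : ∀ γ : Γ, p (γ • x0) = act γ.1.1 eM := fun γ => by rw [hx0]; rfl
  have pact : ∀ (γ : Γ) x, p (γ • x) = act γ.1.1 (p x) := fun γ x => by
    obtain ⟨δ, rfl⟩ := QuotientGroup.mk_surjective x
    show act (γ * δ).1.1 eM = act γ.1.1 (act δ.1.1 eM)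
    rw [← act_mul]; rfl
  -- the small block
  have h1bv : ∀ (k : SU[3]) (a b : Fin 3) (i j : Fin (m + 1)), act k (bv a) = bv b → (i : ℕ) = m - 2 + a →
      (j : ℕ) = m - 2 + b → act (g1 k).1.1 (bv i) = bv j := fun k a b i j hk hi hj =>
    emb_bv_eq (m - 2) (show m - 2 + 3 ≤ m + 1 by omega) k a b i j hi hj hk
  have l1 : ∀ k k' : SU[3], act k (bv 2) = act k' (bv 2) → g1 k • x0 = g1 k' • x0 := by
    intro k k' e
    rw [hx0, hx0]
    refine QuotientGroup.eq.2 ?_
    obtain ⟨s, hs⟩ := emb_range (F := F) (q := 2) 0 (show 0 + 2 ≤ 3 by omega) C (k⁻¹ * k') fun i hi => by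
      obtain rfl : i = 2 := Fin.ext (show (i : ℕ) = 2 by omega)
      rw [act_mul, ← e, act_inv_act]
    rw [← map_inv, ← map_mul, ← hs]
    exact ⟨emb (m - 2) hm2 s, (key0 s).symm⟩
  let y0 : Γ ⧸ S := g1 (w3 C hF) • x0
  have py0 : p y0 = bv i1 := by
    rw [pmk]
    exact h1bv _ 2 1 _ _ (w3_bv C hF).1 (by simp; omega) (by simp [i1]; omega)
  let Adj : Γ ⧸ S → Γ ⧸ S → Prop := fun x y => ∃ γ : Γ, x = γ • x0 ∧ y = γ • y0
  have aact : ∀ (δ : Γ) {x y}, Adj x y → Adj (δ • x) (δ • y) := fun δ x y ⟨γ, hx, hy⟩ =>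
    ⟨δ * γ, by rw [mul_smul, ← hx], by rw [mul_smul, ← hy]⟩
  have b21 : 𝕙 (bv 2 : Fin 3 → F) (bv 1) = 0 := bv_orth C (by decide)
  have asymm : ∀ {x y}, Adj x y → Adj y x := by
    rintro x y ⟨γ, rfl, rfl⟩
    refine aact γ ?_
    obtain ⟨k, k2, k1⟩ := exists_map_two C hF le_rfl (bv_unit C (2 : Fin 3)) (bv_unit C 1) b21 (bv_unit C 1)
      (bv_unit C 2) ((eq_zero_comm C).1 b21)
    refine ⟨g1 k, l1 _ _ (by rw [k2, (w3_bv C hF).1]), ?_⟩
    show x0 = g1 k • g1 (w3 C hF) • x0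
    rw [← mul_smul, ← map_mul, ← l1 1 (k * w3 C hF) (by rw [act_one, act_mul, (w3_bv C hF).1, k1]), map_one,
      one_smul]
  have stab : ∀ γ : Γ, γ • x0 = x0 → ∃ t, γ = g0 t := by
    intro γ e
    rw [hx0] at e
    have := QuotientGroup.eq.1 e
    rw [mul_one] at this
    obtain ⟨t, ht⟩ := inv_mem this
    refine ⟨t, ?_⟩
    rw [inv_inv] at ht
    exact Subtype.ext ht.symm
  let up : SU[m - 1] → Γ := fun t => g0 (emb 0 hm1 t)
  have upc : ∀ (t : SU[m - 1]) (s : SU[2]), up t * g1 (emb 1 h12 s) = g1 (emb 1 h12 s) * up t := fun t s =>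
    Subtype.ext (Prod.ext (by
      show E0 m (emb 0 hm1 t) * E1 m hm (emb 1 h12 s) = E1 m hm (emb 1 h12 s) * E0 m (emb 0 hm1 t)
      rw [E1, E0, emb_emb 0 _ 0 hm1 0 (by omega) rfl, emb_emb (m - 2) _ 1 h12 (m - 1) (by omega) (by omega)]
      exact (emb_comm 0 _ (m - 1) _ (by omega) t s).eq) (hcomm s t).symm.eq)
  have upfix : ∀ t, up t • y0 = y0 := fun t => by
    show up t • g1 (w3 C hF) • x0 = _
    rw [← mul_smul, show up t * g1 (w3 C hF) = g1 (w3 C hF) * up t from upc t _, mul_smul, hfix]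
  have low : ∀ (v : Fin (m + 1) → F) (l : ℕ) (hl : l ≤ m + 1), (∀ i : Fin (m + 1), l ≤ (i : ℕ) → v i = 0) →
      𝕙 v v = 1 → 𝕙 (fun a : Fin l => v ⟨0 + a, by omega⟩) (fun a : Fin l => v ⟨0 + a, by omega⟩) = 1 := by
    intro v l hl hz hv
    rw [← hv]
    show ∑ i, _ = ∑ i, _
    rw [← (blk 0 (show 0 + l ≤ m + 1 by omega)).sum_comp (fun i => v i * v i ^ 2), Fintype.sum_sum_type,
      Finset.sum_eq_zero (s := (Finset.univ : Finset (Fin (m + 1 - l)))) (fun b _ => by
        rw [hz _ (by simp [blk]), zero_mul]), add_zero]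
    rfl
  have moveTo : ∀ (l : ℕ) (hl : 0 + l ≤ m + 1), 2 ≤ l → ∀ (v : Fin (m + 1) → F),
      (∀ i : Fin (m + 1), l ≤ (i : ℕ) → v i = 0) → 𝕙 v v = 1 →
      ∃ t : SU[l], act (emb 0 hl t : SU[m + 1]) (bv ⟨l - 1, by omega⟩) = v := by
    intro l hl h2 v hz hv
    obtain ⟨t, ht⟩ := exists_map_one C hF h2 (bv_unit C ⟨l - 1, by omega⟩) (low v l (by omega) hz hv)
    refine ⟨t, funext fun x => ?_⟩
    by_cases hx : (x : ℕ) < l
    · rw [emb_in 0 hl t _ ⟨x, hx⟩ x (by simp),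
        show (fun c : Fin l => (bv (⟨l - 1, by omega⟩ : Fin (m + 1)) : Fin (m + 1) → F) ⟨0 + c, by omega⟩) =
          bv ⟨l - 1, by omega⟩ from funext fun c => by simp [bv, Pi.single_apply, Fin.ext_iff], ht]
      simp
    · rw [emb_out 0 hl t _ (Or.inr (by omega)), hz x (by omega)]
      simp [bv, Pi.single_apply, Fin.ext_iff]; omega
  have alift : ∀ x v, 𝕙 v v = 1 → 𝕙 (p x) v = 0 → ∃ y, Adj x y ∧ p y = v := by
    intro x v hv hxv
    obtain ⟨γ, rfl⟩ : ∃ γ : Γ, γ • x0 = x :=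
      ⟨_, (hx0 _).trans (Function.surjInv_eq QuotientGroup.mk_surjective x)⟩
    obtain ⟨t, ht⟩ := moveTo m (by omega) (by omega) (act γ.1.1⁻¹ v) (fun i hi => by
      rw [show i = Fin.last m from Fin.ext (by simp; omega), ← h_bv_right C (act γ.1.1⁻¹ v) (Fin.last m), h_act_left, inv_inv, ← pmk]
      exact (eq_zero_comm C).1 hxv) (by rw [act_pres]; exact hv)
    refine ⟨(γ * g0 t) • y0, ⟨γ * g0 t, by rw [mul_smul, hfix], rfl⟩, ?_⟩
    rw [pact, py0]
    show act (γ.1.1 * E0 m t) (bv i1) = v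
    rw [act_mul]
    exact (congrArg (act γ.1.1) ht).trans (AutPSU.act_act_inv _ _)
  have auniq0 : ∀ {y}, Adj x0 y → p y = bv i1 → y = y0 := by
    rintro y ⟨γ, e1, rfl⟩ e2
    obtain ⟨t, rfl⟩ := stab γ e1.symm
    rw [pact, py0] at e2
    obtain ⟨t', ht'⟩ := emb_range (F := F) (q := 2) 0 hm1 C t fun i hi => by
      funext a
      have h1 := congrFun e2 ⟨a, by omega⟩
      change act (E0 m t) (bv i1) _ = _ at h1
      rw [E0, emb_in 0 _ t _ a _ (by simp),
        show (fun c : Fin m => (bv i1 : Fin (m + 1) → F) ⟨0 + c, by omega⟩) = bv i from funext fun c => by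
          simp only [bv, Pi.single_apply, Fin.ext_iff, i1]
          refine if_congr ?_ rfl rfl
          omega] at h1
      rw [h1]
      simp only [bv, Pi.single_apply, Fin.ext_iff, i1]
      refine if_congr ?_ rfl rfl
      omega
    rw [← ht']
    exact upfix t'
  have auniq : ∀ {x y y'}, Adj x y → Adj x y' → p y = p y' → y = y' := by
    rintro x y y' ⟨γ, rfl, rfl⟩ a2 e
    have := aact γ⁻¹ a2
    rw [inv_smul_smul] at this
    rw [← auniq0 this (by rw [pact, ← e, ← pact, inv_smul_smul, py0]), smul_inv_smul]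
  -- the third vertex
  obtain ⟨u3, hu3⟩ := exists_map_one C hF (show 2 ≤ 3 by omega) (bv_unit C (2 : Fin 3)) (bv_unit C 0)
  let z1 : Γ ⧸ S := g1 u3 • x0
  have pz1 : p z1 = bv i2 := by
    rw [pmk]
    exact h1bv _ 2 0 _ _ hu3 (by simp; omega) (by simp [i2])
  have x0z1 : Adj x0 z1 := by
    obtain ⟨k, k2, k1⟩ := exists_map_two C hF le_rfl (bv_unit C (2 : Fin 3)) (bv_unit C 1) b21 (bv_unit C 2)
      (bv_unit C 0) (bv_orth C (by decide))
    refine ⟨g1 k, ?_, ?_⟩
    · rw [← l1 1 k (by rw [act_one, k2]), map_one, one_smul]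
    · show g1 u3 • x0 = g1 k • g1 (w3 C hF) • x0
      rw [← mul_smul, ← map_mul]
      exact l1 _ _ (by rw [act_mul, (w3_bv C hF).1, k1, hu3])
  have y0z1 : Adj y0 z1 := by
    obtain ⟨k, k2, k1⟩ := exists_map_two C hF le_rfl (bv_unit C (2 : Fin 3)) (bv_unit C 1) b21 (bv_unit C 1)
      (bv_unit C 0) (bv_orth C (by decide))
    refine ⟨g1 k, l1 _ _ (by rw [k2, (w3_bv C hF).1]), ?_⟩
    show g1 u3 • x0 = g1 k • g1 (w3 C hF) • x0
    rw [← mul_smul, ← map_mul]
    exact l1 _ _ (by rw [act_mul, (w3_bv C hF).1, k1, hu3])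
  have atri0 : ∀ {z}, Adj y0 z → 𝕙 eM (p z) = 0 → Adj x0 z := by
    intro z yz he
    obtain ⟨δ, d1, d2⟩ := yz
    have hzy : 𝕙 (p y0) (p z) = 0 := by
      rw [d1, d2, pact, pact, act_pres, py0]
      show 𝕙 (act (1 : SU[m + 1]) eM) _ = 0
      rw [act_one]; exact bv_orth C (fun e => by simp [Fin.ext_iff, i1] at e; omega)
    have hzu : 𝕙 (p z) (p z) = 1 := by rw [d2, pact, act_pres, py0]; exact bv_unit C _
    obtain ⟨t, ht⟩ := moveTo (m - 1) (by omega) (by omega) (p z) (fun i hi => by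
      rcases (show (i : ℕ) = m - 1 ∨ (i : ℕ) = m by omega) with e | e
      · rw [show i = i1 from Fin.ext e, ← h_bv_right C (p z) i1]
        exact (eq_zero_comm C).1 (py0 ▸ hzy)
      · rw [show i = Fin.last m from Fin.ext e, ← h_bv_right C (p z) (Fin.last m)]
        exact (eq_zero_comm C).1 he) hzu
    have hz : z = up t • z1 := auniq (y' := up t • z1) ⟨δ, d1, d2⟩
      (by have := aact (up t) y0z1; rwa [upfix] at this) (by
        rw [pact, pz1]
        show p z = act (E0 m (emb 0 hm1 t)) (bv i2)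
        rw [E0, emb_emb 0 _ 0 hm1 0 (by omega) rfl, ← ht]
        exact congrArg _ (congrArg bv (Fin.ext (by simp [i2]; omega))))
    rw [hz]
    have := aact (up t) x0z1
    rwa [show up t • x0 = x0 from hfix _] at this
  have atri : ∀ {x y z}, Adj x y → Adj y z → 𝕙 (p x) (p z) = 0 → Adj x z := by
    rintro x y z ⟨γ, rfl, rfl⟩ yz he
    have h2 := aact γ⁻¹ yz
    rw [inv_smul_smul] at h2
    have h3 := atri0 h2 (by rw [pact, show 𝕙 eM (act (γ⁻¹ : Γ).1.1 (p z)) = 𝕙 (act γ.1.1 eM) (p z) from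
      (h_act_left (γ : Γ).1.1 eM (p z)).symm, ← pmk]; exact he)
    have h4 := aact γ h3
    rwa [smul_inv_smul] at h4
  have aorth : ∀ {x y}, Adj x y → 𝕙 (p x) (p y) = 0 := by
    rintro x y ⟨γ, rfl, rfl⟩
    rw [pmk, pact, act_pres, py0]
    exact bv_orth C (fun e => by simp [Fin.ext_iff, i1] at e; omega)
  have aunit : ∀ x, 𝕙 (p x) (p x) = 1 := fun x => by
    obtain ⟨δ, rfl⟩ := QuotientGroup.mk_surjective x
    show 𝕙 (act δ.1.1 eM) (act δ.1.1 eM) = 1
    rw [act_pres]; exact bv_unit C _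
  -- squares split by a non-degenerate three-space
  let g4 : SU[4] →* Γ := ψ.codRestrict Γ mem4
  have l4 : ∀ k k' : SU[4], act k (bv 3) = act k' (bv 3) → g4 k • x0 = g4 k' • x0 := by
    intro k k' e
    rw [hx0, hx0]
    refine QuotientGroup.eq.2 ?_
    obtain ⟨s, hs⟩ := emb_range (F := F) (q := 2) 0 h04 C (k⁻¹ * k') fun i hi => by
      obtain rfl : i = 3 := Fin.ext (show (i : ℕ) = 3 by omega)
      rw [act_mul, ← e, act_inv_act]
    rw [← map_inv, ← map_mul, ← hs]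
    exact ⟨emb (m - 3) (by omega) s, (key4 s).symm⟩
  have g41 : ∀ k, g1 k = g4 (emb 1 h14 k) := fun k => Subtype.ext (key41 k).symm
  have abad : m + 1 = 6 → ∀ {x y z y' z'} (f : Fin 3 → Fin (m + 1) → F) (co : Fin 3 → F), ON (q := 2) f →
      f 2 = p x → p z = ∑ i, co i • f i → (∀ i, 𝕙 (p y) (f i) = 0) → (∀ i, 𝕙 (p y') (f i) = 0) →
      Adj x y → Adj y z → Adj x y' → Adj y' z' → p z = p z' → z = z' := by
    intro hm6 x y z y' z' f co hON hf2 hz hy hy' xy yz xy' yz' hzz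
    have hm5 : m = 5 := by omega
    obtain ⟨δ, rfl⟩ : ∃ γ : Γ, γ • x0 = x :=
      ⟨_, (hx0 _).trans (Function.surjInv_eq QuotientGroup.mk_surjective x)⟩
    let c3 : Fin 3 → Fin (m + 1) := fun i => ⟨3 + i, by omega⟩
    have hc3 : ON (q := 2) (fun i => (bv (c3 i) : Fin (m + 1) → F)) := fun i j => by
      rw [h_bv C]; simp [c3, Fin.ext_iff]
    have hfδ : ON (q := 2) (fun i => act δ.1.1⁻¹ (f i)) := fun i j => by rw [act_pres]; exact hON i j
    obtain ⟨s, hs⟩ := exists_su (q := 2) C (show 3 < m + 1 by omega) hfδ hc3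
    have hsM : act s eM = eM := by
      have := hs 2
      rw [show act δ.1.1⁻¹ (f 2) = eM by rw [hf2, pmk, act_inv_act]] at this
      rw [this]
      exact congrArg bv (Fin.ext (by simp [c3]; omega))
    obtain ⟨t, ht⟩ := emb_range (F := F) (q := 2) 0 (show 0 + m ≤ m + 1 by omega) C s fun i hi => by
      obtain rfl : i = Fin.last m := Fin.ext (by simp; omega)
      exact hsM
    set γ := g0 t * δ⁻¹ with hγ
    have hγ1 : γ.1.1 = s * δ.1.1⁻¹ := by rw [← ht]; rfl
    have hγf : ∀ i, act γ.1.1 (f i) = bv (c3 i) := fun i => by rw [hγ1, act_mul]; exact hs i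
    have hγx : γ • (δ • x0) = x0 := by rw [← mul_smul, hγ, inv_mul_cancel_right, hfix]
    have hperp : ∀ w, (∀ i, 𝕙 (p w) (f i) = 0) → ∀ j : Fin (m + 1), 3 ≤ (j : ℕ) → p (γ • w) j = 0 := by
      intro w hw j hj
      obtain ⟨i, rfl⟩ : ∃ i, c3 i = j := ⟨⟨(j : ℕ) - 3, by omega⟩, Fin.ext (by simp [c3]; omega)⟩
      rw [← h_bv_right C (p (γ • w)) (c3 i), pact, ← hγf, act_pres]
      exact hw i
    -- the vertices over the three-space
    have hzc : p (γ • z) = ∑ i, co i • bv (c3 i) := by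
      rw [pact, hz, Fin.sum_univ_three, Fin.sum_univ_three, AutPSU.act_add, AutPSU.act_add, AutPSU.act_smul,
        AutPSU.act_smul, AutPSU.act_smul, hγf, hγf, hγf]
    have hco : 𝕙 co co = 1 := by
      rw [← aunit (γ • z), hzc]
      simp [Fin.sum_univ_three, add_left C, add_right C, smul_left C, smul_right C, h_bv C, c3, Fin.ext_iff]
      show ∑ i, co i * co i ^ 2 = _
      rw [Fin.sum_univ_three, ← C.apply_eq, ← C.apply_eq, ← C.apply_eq]
    obtain ⟨k, hk⟩ := exists_map_one C hF (n := 3) (by omega) (bv_unit C (2 : Fin 3)) hco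
    have pT : p (g1 k • x0) = p (γ • z) := by
      rw [pmk, hzc]
      show act (E1 m hm k) eM = _
      funext j
      by_cases hj : (j : ℕ) < 3
      · rw [E1, emb_out _ _ k _ (Or.inl (by omega))]
        simp [eM, bv, Fin.sum_univ_three, c3, Fin.ext_iff, show (j : ℕ) ≠ m by omega, show (j : ℕ) ≠ 3 by omega,
          show (j : ℕ) ≠ 4 by omega, show (j : ℕ) ≠ 5 by omega]
      · obtain ⟨i, rfl⟩ : ∃ i, c3 i = j := ⟨⟨(j : ℕ) - 3, by omega⟩, Fin.ext (by simp [c3]; omega)⟩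
        rw [E1, emb_in (m - 2) _ k _ i _ (by simp [c3]; omega),
          show (fun b : Fin 3 => eM ⟨m - 2 + b, by omega⟩) = bv 2 from funext fun b => by
            simp only [eM, bv, Pi.single_apply, Fin.ext_iff, Fin.val_last]
            refine if_congr ?_ rfl rfl
            simp; omega, hk]
        simp only [Fin.sum_univ_three, Pi.add_apply, Pi.smul_apply, bv, Pi.single_apply, c3, Fin.ext_iff,
          smul_eq_mul]
        fin_cases i <;> simp
    -- a vertex fixed by the block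
    obtain ⟨u, hu3, hu2⟩ := exists_map_two C hF (n := 4) (by omega) (bv_unit C (3 : Fin 4)) (bv_unit C 2)
      (bv_orth C (by decide)) (bv_unit C 3) (bv_unit C 0) (bv_orth C (by decide))
    set π := u * emb 1 h14 (w3 C hF) with hπ
    have w43' : act (emb 1 h14 (w3 C hF) : SU[4]) (bv 3) = bv (2 : Fin 4) := w43
    have hπ0 : act π (bv 3) = bv (0 : Fin 4) := by rw [hπ, act_mul, w43', hu2]
    set E := g4 π • x0 with hE
    have pE : p E = bv (⟨2, by omega⟩ : Fin (m + 1)) := by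
      rw [hE, pmk]
      exact emb_bv_eq (m - 3) hm34 π 3 0 (Fin.last m) _ (by simp; omega) (by simp; omega) hπ0
    have x0E : Adj x0 E := by
      refine ⟨g4 u, ?_, ?_⟩
      · rw [← l4 1 u (by rw [act_one, hu3]), map_one, one_smul]
      · show g4 π • x0 = g4 u • g1 (w3 C hF) • x0
        rw [g41, ← mul_smul, ← map_mul]
    set T := g1 k with hT
    have TE : T • E = E := by
      rw [hE, hT, g41, ← mul_smul, ← map_mul]
      exact l4 _ _ (by rw [act_mul, hπ0, emb_fix 1 h14 k (Or.inl (by simp))])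
    have main : ∀ Y Z, (∀ j : Fin (m + 1), 3 ≤ (j : ℕ) → p Y j = 0) → Adj x0 Y → Adj Y Z → p Z = p (γ • z) →
        Z = T • x0 := by
      intro Y Z hY xY YZ hZ
      obtain ⟨r, hr⟩ := exists_map_one C hF (n := 3) (by omega) (bv_unit C (2 : Fin 3))
        (low (p Y) 3 (by omega) hY (aunit Y))
      set R := g0 (emb 0 (show 0 + 3 ≤ m by omega) r) with hR
      have RE : Y = R • E := auniq xY (by
        have := aact R x0E; rwa [show R • x0 = x0 from hfix _] at this) (by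
        rw [pact, pE]
        show p Y = act (E0 m (emb 0 _ r)) _
        rw [E0, emb_emb 0 _ 0 _ 0 (show 0 + 3 ≤ m + 1 by omega) rfl]
        funext j
        by_cases hj : (j : ℕ) < 3
        · rw [emb_in 0 _ r _ ⟨j, hj⟩ j (by simp),
            show (fun b : Fin 3 => (bv (⟨2, by omega⟩ : Fin (m + 1)) : Fin (m + 1) → F) ⟨0 + b, by omega⟩) = bv 2
              from funext fun b => by simp [bv, Pi.single_apply, Fin.ext_iff], hr]
          simp
        · rw [emb_out 0 _ r _ (Or.inr (by omega)), hY j (by omega)]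
          have hne : j ≠ (⟨2, by omega⟩ : Fin (m + 1)) := fun e => hj (by rw [e]; simp)
          simp [bv, Pi.single_eq_of_ne hne])
      have RT : R * T = T * R := Subtype.ext (Prod.ext (by
        show E0 m (emb 0 _ r) * E1 m hm k = E1 m hm k * E0 m (emb 0 _ r)
        rw [E1, E0, emb_emb 0 _ 0 _ 0 (show 0 + 3 ≤ m + 1 by omega) rfl]
        exact (emb_comm 0 _ (m - 2) _ (by omega) r k).eq) (h6 hm5 k r).symm.eq)
      have h1 : Adj E (T • x0) := by
        have := aact T (asymm x0E); rwa [TE] at this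
      have h2 := aact R h1
      rw [← RE, ← mul_smul, RT, mul_smul, show R • x0 = x0 from hfix _] at h2
      exact auniq YZ h2 (hZ.trans pT.symm)
    have a1 := aact γ xy
    have a2 := aact γ yz
    have a3 := aact γ xy'
    have a4 := aact γ yz'
    rw [hγx] at a1 a3
    refine MulAction.injective γ ((main _ _ (hperp y hy) a1 a2 rfl).trans (main _ _ (hperp y' hy') a3 a4 ?_).symm)
    rw [pact, pact, hzz]
  let K : Cov C (m + 1) (Γ ⧸ S) :=
    { p := p, Adj := Adj, orth := aorth, unit := aunit, symm := asymm, lift := alift, uniq := auniq, tri := atri,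
      bad := abad }
  obtain ⟨R, hR0, hRc, hRi, hRs⟩ := K.exists_section hF (show 5 ≤ m + 1 by omega) x0
  have hall : ∀ γ : Γ, γ • x0 ∈ R := by
    intro γ
    have key : ∀ g (hg : g ∈ Γ), (⟨g, hg⟩ : Γ) • x0 ∈ R := by
      intro g hg
      have step : ∀ (a b : SU[m + 1] × G) (ha : a ∈ Γ) (hb : b ∈ Γ),
          ((⟨b, hb⟩ : Γ) • x0 = x0 ∨ Adj x0 ((⟨b, hb⟩ : Γ) • x0)) →
          (⟨a, ha⟩ : Γ) • x0 ∈ R → (⟨a * b, mul_mem ha hb⟩ : Γ) • x0 ∈ R := by
        intro a b ha hb h h'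
        rw [show (⟨a * b, mul_mem ha hb⟩ : Γ) = ⟨a, ha⟩ * ⟨b, hb⟩ from rfl, mul_smul]
        rcases h with h | h
        · rwa [h]
        · exact hRc _ _ h' (aact _ h)
      induction hg using Subgroup.closure_induction_right with
      | one => rwa [show (⟨1, _⟩ : Γ) = 1 from rfl, one_smul]
      | mul_right a ha b hb ih =>
        refine step a b ha (Subgroup.subset_closure hb) ?_ ih
        rcases hb with ⟨t, rfl⟩ | rfl
        · exact Or.inl (hfix t)
        · exact Or.inr ⟨1, (one_smul _ _).symm, (one_smul _ _).symm⟩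
      | mul_inv_cancel a ha b hb ih =>
        refine step a b⁻¹ ha (inv_mem (Subgroup.subset_closure hb)) ?_ ih
        rcases hb with ⟨t, rfl⟩ | rfl
        · left
          show (g0 t)⁻¹ • x0 = x0
          rw [inv_smul_eq_iff, hfix]
        · right
          show Adj x0 ((g1 (w3 C hF))⁻¹ • x0)
          refine asymm ⟨(g1 (w3 C hF))⁻¹, rfl, ?_⟩
          rw [inv_smul_smul]
    exact key γ.1 γ.2
  let π : Γ →* SU[m + 1] := (MonoidHom.fst _ _).comp Γ.subtype
  have hinj : Function.Injective π := (injective_iff_map_eq_one π).2 fun γ hγ => by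
    have e : γ • x0 = x0 := hRi _ _ (hall γ) hR0 (by
      show p (γ • x0) = p x0
      rw [pmk, show γ.1.1 = 1 from hγ]
      rfl)
    obtain ⟨t, rfl⟩ := stab γ e
    have ht : t = 1 := emb_injective 0 _ (show E0 m t = E0 m 1 by rw [map_one]; exact hγ)
    subst ht
    exact Subtype.ext ((E0 m).prod f0).map_one
  have hsurj : Function.Surjective π := fun s => by
    obtain ⟨x, -, hxv⟩ := hRs (act s eM) (by rw [act_pres]; exact bv_unit C _)
    obtain ⟨γ, rfl⟩ := QuotientGroup.mk_surjective x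
    obtain ⟨t, ht⟩ := emb_range (F := F) (q := 2) 0 (show 0 + m ≤ m + 1 by omega) C (γ.1.1⁻¹ * s) fun i hi => by
      obtain rfl : i = Fin.last m := Fin.ext (by simp; omega)
      rw [act_mul, show act s (bv (Fin.last m)) = act γ.1.1 eM from hxv.symm, act_inv_act]
    refine ⟨γ * g0 t, ?_⟩
    show γ.1.1 * E0 m t = s
    rw [E0, ht, mul_inv_cancel_left]
  let e := MulEquiv.ofBijective π ⟨hinj, hsurj⟩
  refine ⟨((MonoidHom.snd _ _).comp Γ.subtype).comp e.symm.toMonoidHom, fun t => ?_, fun k => ?_⟩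
  · show (e.symm (E0 m t)).1.2 = f0 t
    rw [show e.symm (E0 m t) = g0 t from e.symm_apply_eq.2 rfl]
    rfl
  · show (e.symm (emb (m - 3) hm34 k)).1.2 = f4 k
    rw [show e.symm (emb (m - 3) hm34 k) = g4 k from e.symm_apply_eq.2 rfl]
    rfl

end Cfsg.Agent.Phan.Two
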