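import Cfsg.Agent.Lib.Phan.TwoPair
import Cfsg.Agent.Lib.Phan.TwoQuad
import Cfsg.Agent.Lib.Phan.TwoStage

/-!
Weak Phan systems of unitary type over the field with four elements.
-/

set_option autoImplicit false
set_option linter.unusedSectionVars false
set_option linter.unusedSimpArgs false
set_option linter.style.show false
set_option maxHeartbeats 1000000

namespace Cfsg.Agent.Phan.Two

open Matrix
open Cfsg.Agent.AutPSU (Conj h act act_mul act_one act_inv_act act_pres ext_act)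

variable {F : Type*} [Field F] [Fintype F]

local notation "SU[" n "]" => Cfsg.SU n F 2
local notation "B0" => emb (F := F) (q := 2) (k := 2) (n := 3) 0 (by decide)
local notation "B1" => emb (F := F) (q := 2) (k := 2) (n := 3) 1 (by decide)
local notation "T0" => emb (F := F) (q := 2) (k := 3) (n := 4) 0 (by decide)
local notation "T1" => emb (F := F) (q := 2) (k := 3) (n := 4) 1 (by decide)

theorem pair_sub {G : Type*} [Group G] {V A B : Subgroup G} (hp : Cfsg.IsStandardUnitaryPair V A B F 2) :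
    A ≤ V ∧ B ≤ V := by
  rcases hp with ⟨ψ, hA, hB⟩ | ⟨ψ, hA, hB⟩ <;>
  · subst hA hB
    constructor <;>
    · rintro _ ⟨x, -, rfl⟩
      exact SetLike.coe_mem _

theorem emb_id {n : ℕ} (ho : 0 + n ≤ n) (s : SU[n]) : emb (F := F) (q := 2) (k := n) (n := n) 0 ho s = s := by
  refine ext_act fun x => funext fun j => ?_
  have hj : blk (k := n) 0 ho (.inl j) = j := Fin.ext (Nat.zero_add _)
  have hf : (fun a => x (blk (k := n) 0 ho (.inl a))) = x := funext fun a => congrArg x (Fin.ext (Nat.zero_add _))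
  conv_lhs => rw [← hj, emb_act, Function.comp_apply, Equiv.symm_apply_apply, Sum.elim_inl, hf]

variable (C : Conj F 2) (hF : Fintype.card F = 2 ^ 2)
include C hF

/-- A map sending the standard generators of a block into a subgroup of order at most that of the block. -/
theorem block_range {G : Type*} [Group G] {n : ℕ} (f : SU[n] →* G) (hf : Function.Injective f) (o : ℕ)
    (ho : o + 2 ≤ n) (π : SU[3] →* G) (p : ℕ) (hp : p + 2 ≤ 3)
    (hπ : Function.Injective π)
    (hd : f (emb o ho (dd C hF)) ∈ (π.comp (emb p hp)).range)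
    (hw : f (emb o ho (ww C hF)) ∈ (π.comp (emb p hp)).range) :
    (f.comp (emb o ho)).range = (π.comp (emb p hp)).range := by
  haveI : Finite (π.comp (emb p hp)).range := Finite.of_surjective _ (π.comp (emb p hp)).rangeRestrict_surjective
  refine Subgroup.eq_of_le_of_card_ge ?_ ?_
  · have := gen_two C hF ((π.comp (emb p hp)).range.comap (f.comp (emb o ho))) hd hw
    rintro _ ⟨s, rfl⟩
    exact Subgroup.mem_comap.1 (this ▸ Subgroup.mem_top s)
  · rw [← Nat.card_congr (MonoidHom.ofInjective (f := f.comp (emb o ho)) (hf.comp (emb_injective o ho))).toEquiv,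
      ← Nat.card_congr (MonoidHom.ofInjective (f := π.comp (emb p hp)) (hπ.comp (emb_injective p hp))).toEquiv]

/-- Two adjacent blocks inside an injective image of `SU₄(2)` span the image of a block of size three. -/
theorem range_three {G : Type*} [Group G] (f : SU[4] →* G) (hf : Function.Injective f) (π : SU[3] →* G)
    (hπ : Function.Injective π) (hle : π.range ≤ f.range) (o : ℕ) (ho : o + 3 ≤ 4)
    (hb0 : ∀ s, ∃ s', f (emb o (show o + 2 ≤ 4 by omega) s') = π (B0 s))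
    (hb1 : ∀ s, ∃ s', f (emb (o + 1) (show o + 1 + 2 ≤ 4 by omega) s') = π (B1 s))
    {u : SU[2]} (hu : u ^ 3 = 1) (hu1 : u ≠ 1)
    (hd0 : π (B0 u) = f (emb o (show o + 2 ≤ 4 by omega) (dd C hF)))
    (hd1 : π (B1 u) = f (emb (o + 1) (show o + 1 + 2 ≤ 4 by omega) (dd C hF))) :
    (f.comp (emb o ho)).range = π.range := by
  obtain ⟨o0, o1, o3, o2⟩ := om_spec C hF
  have htwo := two_zero C hF
  let ψ : SU[3] →* SU[4] := (MonoidHom.ofInjective hf).symm.toMonoidHom.comp
    (π.codRestrict f.range fun x => hle ⟨x, rfl⟩)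
  have hψ : ∀ x, f (ψ x) = π x := fun x =>
    congrArg Subtype.val ((MonoidHom.ofInjective hf).apply_symm_apply (π.codRestrict f.range _ x))
  set X : SU[4] := emb o (show o + 2 ≤ 4 by omega) (dd C hF) * emb (o + 1) (show o + 1 + 2 ≤ 4 by omega) (dd C hF) *
    emb (o + 1) (show o + 1 + 2 ≤ 4 by omega) (dd C hF) with hX
  have hXj : ∀ j : Fin 4, act X (bv j) =
      (if o ≤ (j : ℕ) ∧ (j : ℕ) < o + 3 then om C hF else 1) • (bv j : Fin 4 → F) := fun j => by
    rw [hX, act_mul, act_mul, D_act, AutPSU.act_smul, D_act, AutPSU.act_smul, AutPSU.act_smul, D_act, smul_smul,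
      smul_smul]
    congr 1
    obtain rfl | rfl : o = 0 ∨ o = 1 := by omega
    all_goals
      fin_cases j <;> simp [wt] <;> first
        | linear_combination (0 : F)
        | linear_combination (om C hF) * o3
  set X3 : SU[3] := B0 u * B1 u * B1 u with hX3
  have hcen : X3 ∈ Subgroup.center SU[3] := by
    have h0 : B0 (dd C hF) * B1 (dd C hF) * B1 (dd C hF) ∈ Subgroup.center SU[3] := by
      rw [AutPSU.mem_center_iff C (by decide) hF]
      refine ⟨om C hF, fun x => ?_⟩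
      set z : SU[3] := B0 (dd C hF) * B1 (dd C hF) * B1 (dd C hF) with hz
      have hM : (z : Matrix.SpecialLinearGroup (Fin 3) F).1 = om C hF • (1 : Matrix (Fin 3) (Fin 3) F) :=
        Matrix.ext_of_mulVec_single fun j => by
          rw [Matrix.smul_mulVec, Matrix.one_mulVec]
          show act z (bv j) = om C hF • (bv j : Fin 3 → F)
          rw [hz, act_mul, act_mul, D_act, AutPSU.act_smul, D_act, AutPSU.act_smul, AutPSU.act_smul, D_act,
            smul_smul, smul_smul]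
          congr 1
          fin_cases j <;> simp [wt] <;> first
            | linear_combination (0 : F)
            | linear_combination (om C hF) * o3
      show (z : Matrix.SpecialLinearGroup (Fin 3) F).1 *ᵥ x = _
      rw [hM, Matrix.smul_mulVec, Matrix.one_mulVec]
    obtain ⟨r0, r1, rc⟩ := rel_std C hF (n := 3) 0 le_rfl
    rcases two_three C hF hu hu1 with rfl | rfl
    · exact h0
    · rw [hX3, map_mul, map_mul]
      convert mul_mem h0 h0 using 1
      have this : Commute (B0 (dd C hF)) (B1 (dd C hF)) := rc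
      generalize B0 (dd C hF) = a, B1 (dd C hF) = b at this ⊢
      calc a * a * (b * b) * (b * b) = a * (a * (b * b)) * (b * b) := by group
        _ = a * ((b * b) * a) * (b * b) := by rw [(this.mul_right this).eq]
        _ = _ := by group
  have hψX : ψ X3 = X := hf (by
    rw [hψ, hX3, hX, map_mul, map_mul, map_mul, map_mul, hd0, hd1])
  obtain ⟨k, hk⟩ : ∃ k : Fin 4, (k : ℕ) < o ∨ o + 3 ≤ (k : ℕ) := by
    obtain rfl | rfl : o = 0 ∨ o = 1 := by omega
    exacts [⟨3, Or.inr le_rfl⟩, ⟨0, Or.inl Nat.one_pos⟩]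
  have huniq : ∀ j : Fin 4, ((j : ℕ) < o ∨ o + 3 ≤ (j : ℕ)) → j = k := fun j hj => Fin.ext (by omega)
  have hvec : ∀ x, act (ψ x) (bv k) = (act (ψ x) (bv k) k) • (bv k : Fin 4 → F) := by
    intro x
    set v := act (ψ x) (bv k) with hv
    have hXv : act X v = v := by
      rw [hv, ← act_mul, ← hψX, ← map_mul, ← Subgroup.mem_center_iff.1 hcen x, map_mul, act_mul, hψX, hXj,
        if_neg (by omega), one_smul]
    funext j
    by_cases hj : (j : ℕ) < o ∨ o + 3 ≤ (j : ℕ)
    · rw [huniq j hj]; simp [bv]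
    · have h1 := act_pres X v (bv j)
      rw [hXv, hXj, if_pos (by omega), AutPSU.smul_right C, h_bv_right C] at h1
      have hne : C.σ (om C hF) ≠ 1 := by rw [sigma_sq C hF]; exact (om_sq_ne C hF).1
      have h0 : v j = 0 := (mul_eq_zero.1 (show (C.σ (om C hF) - 1) * v j = 0 by linear_combination h1)).resolve_left
        (sub_ne_zero.2 hne)
      rw [h0]
      have : j ≠ k := fun e => hj (e ▸ hk)
      simp [bv, this]
  let H : Subgroup SU[3] :=
    { carrier := {x | act (ψ x) (bv k) = bv k}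
      one_mem' := by simp only [Set.mem_setOf_eq, map_one, act_one]
      mul_mem' := fun {a b} ha hb => by
        simp only [Set.mem_setOf_eq] at ha hb ⊢
        rw [map_mul, act_mul, hb, ha]
      inv_mem' := fun {a} ha => by
        simp only [Set.mem_setOf_eq] at ha ⊢
        conv_lhs => rw [← ha, map_inv, act_inv_act] }
  have hH : H = ⊤ := by
    refine gen_four C hF H (fun s => ?_) (fun s => ?_) fun x hx => ?_
    · obtain ⟨s', e⟩ := hb0 s
      show act (ψ (B0 s)) (bv k) = bv k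
      rw [show ψ (B0 s) = emb o _ s' from hf ((hψ _).trans e.symm)]
      exact emb_fix o _ s' (by omega)
    · obtain ⟨s', e⟩ := hb1 s
      show act (ψ (B1 s)) (bv k) = bv k
      rw [show ψ (B1 s) = emb (o + 1) _ s' from hf ((hψ _).trans e.symm)]
      exact emb_fix (o + 1) _ s' (by omega)
    · show act (ψ x) (bv k) = bv k
      have hev := hvec x
      set c := act (ψ x) (bv k) k
      have hp : ∀ m : ℕ, act (ψ x ^ m) (bv k) = c ^ m • (bv k : Fin 4 → F) := fun m => by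
        induction m with
        | zero => rw [pow_zero, pow_zero, act_one, one_smul]
        | succ m ih => rw [pow_succ, act_mul, hev, AutPSU.act_smul, ih, smul_smul, pow_succ, mul_comm]
      have h4 := congrFun (hp 4) k
      rw [← map_pow, hx, map_one, act_one] at h4
      simp [bv] at h4
      have hc0 : c ≠ 0 := fun e => AutPSU.act_ne_zero (ψ x) (x := (bv k : Fin 4 → F))
        (fun e' => by simpa [bv] using congrFun e' k) (by rw [hev, e, zero_smul])
      have hc1 : c = 1 := by linear_combination -h4 - c * cube C hF hc0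
      rw [hev, hc1, one_smul]
  have hπf : π.range ≤ (f.comp (emb o ho)).range := by
    rintro _ ⟨x, rfl⟩
    have hx : act (ψ x) (bv k) = bv k := (hH ▸ Subgroup.mem_top x : x ∈ H)
    obtain ⟨t, ht⟩ := emb_range o ho C (ψ x) fun j hj => by rw [huniq j hj]; exact hx
    exact ⟨t, by rw [MonoidHom.comp_apply, ht, hψ]⟩
  haveI : Finite (f.comp (emb o ho)).range := Finite.of_surjective _ (f.comp (emb o ho)).rangeRestrict_surjective
  refine (Subgroup.eq_of_le_of_card_ge hπf ?_).symm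
  rw [← Nat.card_congr (MonoidHom.ofInjective (f := f.comp (emb o ho)) (hf.comp (emb_injective o ho))).toEquiv,
    ← Nat.card_congr (MonoidHom.ofInjective hπ).toEquiv]

section system

variable {G : Type*} [Group G] {n : ℕ} (hn : 3 ≤ n) (U : Fin n → Subgroup G) (V : Fin n → Fin n → Subgroup G)
  (h1 : ∀ i j : Fin n, (i : ℕ) + 2 ≤ j → ∀ x ∈ U i, ∀ y ∈ U j, x * y = y * x)
  (h2 : ∀ i j : Fin n, (i : ℕ) + 1 = j → Cfsg.IsStandardUnitaryPair (V i j) (U i) (U j) F 2)
include hn h1 h2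

/-- Every pair is faithfully parametrised. -/
theorem pair_param (a b : Fin n) (hab : (a : ℕ) + 1 = b) :
    ∃ π : Cfsg.SU 3 F 2 →* G, Good π (U a) (U b) ∧ π.range = V a b ∧ Function.Injective π := by
  obtain ⟨π, hπ, hr⟩ := good_range C hF (h2 a b hab)
  refine ⟨π, hπ, hr, ?_⟩
  by_contra hni
  have hde := tori_eq C hF hπ hni
  set d := π (B0 (dd C hF)) with hd
  have hdA : d ∈ U a := hπ.2.1 ▸ ⟨_, rfl⟩
  have hdB : d ∈ U b := by rw [hde, ← hπ.2.2]; exact ⟨_, rfl⟩
  have hd3 : d ^ 3 = 1 := by rw [hd, ← map_pow, ← map_pow, dd_three, map_one, map_one]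
  have hd1 : d ≠ 1 := fun e => dd_ne C hF (hπ.inj C hF 0 (by decide) (e.trans (map_one _).symm))
  have hfix : ∀ w, d * w = w * d → w * w = 1 → w * d * w = d := fun w e e2 => by
    rw [← e, mul_assoc, e2, mul_one]
  by_cases hb : (b : ℕ) + 1 < n
  · let c : Fin n := ⟨b + 1, hb⟩
    obtain ⟨π', hπ', -⟩ := good_range C hF (h2 b c rfl)
    set w := π' (B1 (ww C hF)) with hw
    have hwC : w ∈ U c := by rw [hw, ← hπ'.2.2]; exact ⟨_, rfl⟩
    have hw2 : w * w = 1 := by rw [hw, ← map_mul, ← map_mul, ww_sq, map_one, map_one]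
    have hw1 : w ≠ 1 := fun e => ww_ne C hF (hπ'.inj C hF 1 (by decide) (e.trans (map_one _).symm))
    exact move_right C hF hπ' hwC hw2 hw1 hdB hd3 hd1
      (hfix w (h1 a c (by simp only [c]; omega) d hdA w hwC) hw2)
  · let c : Fin n := ⟨a - 1, by omega⟩
    obtain ⟨π', hπ', -⟩ := good_range C hF (h2 c a (by simp only [c]; omega))
    set w := π' (B0 (ww C hF)) with hw
    have hwC : w ∈ U c := by rw [hw, ← hπ'.2.1]; exact ⟨_, rfl⟩
    have hw2 : w * w = 1 := by rw [hw, ← map_mul, ← map_mul, ww_sq, map_one, map_one]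
    have hw1 : w ≠ 1 := fun e => ww_ne C hF (hπ'.inj C hF 0 (by decide) (e.trans (map_one _).symm))
    exact move_left C hF hπ' hwC hw2 hw1 hdA hd3 hd1
      (hfix w (h1 c b (by simp only [c]; omega) w hwC d hdB).symm hw2)

/-- Every group of the system is a block of some pair. -/
theorem block_param (i : Fin n) :
    ∃ (π : Cfsg.SU 3 F 2 →* G) (A B : Subgroup G) (o : ℕ) (ho : o + 2 ≤ 3),
      Good π A B ∧ (π.comp (emb o ho)).range = U i := by
  by_cases hi : (i : ℕ) + 1 < n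
  · obtain ⟨π, hπ, -⟩ := good_range C hF (h2 i ⟨i + 1, hi⟩ rfl)
    exact ⟨π, _, _, 0, by decide, hπ, hπ.2.1⟩
  · obtain ⟨π, hπ, -⟩ := good_range C hF (h2 ⟨i - 1, by omega⟩ i (by simp only; omega))
    exact ⟨π, _, _, 1, by decide, hπ, hπ.2.2⟩

/-- Compatible generators of the groups of the system. -/
theorem exists_gens : ∃ d w : ℕ → G,
    (∀ i (hi : i < n), d i ∈ U ⟨i, hi⟩ ∧ d i ^ 3 = 1 ∧ d i ≠ 1) ∧
    (∀ i (hi : i < n), w i ∈ U ⟨i, hi⟩ ∧ w i * w i = 1 ∧ w i ≠ 1) ∧
    (∀ i, i + 1 < n → w i * d (i + 1) * w i = d i * d (i + 1)) := by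
  classical
  have hinv : ∀ i : Fin n, ∃ w ∈ U i, w * w = 1 ∧ w ≠ 1 := fun i => by
    obtain ⟨π, A, B, o, ho, hπ, hr⟩ := block_param C hF hn U V h1 h2 i
    refine ⟨π (emb o ho (ww C hF)), hr ▸ ⟨_, rfl⟩, by rw [← map_mul, ← map_mul, ww_sq, map_one, map_one], fun e => ?_⟩
    exact ww_ne C hF (hπ.inj C hF o ho (e.trans (map_one _).symm))
  choose w hwU hw2 hw1 using hinv
  let w' : ℕ → G := fun i => if h : i < n then w ⟨i, h⟩ else 1
  have hw' : ∀ i (hi : i < n), w' i ∈ U ⟨i, hi⟩ ∧ w' i * w' i = 1 ∧ w' i ≠ 1 := fun i hi => by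
    simp only [w', dif_pos hi]; exact ⟨hwU _, hw2 _, hw1 _⟩
  let P : ℕ → G → G → Prop := fun i x e => ∀ hi : i + 1 < n,
    e ∈ U ⟨i + 1, hi⟩ ∧ e ^ 3 = 1 ∧ e ≠ 1 ∧ w' i * e * w' i = x * e
  let step : ℕ → G → G := fun i x => if h : ∃ e, P i x e then h.choose else 1
  obtain ⟨π, A, B, o, ho, hπ, hr⟩ := block_param C hF hn U V h1 h2 ⟨0, by omega⟩
  let d : ℕ → G := fun i => Nat.rec (π (emb o ho (dd C hF))) step i
  have hd : ∀ i (hi : i < n), d i ∈ U ⟨i, hi⟩ ∧ d i ^ 3 = 1 ∧ d i ≠ 1 ∧ P i (d i) (d (i + 1)) := by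
    have key : ∀ i (hi : i < n), d i ∈ U ⟨i, hi⟩ → d i ^ 3 = 1 → d i ≠ 1 → P i (d i) (d (i + 1)) := by
      intro i hi m m3 m1 hi'
      have hex : ∃ e, P i (d i) e := by
        obtain ⟨π', hπ', -⟩ := good_range C hF (h2 ⟨i, hi⟩ ⟨i + 1, hi'⟩ rfl)
        obtain ⟨e, he, e3, e1, er⟩ := exists_next C hF hπ' (hw' i hi).1 (hw' i hi).2.1 (hw' i hi).2.2 m m3 m1
        exact ⟨e, fun _ => ⟨he, e3, e1, er⟩⟩
      show _ ∧ _
      rw [show d (i + 1) = hex.choose from dif_pos hex]
      exact hex.choose_spec hi'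
    intro i
    induction i with
    | zero =>
      intro hi
      have m : d 0 ∈ U ⟨0, hi⟩ := hr ▸ ⟨dd C hF, rfl⟩
      have m3 : d 0 ^ 3 = 1 := by
        show π (emb o ho (dd C hF)) ^ 3 = 1
        rw [← map_pow, ← map_pow, dd_three, map_one, map_one]
      have m1 : d 0 ≠ 1 := fun e => dd_ne C hF (hπ.inj C hF o ho (e.trans (map_one _).symm))
      exact ⟨m, m3, m1, key 0 hi m m3 m1⟩
    | succ i ih =>
      intro hi
      obtain ⟨-, -, -, p⟩ := ih (by omega)
      obtain ⟨m, m3, m1, -⟩ := p hi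
      exact ⟨m, m3, m1, key (i + 1) hi m m3 m1⟩
  exact ⟨d, w', fun i hi => ⟨(hd i hi).1, (hd i hi).2.1, (hd i hi).2.2.1⟩, hw',
    fun i hi => ((hd i (by omega)).2.2.2 hi).2.2.2⟩

/-- Compatible maps of `SU₄(2)` onto the consecutive triples. -/
theorem exists_quads
    (h4 : ∀ i j k : Fin n, (i : ℕ) + 1 = j → (j : ℕ) + 1 = k →
      ∃ g : ↥(Cfsg.SU 4 F 2) →* ↥(V i j ⊔ V j k), Function.Surjective g) :
    ∃ P : ℕ → (↥(Cfsg.SU 4 F 2) →* G), ∀ i (hi : i + 2 < n),
      ((P i).comp (emb 0 (show 0 + 3 ≤ 4 by decide))).range = V ⟨i, by omega⟩ ⟨i + 1, by omega⟩ ∧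
      ((P i).comp (emb 1 (show 1 + 3 ≤ 4 by decide))).range = V ⟨i + 1, by omega⟩ ⟨i + 2, hi⟩ ∧
      ((P i).comp (emb 2 (show 2 + 2 ≤ 4 by decide))).range = U ⟨i + 2, hi⟩ ∧
      (i + 3 < n → ∀ s : Cfsg.SU 3 F 2, P (i + 1) (emb 0 (show 0 + 3 ≤ 4 by decide) s) =
        P i (emb 1 (show 1 + 3 ≤ 4 by decide) s)) := by
  classical
  obtain ⟨d, w, hd, hw, hrel⟩ := exists_gens C hF hn U V h1 h2
  have hpair : ∀ i (hi : i + 1 < n), w (i + 1) * d i * w (i + 1) = d i * d (i + 1) ∧ Commute (d i) (d (i + 1)) := by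
    intro i hi
    obtain ⟨π, hπ, -, hinj⟩ := pair_param C hF hn U V h1 h2 ⟨i, by omega⟩ ⟨i + 1, hi⟩ rfl
    obtain ⟨u, -, -, -, -, hc, hk⟩ := pair_rels C hF hπ hinj (hw i (by omega)).1 (hw i (by omega)).2.1
      (hw i (by omega)).2.2 (hd i (by omega)).1 (hd i (by omega)).2.1 (hd i (by omega)).2.2 (hd _ hi).1 (hd _ hi).2.1
      (hd _ hi).2.2 (hrel i hi)
    exact ⟨hk _ (hw _ hi).1 (hw _ hi).2.1 (hw _ hi).2.2, hc⟩
  have hWD : ∀ i, i < n → w i * d i * w i = (d i)⁻¹ := by
    intro i hi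
    obtain ⟨π, A, B, o, ho, hπ, hr⟩ := block_param C hF hn U V h1 h2 ⟨i, hi⟩
    exact block_invert C hF hπ o ho (hr ▸ (hw i hi).1) (hw i hi).2.1 (hw i hi).2.2 (hr ▸ (hd i hi).1) (hd i hi).2.1
      (hd i hi).2.2
  let Q : ℕ → (SU[4] →* G) → Prop := fun i f => ∀ hi : i + 2 < n, Function.Injective f ∧
    (∀ j : Fin 3, f (emb (j : ℕ) (show (j : ℕ) + 2 ≤ 4 by omega) (dd C hF)) = d (i + j) ∧
      f (emb (j : ℕ) (show (j : ℕ) + 2 ≤ 4 by omega) (ww C hF)) = w (i + j)) ∧
    (f.comp T0).range = V ⟨i, by omega⟩ ⟨i + 1, by omega⟩ ∧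
    (f.comp T1).range = V ⟨i + 1, by omega⟩ ⟨i + 2, hi⟩ ∧
    (f.comp (emb 2 (show 2 + 2 ≤ 4 by decide))).range = U ⟨i + 2, hi⟩
  have hex : ∀ i, ∃ f, Q i f := by
    intro i
    by_cases hi : i + 2 < n
    swap
    · exact ⟨1, fun h => absurd h hi⟩
    set a : Fin n := ⟨i, by omega⟩ with ha
    set b : Fin n := ⟨i + 1, by omega⟩ with hb
    set c : Fin n := ⟨i + 2, hi⟩ with hc
    obtain ⟨g0, hg0⟩ := h4 a b c rfl rfl
    let g : SU[4] →* G := (V a b ⊔ V b c).subtype.comp g0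
    have hgr : ∀ {H : Subgroup G}, H ≤ V a b ⊔ V b c → H ≤ g.range := fun hH y hy => by
      obtain ⟨x, hx⟩ := hg0 ⟨y, hH hy⟩
      exact ⟨x, congrArg Subtype.val hx⟩
    have hmem : ∀ j : Fin 3, U ⟨i + j, by omega⟩ ≤ g.range := by
      intro j
      fin_cases j
      · exact hgr ((pair_sub (h2 a b rfl)).1.trans le_sup_left)
      · exact hgr ((pair_sub (h2 a b rfl)).2.trans le_sup_left)
      · exact hgr ((pair_sub (h2 b c rfl)).2.trans le_sup_right)
    have hdr : ∀ j : Fin 3, d (i + j) ∈ g.range := fun j => hmem j (hd _ (by omega)).1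
    have hwr : ∀ j : Fin 3, w (i + j) ∈ g.range := fun j => hmem j (hw _ (by omega)).1
    have ig : Function.Injective g := by
      refine inj_four C hF g (x := w i) (y := d i) (hwr 0) (hdr 0) fun e => ?_
      have e1 := hWD i (by omega)
      rw [e, mul_assoc, (hw i (by omega)).2.1, mul_one] at e1
      refine (hd i (by omega)).2.2 ?_
      have e2 : d i * d i = 1 := by nth_rewrite 2 [e1]; exact mul_inv_cancel _
      have e3 := (hd i (by omega)).2.1
      rwa [pow_succ, pow_two, e2, one_mul] at e3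
    choose D hD using hdr
    choose W hW using hwr
    have hDD : ∀ j k : Fin 3, Commute (d (i + j)) (d (i + k)) := by
      have c01 : Commute (d i) (d (i + 1)) := (hpair i (by omega)).2
      have c12 : Commute (d (i + 1)) (d (i + 2)) := (hpair (i + 1) (by omega)).2
      have c02 : Commute (d i) (d (i + 2)) := h1 a c le_rfl _ (hd i (by omega)).1 _ (hd (i + 2) hi).1
      intro j k
      fin_cases j <;> fin_cases k
      exacts [Commute.refl _, c01, c02, c01.symm, Commute.refl _, c12, c02.symm, c12.symm, Commute.refl _]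
    have R : Rels D W :=
      { D3 := fun j => ig (by rw [map_pow, hD, map_one]; exact (hd _ (by omega)).2.1)
        W2 := fun j => ig (by rw [map_mul, hW, map_one]; exact (hw _ (by omega)).2.1)
        WD := fun j => ig (by rw [map_mul, map_mul, map_inv, hW, hD]; exact hWD _ (by omega))
        r01 := ig (by simp only [map_mul, hW, hD]; exact hrel i (by omega))
        r10 := ig (by simp only [map_mul, hW, hD]; exact (hpair i (by omega)).1)
        r12 := ig (by simp only [map_mul, hW, hD]; exact hrel (i + 1) (by omega))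
        r21 := ig (by simp only [map_mul, hW, hD]; exact (hpair (i + 1) (by omega)).1)
        r02 := ig (by
          rw [map_mul, map_mul, hW, hD]
          exact h1 a c le_rfl _ (hw i (by omega)).1 _ (hd (i + 2) hi).1)
        r20 := ig (by
          rw [map_mul, map_mul, hW, hD]
          exact (h1 a c le_rfl _ (hd i (by omega)).1 _ (hw (i + 2) hi).1).symm)
        DD := fun j k => ig (by rw [map_mul, map_mul, hD, hD]; exact hDD j k) }
    obtain ⟨β, hβ, hβd, hβw⟩ := quad C hF R fun e =>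
      (hd i (by omega)).2.2 ((hD 0).symm.trans (by rw [e, map_one]))
    let f : SU[4] →* G := g.comp β
    have hf : Function.Injective f := ig.comp hβ.1
    have hfd : ∀ j : Fin 3, f (emb (j : ℕ) (show (j : ℕ) + 2 ≤ 4 by omega) (dd C hF)) = d (i + j) := fun j => by
      show g (β _) = _; rw [hβd j, hD]
    have hfw : ∀ j : Fin 3, f (emb (j : ℕ) (show (j : ℕ) + 2 ≤ 4 by omega) (ww C hF)) = w (i + j) := fun j => by
      show g (β _) = _; rw [hβw j, hW]
    have hfr : ∀ {H : Subgroup G}, H ≤ V a b ⊔ V b c → H ≤ f.range := fun hH y hy => by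
      obtain ⟨x, rfl⟩ := hgr hH hy
      obtain ⟨x', rfl⟩ := hβ.2 x
      exact ⟨x', rfl⟩
    obtain ⟨π, hπ, hπr, hπi⟩ := pair_param C hF hn U V h1 h2 a b rfl
    obtain ⟨π', hπ', hπr', hπi'⟩ := pair_param C hF hn U V h1 h2 b c rfl
    have q0 : (f.comp (emb 0 (show 0 + 2 ≤ 4 by decide))).range = U a := hπ.2.1 ▸
      block_range C hF f hf 0 _ π 0 (by decide) hπi (by rw [hπ.2.1, show f (emb 0 _ (dd C hF)) = d i from hfd 0]; exact (hd i (by omega)).1)
        (by rw [hπ.2.1, show f (emb 0 _ (ww C hF)) = w i from hfw 0]; exact (hw i (by omega)).1)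
    have q1 : (f.comp (emb 1 (show 1 + 2 ≤ 4 by decide))).range = U b := hπ.2.2 ▸
      block_range C hF f hf 1 _ π 1 (by decide) hπi (by rw [hπ.2.2, show f (emb 1 _ (dd C hF)) = d (i + 1) from hfd 1]; exact (hd (i + 1) (by omega)).1)
        (by rw [hπ.2.2, show f (emb 1 _ (ww C hF)) = w (i + 1) from hfw 1]; exact (hw (i + 1) (by omega)).1)
    have q2 : (f.comp (emb 2 (show 2 + 2 ≤ 4 by decide))).range = U c := hπ'.2.2 ▸
      block_range C hF f hf 2 _ π' 1 (by decide) hπi' (by rw [hπ'.2.2, show f (emb 2 _ (dd C hF)) = d (i + 2) from hfd 2]; exact (hd (i + 2) hi).1)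
        (by rw [hπ'.2.2, show f (emb 2 _ (ww C hF)) = w (i + 2) from hfw 2]; exact (hw (i + 2) hi).1)
    obtain ⟨u, hu, hu1, hu0', hu1', -, -⟩ := pair_rels C hF hπ hπi (hw i (by omega)).1 (hw i (by omega)).2.1
      (hw i (by omega)).2.2 (hd i (by omega)).1 (hd i (by omega)).2.1 (hd i (by omega)).2.2
      (hd (i + 1) (by omega)).1 (hd (i + 1) (by omega)).2.1 (hd (i + 1) (by omega)).2.2 (hrel i (by omega))
    obtain ⟨v, hv, hv1, hv0', hv1', -, -⟩ := pair_rels C hF hπ' hπi' (hw (i + 1) (by omega)).1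
      (hw (i + 1) (by omega)).2.1 (hw (i + 1) (by omega)).2.2 (hd (i + 1) (by omega)).1 (hd (i + 1) (by omega)).2.1
      (hd (i + 1) (by omega)).2.2 (hd (i + 2) hi).1 (hd (i + 2) hi).2.1 (hd (i + 2) hi).2.2 (hrel (i + 1) hi)
    have t0 : (f.comp T0).range = V a b := hπr ▸
      range_three C hF f hf π hπi (hπr ▸ hfr le_sup_left) 0 _
        (fun s => MonoidHom.mem_range.1 (show π (B0 s) ∈ (f.comp (emb 0 _)).range by
          rw [q0, ← hπ.2.1]; exact ⟨s, rfl⟩))
        (fun s => MonoidHom.mem_range.1 (show π (B1 s) ∈ (f.comp (emb (0 + 1) _)).range by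
          rw [q1, ← hπ.2.2]; exact ⟨s, rfl⟩))
        hu hu1 (hu0'.trans (hfd 0).symm) (hu1'.trans (hfd 1).symm)
    have t1 : (f.comp T1).range = V b c := hπr' ▸
      range_three C hF f hf π' hπi' (hπr' ▸ hfr le_sup_right) 1 _
        (fun s => MonoidHom.mem_range.1 (show π' (B0 s) ∈ (f.comp (emb 1 _)).range by
          rw [q1, ← hπ'.2.1]; exact ⟨s, rfl⟩))
        (fun s => MonoidHom.mem_range.1 (show π' (B1 s) ∈ (f.comp (emb (1 + 1) _)).range by
          rw [q2, ← hπ'.2.2]; exact ⟨s, rfl⟩))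
        hv hv1 (hv0'.trans (hfd 1).symm) (hv1'.trans (hfd 2).symm)
    exact ⟨f, fun _ => ⟨hf, fun j => ⟨hfd j, hfw j⟩, t0, t1, q2⟩⟩
  choose P hP using hex
  refine ⟨P, fun i hi => ⟨(hP i hi).2.2.1, (hP i hi).2.2.2.1, (hP i hi).2.2.2.2, fun hi3 s => ?_⟩⟩
  obtain ⟨-, va, -, ra, -⟩ := hP i hi
  obtain ⟨ib, vb, rb, -, -⟩ := hP (i + 1) (by omega)
  have key : (P i).comp T1 = (P (i + 1)).comp T0 := by
    refine hom_ext C hF _ _ (ib.comp (emb_injective 0 _)) (le_of_eq (ra.trans rb.symm)) ?_ ?_ ?_ ?_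
    all_goals simp only [MonoidHom.comp_apply]
    · rw [emb_emb 1 _ 0 _ 1 (show 1 + 2 ≤ 4 by decide) rfl, emb_emb 0 _ 0 _ 0 (show 0 + 2 ≤ 4 by decide) rfl]
      exact (va 1).1.trans (vb 0).1.symm
    · rw [emb_emb 1 _ 0 _ 1 (show 1 + 2 ≤ 4 by decide) rfl, emb_emb 0 _ 0 _ 0 (show 0 + 2 ≤ 4 by decide) rfl]
      exact (va 1).2.trans (vb 0).2.symm
    · rw [emb_emb 1 _ 1 _ 2 (show 2 + 2 ≤ 4 by decide) rfl, emb_emb 0 _ 1 _ 1 (show 1 + 2 ≤ 4 by decide) rfl]
      exact (va 2).1.trans (vb 1).1.symm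
    · rw [emb_emb 1 _ 1 _ 2 (show 2 + 2 ≤ 4 by decide) rfl, emb_emb 0 _ 1 _ 1 (show 1 + 2 ≤ 4 by decide) rfl]
      exact (va 2).2.trans (vb 1).2.symm
  exact (DFunLike.congr_fun key s).symm

end system

omit C in
/-- A weak Phan system over the field with four elements generates an image of the special unitary group. -/
theorem weak_system_two {G : Type*} [Group G] {n : ℕ} (hn : 4 ≤ n)
    (U : Fin n → Subgroup G) (V : Fin n → Fin n → Subgroup G)
    (h1 : ∀ i j : Fin n, (i : ℕ) + 2 ≤ j → ∀ x ∈ U i, ∀ y ∈ U j, x * y = y * x)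
    (h2 : ∀ i j : Fin n, (i : ℕ) + 1 = j → Cfsg.IsStandardUnitaryPair (V i j) (U i) (U j) F 2)
    (hgen : (⨆ i, U i) ⊔ (⨆ (i : Fin n) (j : Fin n) (_ : (i : ℕ) + 1 = j), V i j) = ⊤)
    (h4 : ∀ i j k : Fin n, (i : ℕ) + 1 = j → (j : ℕ) + 1 = k →
      ∃ g : ↥(Cfsg.SU 4 F 2) →* ↥(V i j ⊔ V j k), Function.Surjective g)
    (h5 : ∀ i j k : Fin n, (j : ℕ) + 1 = k → ((i : ℕ) + 2 ≤ j ∨ (k : ℕ) + 2 ≤ i) →
      ∀ x ∈ U i, ∀ y ∈ V j k, x * y = y * x)
    (h6 : ∀ i j k l : Fin n, (i : ℕ) + 1 = j → (k : ℕ) + 1 = l → (j : ℕ) + 2 ≤ k →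
      ∀ x ∈ V i j, ∀ y ∈ V k l, x * y = y * x) :
    ∃ f : SU[n + 1] →* G, Function.Surjective f := by
  obtain ⟨C⟩ := AutPSU.exists_conj hF
  obtain ⟨P, hP⟩ := exists_quads C hF (by omega) U V h1 h2 h4
  have hV0 : ∀ i (hi : i + 2 < n) s, P i (T0 s) ∈ V ⟨i, by omega⟩ ⟨i + 1, by omega⟩ := fun i hi s =>
    (hP i hi).1 ▸ ⟨s, rfl⟩
  suffices H : ∀ m, 4 ≤ m → m ≤ n + 1 →
      ∃ f : SU[m] →* G, ∀ i (hi : i + 4 ≤ m) (s : SU[4]), f (emb i hi s) = P i s by
    obtain ⟨f, hf⟩ := H (n + 1) (by omega) le_rfl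
    refine ⟨f, MonoidHom.range_eq_top.1 (top_le_iff.1 (hgen ▸ ?_))⟩
    have hVr : ∀ i j : Fin n, (i : ℕ) + 1 = j → V i j ≤ f.range := by
      intro i j hij
      by_cases h : (i : ℕ) + 2 < n
      · obtain rfl : (⟨i + 1, Nat.lt_of_succ_lt h⟩ : Fin n) = j := Fin.ext hij
        have e : V i ⟨i + 1, by omega⟩ = _ := (hP i h).1.symm
        rw [e]
        rintro _ ⟨s, rfl⟩
        exact ⟨_, hf i (by omega) (T0 s)⟩
      · obtain ⟨i, hi⟩ := i
        obtain ⟨j, hj⟩ := j
        simp only at hij h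
        obtain ⟨l, rfl⟩ : ∃ l, i = l + 1 := ⟨i - 1, by omega⟩
        obtain rfl : j = l + 2 := by omega
        rw [← (hP l _).2.1]
        rintro _ ⟨s, rfl⟩
        exact ⟨_, hf l (by omega) (T1 s)⟩
    refine sup_le (iSup_le fun i => ?_) (iSup_le fun i => iSup_le fun j => iSup_le fun hij => hVr i j hij)
    by_cases hi : (i : ℕ) + 1 < n
    · exact (pair_sub (h2 i ⟨i + 1, hi⟩ rfl)).1.trans (hVr _ _ rfl)
    · have e : ((⟨i - 1, by omega⟩ : Fin n) : ℕ) + 1 = i := by simp only; omega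
      exact (pair_sub (h2 _ i e)).2.trans (hVr _ _ e)
  intro m hm
  induction m, hm using Nat.le_induction with
  | base =>
    intro _
    refine ⟨P 0, fun i hi s => ?_⟩
    obtain rfl : i = 0 := by omega
    rw [emb_id]
  | succ m hm ih =>
    intro hmn
    obtain ⟨f0, hf0⟩ := ih (by omega)
    obtain ⟨f, hfa, hfb⟩ := stage C hF hm f0 (P (m - 3)) (fun s => by
        have e := (hP (m - 4) (by omega)).2.2.2 (by omega) s
        rw [show m - 4 + 1 = m - 3 by omega] at e
        rw [e, ← hf0 (m - 4) (by omega), emb_emb (m - 4) _ 1 _ (m - 3) (show m - 3 + 3 ≤ m by omega) (by omega)])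
      (fun s t => by
        have hU : P (m - 3) (emb 2 (show 2 + 2 ≤ 4 by omega) s) ∈ U ⟨m - 3 + 2, by omega⟩ :=
          (hP (m - 3) (by omega)).2.2.1 ▸ ⟨s, rfl⟩
        generalize P (m - 3) (emb 2 (show 2 + 2 ≤ 4 by omega) s) = a at hU ⊢
        have htop := gen_three C hF (show 3 ≤ m - 1 by omega)
          ((Subgroup.centralizer {a}).comap (f0.comp (emb 0 (show 0 + (m - 1) ≤ m by omega)))) fun i hi r => by
          rw [Subgroup.mem_comap, MonoidHom.comp_apply, Subgroup.mem_centralizer_singleton_iff,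
            emb_emb 0 _ i hi i (show i + 3 ≤ m by omega) (by omega) r,
            ← emb_emb i (show i + 4 ≤ m by omega) 0 (show 0 + 3 ≤ 4 by omega) i _ (by omega) r, hf0]
          exact (h5 ⟨m - 3 + 2, by omega⟩ ⟨i, by omega⟩ ⟨i + 1, by omega⟩ rfl
            (Or.inr (by simp only; omega)) a hU _ (hV0 i (by omega) r)).symm
        have h := Subgroup.mem_comap.1 (htop ▸ Subgroup.mem_top t)
        rw [Subgroup.mem_centralizer_singleton_iff] at h
        exact h.symm)
      (fun hm5 s t => by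
        subst hm5
        have hA : P 2 (T1 s) ∈ V ⟨3, by omega⟩ ⟨4, by omega⟩ := (hP 2 (by omega)).2.1 ▸ ⟨s, rfl⟩
        have e : f0 (emb 0 (show 0 + 3 ≤ 5 by omega) t) = P 0 (T0 t) := by
          rw [← hf0 0 (by omega), emb_emb 0 _ 0 _ 0 (show 0 + 3 ≤ 5 by omega) rfl]
        show Commute (P 2 (T1 s)) _
        rw [e]
        exact (h6 ⟨0, by omega⟩ ⟨1, by omega⟩ ⟨3, by omega⟩ ⟨4, by omega⟩ rfl rfl (by simp only; omega) _
          (hV0 0 (by omega) t) _ hA).symm)
    refine ⟨f, fun i hi s => ?_⟩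
    by_cases h : i + 4 ≤ m
    · have e := hfa (emb i h s)
      rw [hf0 i h s] at e
      rw [← e]
      congr 1
      exact (emb_emb 0 _ i h i hi (by omega) s).symm
    · obtain rfl : i = m - 3 := by omega
      exact hfb s

end Cfsg.Agent.Phan.Two
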