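import Cfsg.Agent.Lib.Phan.TwoSmall
import Cfsg.Agent.Lib.Classical.UnitaryStd

/-!
Standard pairs over the field with four elements.
-/

set_option autoImplicit false
set_option linter.unusedSectionVars false
set_option linter.unusedSimpArgs false
set_option linter.style.show false
set_option maxHeartbeats 1000000

namespace Cfsg.Agent.Phan.Two

open Matrix
open Cfsg.Agent.AutPSU (Conj h act act_mul act_one act_inv_act act_pres ext_act)

variable {F : Type*} [Field F] [Fintype F]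

local notation "SU[" n "]" => Cfsg.SU n F 2
local notation "B0" => emb (F := F) (q := 2) (k := 2) (n := 3) 0 (by decide)
local notation "B1" => emb (F := F) (q := 2) (k := 2) (n := 3) 1 (by decide)

variable (C : Conj F 2) (hF : Fintype.card F = 2 ^ 2)
include C hF

/-- A standard pair has a parametrisation with the whole of it as image. -/
theorem good_range {G : Type*} [Group G] {V A B : Subgroup G} (hp : Cfsg.IsStandardUnitaryPair V A B F 2) :
    ∃ π : Cfsg.SU 3 F 2 →* G, Good π A B ∧ π.range = V := by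
  obtain ⟨π, hπ, -⟩ := good_of_pair C hp
  have e0 := suBlock_eq (F := F) (q := 2) C (k := 2) (n := 3) 0 (by decide) (S := {0, 1}) (by decide)
  have e1 := suBlock_eq (F := F) (q := 2) C (k := 2) (n := 3) 1 (by decide) (S := {1, 2}) (by decide)
  rcases hp with ⟨ψ, hA, hB⟩ | ⟨ψ, hA, hB⟩
  · rw [e0, MonoidHom.map_range] at hA
    rw [e1, MonoidHom.map_range] at hB
    refine ⟨_, ⟨?_, hA, hB⟩, le_antisymm ?_ fun v hv =>
      ⟨ψ.symm ⟨v, hv⟩, congrArg Subtype.val (ψ.apply_symm_apply ⟨v, hv⟩)⟩⟩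
    · intro x hx
      have : x = 1 := ψ.injective ((Subtype.ext hx : ψ x = 1).trans (map_one ψ).symm)
      rw [this]; exact one_mem _
    · rintro _ ⟨x, rfl⟩; exact SetLike.coe_mem _
  · rw [e0, MonoidHom.map_range] at hA
    rw [e1, MonoidHom.map_range] at hB
    refine ⟨_, ⟨?_, hA, hB⟩, le_antisymm ?_ fun v hv => ?_⟩
    · intro x hx
      exact (QuotientGroup.eq_one_iff x).1 (ψ.injective ((Subtype.ext hx : ψ (QuotientGroup.mk x) = 1).trans
        (map_one ψ).symm))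
    · rintro _ ⟨x, rfl⟩; exact SetLike.coe_mem _
    · obtain ⟨x, hx⟩ := QuotientGroup.mk_surjective (ψ.symm ⟨v, hv⟩)
      exact ⟨x, by
        show (ψ (QuotientGroup.mk x)).1 = v
        rw [hx, ψ.apply_symm_apply]⟩

/-- Conjugation of one standard torus by an involution of the neighbouring block. -/
theorem conj_form {n : ℕ} (o : ℕ) (ho : o + 3 ≤ n) {s u : SU[2]} (hs : s * s = 1) (hs1 : s ≠ 1)
    (hu : u ^ 3 = 1) (hu1 : u ≠ 1) :
    (emb o (show o + 2 ≤ n by omega) s : SU[n]) * emb (o + 1) (show o + 1 + 2 ≤ n by omega) u *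
        emb o (show o + 2 ≤ n by omega) s =
      emb o (show o + 2 ≤ n by omega) u * emb (o + 1) (show o + 1 + 2 ≤ n by omega) u ∧
    (emb (o + 1) (show o + 1 + 2 ≤ n by omega) s : SU[n]) * emb o (show o + 2 ≤ n by omega) u *
        emb (o + 1) (show o + 1 + 2 ≤ n by omega) s =
      emb o (show o + 2 ≤ n by omega) u * emb (o + 1) (show o + 1 + 2 ≤ n by omega) u ∧
    Commute (emb o (show o + 2 ≤ n by omega) u : SU[n]) (emb (o + 1) (show o + 1 + 2 ≤ n by omega) u) := by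
  obtain ⟨r0, r1, rc⟩ := rel_std C hF o ho
  obtain ⟨⟨t, ht, rfl⟩, -⟩ := two_anti C hF (two_inv C hF hs hs1)
  set A := (emb o (show o + 2 ≤ n by omega) : SU[2] →* SU[n])
  set B := (emb (o + 1) (show o + 1 + 2 ≤ n by omega) : SU[2] →* SU[n])
  set X := A (dd C hF) with hX
  set Y := B (dd C hF) with hY
  have hcX : ∀ (f : SU[2] →* SU[n]) Z, Commute (f (dd C hF)) Z → Commute (f t) Z := by
    intro f Z h
    rcases ht with rfl | rfl | rfl
    · rw [map_one]; exact Commute.one_left Z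
    · exact h
    · rw [map_mul]; exact h.mul_left h
  have ct : ∀ f : SU[2] →* SU[n], Commute (f (dd C hF)) (f (dd C hF)) := fun f => Commute.refl _
  have a1 : A (t * ww C hF) * Y * A (t * ww C hF) = X * Y := by
    have h1 : (A (t * ww C hF))⁻¹ = A (t * ww C hF) :=
      inv_eq_of_mul_eq_one_right (by rw [← map_mul, hs, map_one])
    calc A (t * ww C hF) * Y * A (t * ww C hF) = A (t * ww C hF) * Y * (A (t * ww C hF))⁻¹ := by rw [h1]
      _ = A t * (A (ww C hF) * Y * (A (ww C hF))⁻¹) * (A t)⁻¹ := by rw [map_mul]; group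
      _ = A t * (X * Y) * (A t)⁻¹ := by
        rw [inv_eq_of_mul_eq_one_right (show A (ww C hF) * A (ww C hF) = 1 by rw [← map_mul, ww_sq, map_one]), r0]
      _ = X * Y := by rw [((hcX A X (ct A)).mul_right (hcX A Y rc)).eq, mul_inv_cancel_right]
  have a2 : B (t * ww C hF) * X * B (t * ww C hF) = X * Y := by
    have h1 : (B (t * ww C hF))⁻¹ = B (t * ww C hF) :=
      inv_eq_of_mul_eq_one_right (by rw [← map_mul, hs, map_one])
    calc B (t * ww C hF) * X * B (t * ww C hF) = B (t * ww C hF) * X * (B (t * ww C hF))⁻¹ := by rw [h1]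
      _ = B t * (B (ww C hF) * X * (B (ww C hF))⁻¹) * (B t)⁻¹ := by rw [map_mul]; group
      _ = B t * (X * Y) * (B t)⁻¹ := by
        rw [inv_eq_of_mul_eq_one_right (show B (ww C hF) * B (ww C hF) = 1 by rw [← map_mul, ww_sq, map_one]), r1]
      _ = X * Y := by rw [((hcX B X rc.symm).mul_right (hcX B Y (ct B))).eq, mul_inv_cancel_right]
  rcases two_three C hF hu hu1 with rfl | rfl
  · exact ⟨a1, a2, rc⟩
  · have gen : ∀ P Q : SU[n], P * P = 1 → P * (Q * Q) * P = (P * Q * P) * (P * Q * P) := fun P Q h => by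
      rw [show P * Q * P * (P * Q * P) = P * Q * (P * P) * Q * P by group, h]; group
    have hA : A (t * ww C hF) * A (t * ww C hF) = 1 := by rw [← map_mul, hs, map_one]
    have hB : B (t * ww C hF) * B (t * ww C hF) = 1 := by rw [← map_mul, hs, map_one]
    rw [map_mul A (dd C hF) (dd C hF), map_mul B (dd C hF) (dd C hF)]
    refine ⟨?_, ?_, (rc.mul_right rc).mul_left (rc.mul_right rc)⟩
    · rw [gen _ _ hA]
      show A (t * ww C hF) * Y * A (t * ww C hF) * (A (t * ww C hF) * Y * A (t * ww C hF)) = _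
      rw [a1]; exact rc.symm.mul_mul_mul_comm _ _
    · rw [gen _ _ hB]
      show B (t * ww C hF) * X * B (t * ww C hF) * (B (t * ww C hF) * X * B (t * ww C hF)) = _
      rw [a2]; exact rc.symm.mul_mul_mul_comm _ _

theorem invert_form {s u : SU[2]} (hs : s * s = 1) (hs1 : s ≠ 1) (hu : u ^ 3 = 1) (hu1 : u ≠ 1) :
    s * u * s = u⁻¹ := by
  have ha := two_inv C hF hs hs1
  have hu' : en u 1 0 = 0 := by
    rcases two_three C hF hu hu1 with rfl | rfl
    · exact (dd_spec C hF).2.2.1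
    · rw [en_mul2, (dd_spec C hF).2.2.1]; ring
  have h := (two_anti C hF (s := s * u) (by rw [en_mul2, ha, hu', mul_zero, zero_mul, add_zero])).2
  rw [← mul_assoc] at h
  exact eq_inv_of_mul_eq_one_left h

section pair

variable {G : Type*} [Group G] {π : Cfsg.SU 3 F 2 →* G} {A B : Subgroup G}

/-- Elements of order dividing three or two in a block. -/
theorem block_elt (hπ : Good π A B) (o : ℕ) (ho : o + 2 ≤ 3) {x : G} (hx : x ∈ (π.comp (emb o ho)).range)
    (k : ℕ) (hk : x ^ k = 1) (h1 : x ≠ 1) :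
    ∃ s : SU[2], s ^ k = 1 ∧ s ≠ 1 ∧ π (emb o ho s) = x := by
  obtain ⟨s, rfl⟩ := hx
  exact ⟨s, hπ.inj C hF o ho (by rw [map_pow, map_one, hk]), fun e => h1 (by rw [e, map_one]), rfl⟩

theorem move_left (hπ : Good π A B) {w d : G} (hw : w ∈ A) (hw2 : w * w = 1) (hw1 : w ≠ 1)
    (hd : d ∈ B) (hd3 : d ^ 3 = 1) (hd1 : d ≠ 1) : w * d * w ≠ d := by
  obtain ⟨s, hs, hs1, rfl⟩ := block_elt C hF hπ 0 _ (hπ.2.1 ▸ hw) 2 (by rw [pow_two]; exact hw2) hw1
  obtain ⟨u, hu, hu1, rfl⟩ := block_elt C hF hπ 1 _ (hπ.2.2 ▸ hd) 3 hd3 hd1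
  rw [← map_mul, ← map_mul, (conj_form C hF (n := 3) 0 le_rfl (by rw [← pow_two]; exact hs) hs1 hu hu1).1, map_mul]
  intro e
  exact hu1 (hπ.inj C hF 0 (by decide) ((mul_eq_right.1 e).trans (map_one _).symm))

theorem move_right (hπ : Good π A B) {w d : G} (hw : w ∈ B) (hw2 : w * w = 1) (hw1 : w ≠ 1)
    (hd : d ∈ A) (hd3 : d ^ 3 = 1) (hd1 : d ≠ 1) : w * d * w ≠ d := by
  obtain ⟨s, hs, hs1, rfl⟩ := block_elt C hF hπ 1 _ (hπ.2.2 ▸ hw) 2 (by rw [pow_two]; exact hw2) hw1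
  obtain ⟨u, hu, hu1, rfl⟩ := block_elt C hF hπ 0 _ (hπ.2.1 ▸ hd) 3 hd3 hd1
  rw [← map_mul, ← map_mul, (conj_form C hF (n := 3) 0 le_rfl (by rw [← pow_two]; exact hs) hs1 hu hu1).2.1, map_mul]
  intro e
  exact hu1 (hπ.inj C hF 1 (by decide) ((mul_eq_left.1 e).trans (map_one _).symm))

theorem exists_next (hπ : Good π A B) {w d : G} (hw : w ∈ A) (hw2 : w * w = 1) (hw1 : w ≠ 1)
    (hd : d ∈ A) (hd3 : d ^ 3 = 1) (hd1 : d ≠ 1) :
    ∃ e ∈ B, e ^ 3 = 1 ∧ e ≠ 1 ∧ w * e * w = d * e := by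
  obtain ⟨s, hs, hs1, rfl⟩ := block_elt C hF hπ 0 _ (hπ.2.1 ▸ hw) 2 (by rw [pow_two]; exact hw2) hw1
  obtain ⟨u, hu, hu1, rfl⟩ := block_elt C hF hπ 0 _ (hπ.2.1 ▸ hd) 3 hd3 hd1
  refine ⟨π (B1 u), (by rw [← hπ.2.2]; exact ⟨u, rfl⟩), by rw [← map_pow, ← map_pow, hu, map_one, map_one],
    fun e => hu1 (hπ.inj C hF 1 (by decide) (e.trans (map_one _).symm)), ?_⟩
  rw [← map_mul, ← map_mul, (conj_form C hF (n := 3) 0 le_rfl (by rw [← pow_two]; exact hs) hs1 hu hu1).1, map_mul]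

theorem pair_rels (hπ : Good π A B) (hinj : Function.Injective π) {w d e : G} (hw : w ∈ A) (hw2 : w * w = 1)
    (hw1 : w ≠ 1) (hd : d ∈ A) (hd3 : d ^ 3 = 1) (hd1 : d ≠ 1) (he : e ∈ B) (he3 : e ^ 3 = 1) (he1 : e ≠ 1)
    (hrel : w * e * w = d * e) :
    ∃ u : SU[2], u ^ 3 = 1 ∧ u ≠ 1 ∧ π (B0 u) = d ∧ π (B1 u) = e ∧ Commute d e ∧
      ∀ w' ∈ B, w' * w' = 1 → w' ≠ 1 → w' * d * w' = d * e := by
  obtain ⟨s, hs, hs1, rfl⟩ := block_elt C hF hπ 0 _ (hπ.2.1 ▸ hw) 2 (by rw [pow_two]; exact hw2) hw1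
  obtain ⟨u, hu, hu1, rfl⟩ := block_elt C hF hπ 0 _ (hπ.2.1 ▸ hd) 3 hd3 hd1
  obtain ⟨u', hu', hu1', rfl⟩ := block_elt C hF hπ 1 _ (hπ.2.2 ▸ he) 3 he3 he1
  obtain ⟨c1, -, -⟩ := conj_form C hF (n := 3) 0 le_rfl (s := s) (by rw [← pow_two]; exact hs) hs1 hu' hu1'
  rw [← map_mul, ← map_mul, ← map_mul, c1] at hrel
  have e' : u' = u := emb_injective 0 _ (mul_right_cancel (hinj hrel))
  subst e'
  refine ⟨u', hu', hu1', rfl, rfl, ?_, fun w' hw' hw2' hw1' => ?_⟩
  · exact (conj_form C hF (n := 3) 0 le_rfl (s := s) (by rw [← pow_two]; exact hs) hs1 hu' hu1').2.2.map π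
  · obtain ⟨s', hs', hs1', rfl⟩ := block_elt C hF hπ 1 _ (hπ.2.2 ▸ hw') 2 (by rw [pow_two]; exact hw2') hw1'
    rw [← map_mul, ← map_mul, ← map_mul,
      (conj_form C hF (n := 3) 0 le_rfl (s := s') (by rw [← pow_two]; exact hs') hs1' hu' hu1').2.1]

theorem block_invert (hπ : Good π A B) (o : ℕ) (ho : o + 2 ≤ 3) {w d : G} (hw : w ∈ (π.comp (emb o ho)).range)
    (hw2 : w * w = 1) (hw1 : w ≠ 1) (hd : d ∈ (π.comp (emb o ho)).range) (hd3 : d ^ 3 = 1) (hd1 : d ≠ 1) :
    w * d * w = d⁻¹ := by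
  obtain ⟨s, hs, hs1, rfl⟩ := block_elt C hF hπ o _ hw 2 (by rw [pow_two]; exact hw2) hw1
  obtain ⟨u, hu, hu1, rfl⟩ := block_elt C hF hπ o _ hd 3 hd3 hd1
  rw [← map_mul, ← map_mul, ← map_mul, ← map_mul, invert_form C hF (by rw [← pow_two]; exact hs) hs1 hu hu1,
    map_inv, map_inv]

/-- A non-injective pair identifies the tori of its blocks. -/
theorem tori_eq (hπ : Good π A B) (h : ¬ Function.Injective π) :
    π (B0 (dd C hF)) = π (B1 (dd C hF)) := by
  obtain ⟨z, hz, hz1⟩ : ∃ z ∈ π.ker, z ≠ 1 := by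
    by_contra! hc
    exact h ((injective_iff_map_eq_one π).2 fun x hx => hc x hx)
  obtain ⟨c, hc⟩ := (AutPSU.mem_center_iff C (by decide) hF z).1 (hπ.1 hz)
  obtain ⟨h0, h1, h3, -⟩ := om_spec C hF
  have hc0 : c ≠ 0 := fun e => AutPSU.act_ne_zero z (x := (bv 0 : Fin 3 → F))
    (fun e' => by simpa [bv] using congrFun e' 0) (by rw [hc, e, zero_smul])
  set X : SU[3] := B0 (dd C hF) * B1 (dd C hF) * B1 (dd C hF) with hX
  have hXb : ∀ j, act X (bv j) = om C hF • (bv j : Fin 3 → F) := fun j => by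
    rw [hX, act_mul, act_mul, D_act, AutPSU.act_smul, D_act, AutPSU.act_smul, AutPSU.act_smul, D_act, smul_smul,
      smul_smul]
    congr 1
    fin_cases j <;> simp [wt] <;> first
      | linear_combination (0 : F)
      | linear_combination (om C hF) * h3
  have key : ∀ w : SU[3], (∀ j, act w (bv j) = om C hF • (bv j : Fin 3 → F)) → w ∈ π.ker → X ∈ π.ker :=
    fun w hw hwk => (ext_bv (s := X) (t := w) fun j => by rw [hXb, hw]) ▸ hwk
  have hXk : X ∈ π.ker := by
    rcases field_cases C hF hc0 with rfl | rfl | rfl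
    · exact absurd (ext_act fun x => by rw [hc, one_smul, act_one]) hz1
    · exact key z (fun j => hc _) hz
    · exact key (z * z) (fun j => by
        rw [act_mul, hc, hc, smul_smul]; congr 1; linear_combination (om C hF) * h3) (mul_mem hz hz)
  have hk := MonoidHom.mem_ker.1 hXk
  rw [hX, map_mul, map_mul] at hk
  have h3' : π (B1 (dd C hF)) * π (B1 (dd C hF)) * π (B1 (dd C hF)) = 1 := by
    rw [← map_mul, ← map_mul, ← map_mul, ← map_mul, ← pow_two, ← pow_succ, dd_three, map_one, map_one]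
  exact mul_right_cancel (b := π (B1 (dd C hF)) * π (B1 (dd C hF))) (by rw [← mul_assoc, ← mul_assoc, hk, h3'])

end pair

/-- Maps of `SU₄(2)` with non-abelian image are injective. -/
theorem inj_four {G : Type*} [Group G] (g : SU[4] →* G) {x y : G} (hx : x ∈ g.range) (hy : y ∈ g.range)
    (hxy : x * y ≠ y * x) : Function.Injective g := by
  haveI : IsSimpleGroup (Cfsg.PSU 4 F 2) := by
    obtain ⟨σ, -, hf, hq'⟩ := UnitaryStd.exists_setup (n := 4) hF (by omega)
    exact UnitaryStd.isSimpleGroup_psu hf (by decide) (fun h => absurd h (by decide))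
  have hcen : ∀ s ∈ Subgroup.center SU[4], s = 1 := by
    intro s hs
    obtain ⟨c, hc⟩ := (AutPSU.mem_center_iff C (by decide) hF s).1 hs
    have hM : (s : Matrix.SpecialLinearGroup (Fin 4) F).1 = c • (1 : Matrix (Fin 4) (Fin 4) F) :=
      Matrix.ext_of_mulVec_single fun i => by
        rw [Matrix.smul_mulVec, Matrix.one_mulVec]; exact hc _
    have hd := (s : Matrix.SpecialLinearGroup (Fin 4) F).2
    rw [hM, Matrix.det_smul, Matrix.det_one, mul_one, Fintype.card_fin] at hd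
    have hc0 : c ≠ 0 := fun e => by simp [e] at hd
    have hc1 : c = 1 := by linear_combination hd - c * cube C hF hc0
    exact ext_act fun x => by rw [hc, hc1, one_smul, act_one]
  have hn : (g.ker.map (QuotientGroup.mk' (Subgroup.center SU[4]))).Normal :=
    Subgroup.Normal.map inferInstance _ (QuotientGroup.mk'_surjective _)
  rcases hn.eq_bot_or_eq_top with e | e
  · refine (injective_iff_map_eq_one g).2 fun k hk => hcen k ?_
    have : (QuotientGroup.mk' (Subgroup.center SU[4])) k ∈ (⊥ : Subgroup (Cfsg.PSU 4 F 2)) := e ▸ ⟨k, hk, rfl⟩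
    exact (QuotientGroup.eq_one_iff k).1 (Subgroup.mem_bot.1 this)
  · exfalso
    have key : ∀ u : SU[4], g u = 1 := fun u => by
      obtain ⟨k, hk, hku⟩ : (QuotientGroup.mk' (Subgroup.center SU[4])) u ∈
          g.ker.map (QuotientGroup.mk' (Subgroup.center SU[4])) := e ▸ Subgroup.mem_top _
      have := hcen _ (QuotientGroup.eq.1 hku)
      rw [inv_mul_eq_one] at this
      exact this ▸ hk
    obtain ⟨u, rfl⟩ := hx
    rw [key u, one_mul, mul_one] at hxy
    exact hxy rfl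

end Cfsg.Agent.Phan.Two
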